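import Groth.Agent.StMod.K906.Pres
import Groth.Agent.AlgSt.K734.Yon2
import Groth.Agent.AlgSt.K738.SecRep
import Groth.Agent.AlgSp.K606.YonSec
import Groth.Agent.AlgSp.K597.Chart

/-!
# Sheaves representing spans

`SpanRep ζ ζ' F` : the sheaf `F` represents the spans `ζ ⟵ χ ⟶ ζ'` in `𝒳`, i.e. `F = ζ ×_𝒳 ζ'`.

* `spanWith_of_repWith` : a section `(a, b)` of `F` over `θ` with `RepWith Q` gives `SpanWith Q a b`;
* `exists_spanRep` : from `SecRep` of the 2-fibre product of two functors from slices;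
* `exists_spanRep_atlas` : for `x : (Sch/U) ⟶ 𝒳` with `RepByAlgSpWith P x` and every `ζ`.
-/

set_option autoImplicit false
set_option backward.isDefEq.respectTransparency false
set_option backward.isDefEq.respectTransparency.types false

universe w' v' w v u

open CategoryTheory CategoryTheory.Limits AlgebraicGeometry StMod MorphismProperty Opposite AlgSp

namespace K906.Span

open K906.Grpd K606.YonSec K734.Fib

variable {S : Scheme.{u}} {𝒳 : BasedCategory.{v, w} (Over S)}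

/-- The sheaf `F` represents the spans `ζ ⟵ χ ⟶ ζ'`. -/
structure SpanRep (ζ ζ' : 𝒳.obj) (F : Sp S) where
  /-- the section defined by a span -/
  sec : ∀ {χ : 𝒳.obj} (_ : χ ⟶ ζ) (_ : χ ⟶ ζ'), F.obj.obj (op (𝒳.p.obj χ))
  map : ∀ {χ χ' : 𝒳.obj} (c : χ' ⟶ χ) (a : χ ⟶ ζ) (b : χ ⟶ ζ'),
    F.obj.map (𝒳.p.map c).op (sec a b) = sec (c ≫ a) (c ≫ b)
  full : ∀ {χ χ' : 𝒳.obj} (a : χ ⟶ ζ) (b : χ ⟶ ζ') (a' : χ' ⟶ ζ) (b' : χ' ⟶ ζ')
    (g : 𝒳.p.obj χ' ⟶ 𝒳.p.obj χ), F.obj.map g.op (sec a b) = sec a' b' →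
      ∃ c : χ' ⟶ χ, 𝒳.p.map c = g ∧ c ≫ a = a' ∧ c ≫ b = b'
  surj : ∀ {T : Over S} (s : F.obj.obj (op T)), ∃ (χ : 𝒳.obj) (a : χ ⟶ ζ) (b : χ ⟶ ζ')
    (e : T = 𝒳.p.obj χ), F.obj.map (eqToHom e).op (sec a b) = s

namespace SpanRep

variable {ζ ζ' : 𝒳.obj} {F : Sp S} (R : SpanRep ζ ζ' F)

/-- A span whose map to `F` is representable with `Q` satisfies `SpanWith Q`. -/
theorem spanWith_of_repWith (h : FibCat.IsFibGrpd 𝒳.p) {Q : MorphismProperty Scheme.{u}}
    [Q.IsStableUnderBaseChange] {θ : 𝒳.obj} (a : θ ⟶ ζ) (b : θ ⟶ ζ')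
    (hQ : RepWith Q (ofSec (R.sec a b))) : SpanWith Q a b := by
  intro χ x y
  obtain ⟨W, p, q, sq, hq⟩ := K597.exists_sq2 hQ (ofSec (R.sec x y))
  obtain ⟨π, l, e, hl⟩ := Grpd.exists_lift_iso h χ q
  have hw : F.obj.map p.op (R.sec a b) = F.obj.map q.op (R.sec x y) := by
    have := sq.w
    rw [map_comp_ofSec, map_comp_ofSec] at this
    exact ofSec_injective this
  obtain ⟨k, h1, h2, h3⟩ := R.full a b (l ≫ x) (l ≫ y) (e.hom ≫ p) (by
    rw [← K606.YonSec.map_comp, hw, K606.YonSec.map_comp, ← R.map, ← hl])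
  refine ⟨π, k, l, ⟨h2, h3, ?_⟩, ?_⟩
  · intro ρ k' l' h4 h5
    have h6 : F.obj.map (𝒳.p.map k').op (R.sec a b) = F.obj.map (𝒳.p.map l').op (R.sec x y) := by
      rw [R.map, R.map, h4, h5]
    obtain ⟨t, ht⟩ := (yon S).map_surjective (sq.lift ((yon S).map (𝒳.p.map k')) ((yon S).map (𝒳.p.map l'))
      (by rw [map_comp_ofSec, map_comp_ofSec, h6]))
    have ht1 : t ≫ p = 𝒳.p.map k' := (yon S).map_injective (by rw [Functor.map_comp, ht, sq.lift_fst])
    have ht2 : t ≫ q = 𝒳.p.map l' := (yon S).map_injective (by rw [Functor.map_comp, ht, sq.lift_snd])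
    obtain ⟨u, ⟨hu1, hu2⟩, huu⟩ := Grpd.existsUnique_hom h l l' (t ≫ e.inv) (by rw [hl]; simp [ht2])
    have huk : u ≫ k = k' := by
      refine Grpd.hom_ext h a ?_ ?_
      · rw [Functor.map_comp, hu1, h1]; simp [ht1]
      · rw [Category.assoc, h2, ← Category.assoc, hu2, h4]
    refine ⟨u, ⟨huk, hu2⟩, ?_⟩
    rintro v ⟨hv1, hv2⟩
    refine huu v ⟨?_, hv2⟩
    rw [← cancel_mono e.hom]
    apply (yon S).map_injective
    refine sq.hom_ext ?_ ?_
    · rw [← Functor.map_comp, ← Functor.map_comp, Category.assoc, ← h1, ← Functor.map_comp, hv1]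
      simp [ht1]
    · rw [← Functor.map_comp, ← Functor.map_comp, Category.assoc, ← hl, ← Functor.map_comp, hv2]
      simp [ht2]
  · have : IsIso e.hom.left := by
      have : IsIso ((Over.forget S).map e.hom) := inferInstance
      exact this
    have h7 : bmap 𝒳 l = e.hom.left ≫ q.left := congrArg (fun t => t.left) hl
    have : Q.RespectsIso := MorphismProperty.IsStableUnderBaseChange.respectsIso
    rw [h7]
    exact (cancel_left_of_respectsIso Q e.hom.left q.left).2 hq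

/-- Transport of a representation along isomorphisms of the two objects. -/
noncomputable def ofIso {ζ₁ ζ₁' : 𝒳.obj} (i : ζ ≅ ζ₁) (j : ζ' ≅ ζ₁') : SpanRep ζ₁ ζ₁' F where
  sec a b := R.sec (a ≫ i.inv) (b ≫ j.inv)
  map c a b := by rw [R.map, Category.assoc, Category.assoc]
  full a b a' b' g hg := by
    obtain ⟨c, h1, h2, h3⟩ := R.full _ _ _ _ g hg
    refine ⟨c, h1, ?_, ?_⟩
    · rw [← cancel_mono i.inv, Category.assoc, h2]
    · rw [← cancel_mono j.inv, Category.assoc, h3]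
  surj s := by
    obtain ⟨χ, a, b, e, h⟩ := R.surj s
    refine ⟨χ, a ≫ i.hom, b ≫ j.hom, e, ?_⟩
    simpa using h

end SpanRep

/-- The canonical identification of an object over `y.obj one` with the value of `y`. -/
theorem exists_ident (h : FibCat.IsFibGrpd 𝒳.p) {T : Over S} (y : FibCat.overCat T ⥤ᵇ 𝒳) {χ : 𝒳.obj}
    (a : χ ⟶ y.obj (one T)) {f : (FibCat.overCat T).obj} (e : 𝒳.p.obj χ = f.left)
    (hf : eqToHom e ≫ f.hom = 𝒳.p.map a ≫ eqToHom (y.w_obj (one T))) :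
    ∃ i : χ ≅ y.obj f, IsVert 𝒳 i.hom ∧ i.hom ≫ y.map (toOne f) = a := by
  obtain ⟨i, ⟨h1, h2⟩, -⟩ := Grpd.existsUnique_hom h (y.map (toOne f)) a (eqToHom (e.trans (y.w_obj f).symm)) (by
    rw [map_eq_base, show (FibCat.overCat T).p.map (toOne f) = f.hom from rfl,
      ← cancel_mono (eqToHom (y.w_obj (one T)))]
    simp only [Category.assoc, eqToHom_trans, eqToHom_trans_assoc, eqToHom_refl, Category.comp_id]
    exact hf)
  have hv : IsVert 𝒳 i := isVert_iff.2 ⟨_, h1⟩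
  have := isIso_of_vert h hv
  exact ⟨asIso i, hv, h2⟩

section FromFp

variable {T U : Over S} (y : FibCat.overCat T ⥤ᵇ 𝒳) (x : FibCat.overCat U ⥤ᵇ 𝒳)

/-- The object `z` of the 2-fibre product corresponds to the span `(a, b)` through `i`. -/
structure Adm {χ : 𝒳.obj} (a : χ ⟶ y.obj (one T)) (b : χ ⟶ x.obj (one U)) (z : (FibCat.fp y x).obj)
    (i : χ ≅ y.obj z.obj.fst) : Prop where
  vert : IsVert 𝒳 i.hom
  left : i.hom ≫ y.map (toOne z.obj.fst) = a
  right : i.hom ≫ z.obj.iso.hom ≫ x.map (toOne z.obj.snd) = b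

variable {y x}

theorem Adm.isoVert (z : (FibCat.fp y x).obj) : IsVert 𝒳 z.obj.iso.hom := IsVert.of_lift z.property

theorem Adm.base_eq {χ : 𝒳.obj} {a : χ ⟶ y.obj (one T)} {b : χ ⟶ x.obj (one U)} {z : (FibCat.fp y x).obj}
    {i : χ ≅ y.obj z.obj.fst} (A : Adm y x a b z i) : 𝒳.p.obj χ = (FibCat.fp y x).p.obj z :=
  A.vert.obj_eq.trans (y.w_obj _)

theorem Adm.base_eq' {χ : 𝒳.obj} {a : χ ⟶ y.obj (one T)} {b : χ ⟶ x.obj (one U)} {z : (FibCat.fp y x).obj}
    {i : χ ≅ y.obj z.obj.fst} (A : Adm y x a b z i) : 𝒳.p.obj χ = (FibCat.overCat U).p.obj z.obj.snd :=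
  A.vert.obj_eq.trans ((Adm.isoVert z).obj_eq.trans (x.w_obj _))

theorem Adm.fst_hom {χ : 𝒳.obj} {a : χ ⟶ y.obj (one T)} {b : χ ⟶ x.obj (one U)} {z : (FibCat.fp y x).obj}
    {i : χ ≅ y.obj z.obj.fst} (A : Adm y x a b z i) :
    eqToHom A.base_eq ≫ Over.hom z.obj.fst = 𝒳.p.map a ≫ eqToHom (y.w_obj (one T)) := by
  have e := congrArg 𝒳.p.map A.left
  rw [Functor.map_comp, A.vert.map_eq, map_eq_base,
    show (FibCat.overCat T).p.map (toOne z.obj.fst) = Over.hom z.obj.fst from rfl] at e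
  rw [← e]
  simp

theorem Adm.snd_hom {χ : 𝒳.obj} {a : χ ⟶ y.obj (one T)} {b : χ ⟶ x.obj (one U)} {z : (FibCat.fp y x).obj}
    {i : χ ≅ y.obj z.obj.fst} (A : Adm y x a b z i) :
    eqToHom A.base_eq' ≫ Over.hom z.obj.snd = 𝒳.p.map b ≫ eqToHom (x.w_obj (one U)) := by
  have e := congrArg 𝒳.p.map A.right
  rw [Functor.map_comp, Functor.map_comp, A.vert.map_eq, (Adm.isoVert z).map_eq, map_eq_base,
    show (FibCat.overCat U).p.map (toOne z.obj.snd) = Over.hom z.obj.snd from rfl] at e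
  rw [← e]
  simp

/-- A morphism of spans gives a morphism in the 2-fibre product. -/
theorem Adm.exists_hom (h : FibCat.IsFibGrpd 𝒳.p) {χ χ' : 𝒳.obj} {a : χ ⟶ y.obj (one T)}
    {b : χ ⟶ x.obj (one U)} {a' : χ' ⟶ y.obj (one T)} {b' : χ' ⟶ x.obj (one U)} {z z' : (FibCat.fp y x).obj}
    {i : χ ≅ y.obj z.obj.fst} {i' : χ' ≅ y.obj z'.obj.fst} (A : Adm y x a b z i) (A' : Adm y x a' b' z' i')
    (c : χ' ⟶ χ) (ha : c ≫ a = a') (hb : c ≫ b = b') :
    ∃ m : z' ⟶ z, (FibCat.fp y x).p.map m = eqToHom A'.base_eq.symm ≫ 𝒳.p.map c ≫ eqToHom A.base_eq := by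
  let f : Over.left z'.obj.fst ⟶ Over.left z.obj.fst :=
    eqToHom A'.base_eq.symm ≫ 𝒳.p.map c ≫ eqToHom A.base_eq
  let g : Over.left z'.obj.snd ⟶ Over.left z.obj.snd :=
    eqToHom A'.base_eq'.symm ≫ 𝒳.p.map c ≫ eqToHom A.base_eq'
  have hf : f ≫ Over.hom z.obj.fst = Over.hom z'.obj.fst := by
    have h1 := A.fst_hom
    have h2 := A'.fst_hom
    rw [← cancel_epi (eqToHom A'.base_eq)]
    have ha' : 𝒳.p.map a' = 𝒳.p.map c ≫ 𝒳.p.map a := by rw [← ha, Functor.map_comp]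
    rw [h2, ha']
    simp only [f, Category.assoc, eqToHom_trans_assoc, eqToHom_refl, Category.id_comp]
    rw [h1]
  have hg : g ≫ Over.hom z.obj.snd = Over.hom z'.obj.snd := by
    have h1 := A.snd_hom
    have h2 := A'.snd_hom
    rw [← cancel_epi (eqToHom A'.base_eq')]
    have hb' : 𝒳.p.map b' = 𝒳.p.map c ≫ 𝒳.p.map b := by rw [← hb, Functor.map_comp]
    rw [h2, hb']
    simp only [g, Category.assoc, eqToHom_trans_assoc, eqToHom_refl, Category.id_comp]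
    rw [h1]
  let mf : z'.obj.fst ⟶ z.obj.fst := Over.homMk f hf
  let mg : z'.obj.snd ⟶ z.obj.snd := Over.homMk g hg
  have e1 : i'.hom ≫ y.map mf = c ≫ i.hom := by
    refine Grpd.hom_ext h (y.map (toOne z.obj.fst)) ?_ ?_
    · rw [Functor.map_comp, Functor.map_comp, map_eq_base, A.vert.map_eq, A'.vert.map_eq,
        show (FibCat.overCat T).p.map mf = f from rfl]
      simp [f]
    · rw [Category.assoc, Category.assoc, A.left, ha, ← A'.left, ← Functor.map_comp, toOne_comp]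
  have e2 : i'.hom ≫ z'.obj.iso.hom ≫ x.map mg = c ≫ i.hom ≫ z.obj.iso.hom := by
    refine Grpd.hom_ext h (x.map (toOne z.obj.snd)) ?_ ?_
    · simp only [Functor.map_comp]
      rw [map_eq_base x mg, A.vert.map_eq, A'.vert.map_eq, (Adm.isoVert z).map_eq, (Adm.isoVert z').map_eq,
        show (FibCat.overCat U).p.map mg = g from rfl]
      simp [g]
    · have e3 : x.map mg ≫ x.map (toOne z.obj.snd) = x.map (toOne z'.obj.snd) := by
        rw [← Functor.map_comp, toOne_comp]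
      simp only [Category.assoc]
      rw [e3, A'.right, A.right, hb]
  refine ⟨ObjectProperty.homMk { fst := mf, snd := mg, w := ?_ }, rfl⟩
  change y.map mf ≫ z.obj.iso.hom = z'.obj.iso.hom ≫ x.map mg
  rw [← cancel_epi i'.hom, e2, ← Category.assoc, e1, Category.assoc]

/-- A morphism in the 2-fibre product gives a morphism of spans. -/
theorem Adm.exists_comap {χ χ' : 𝒳.obj} {a : χ ⟶ y.obj (one T)}
    {b : χ ⟶ x.obj (one U)} {a' : χ' ⟶ y.obj (one T)} {b' : χ' ⟶ x.obj (one U)} {z z' : (FibCat.fp y x).obj}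
    {i : χ ≅ y.obj z.obj.fst} {i' : χ' ≅ y.obj z'.obj.fst} (A : Adm y x a b z i) (A' : Adm y x a' b' z' i')
    (m : z' ⟶ z) : ∃ c : χ' ⟶ χ, 𝒳.p.map c = eqToHom A'.base_eq ≫ (FibCat.fp y x).p.map m ≫ eqToHom A.base_eq.symm ∧
      c ≫ a = a' ∧ c ≫ b = b' := by
  have hw : y.map m.hom.fst ≫ z.obj.iso.hom = z'.obj.iso.hom ≫ x.map m.hom.snd := m.hom.w
  refine ⟨i'.hom ≫ y.map m.hom.fst ≫ i.inv, ?_, ?_, ?_⟩
  · rw [Functor.map_comp, Functor.map_comp, map_eq_base, A'.vert.map_eq, A.vert.inv.map_eq,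
      show (FibCat.overCat T).p.map m.hom.fst = (FibCat.fp y x).p.map m from rfl]
    simp
  · rw [← A.left, ← A'.left, ← toOne_comp m.hom.fst, Functor.map_comp]
    simp
  · rw [← A.right, ← A'.right, ← toOne_comp m.hom.snd, Functor.map_comp]
    simp only [Category.assoc, Iso.inv_hom_id_assoc]
    rw [← Category.assoc (y.map m.hom.fst), hw, Category.assoc]

/-- The object of `𝒳 ×_𝒳 𝒳` defined by a span. -/
theorem exists_fpObj (h : FibCat.IsFibGrpd 𝒳.p) {χ : 𝒳.obj} (a : χ ⟶ y.obj (one T)) (b : χ ⟶ x.obj (one U)) :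
    ∃ (z : (FibCat.fp y x).obj) (i : χ ≅ y.obj z.obj.fst), Adm y x a b z i := by
  let f : (FibCat.overCat T).obj := Over.mk (𝒳.p.map a ≫ eqToHom (y.w_obj (one T)))
  let g : (FibCat.overCat U).obj := Over.mk (𝒳.p.map b ≫ eqToHom (x.w_obj (one U)))
  obtain ⟨i, hi, hi'⟩ := exists_ident h y a (f := f) rfl (Category.id_comp _)
  obtain ⟨j, hj, hj'⟩ := exists_ident h x b (f := g) rfl (Category.id_comp _)
  have hv : IsVert 𝒳 (i.symm ≪≫ j).hom := IsVert.comp hi.inv hj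
  refine ⟨⟨{ fst := f, snd := g, iso := i.symm ≪≫ j }, ?_⟩, i, hi, hi', ?_⟩
  · exact hv.lift (y.w_obj f)
  · change i.hom ≫ (i.inv ≫ j.hom) ≫ x.map (toOne g) = b
    rw [← hj']; simp

/-- The span defined by an object of the 2-fibre product. -/
theorem adm_self (z : (FibCat.fp y x).obj) :
    Adm y x (y.map (toOne z.obj.fst)) (z.obj.iso.hom ≫ x.map (toOne z.obj.snd)) z (Iso.refl _) :=
  ⟨IsVert.id _, Category.id_comp _, Category.id_comp _⟩

/-- A representation of the 2-fibre product gives a representation of spans. -/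
theorem exists_spanRep (h : FibCat.IsFibGrpd 𝒳.p) {W : Over S} {q : FibCat.fp y x ⥤ᵇ FibCat.overCat W}
    {F : Sp S} {π : F ⟶ (yon S).obj W} (R : K738.SecRep q F π) :
    ∃ R' : SpanRep (y.obj (one T)) (x.obj (one U)) F, ∀ {χ : 𝒳.obj} (a : χ ⟶ y.obj (one T))
      (b : χ ⟶ x.obj (one U)) (z : (FibCat.fp y x).obj) (i : χ ≅ y.obj z.obj.fst) (A : Adm y x a b z i),
      R'.sec a b = F.obj.map (eqToHom A.base_eq).op (R.sec z) := by
  choose z i A using fun (χ : 𝒳.obj) (a : χ ⟶ y.obj (one T)) (b : χ ⟶ x.obj (one U)) =>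
    exists_fpObj (y := y) (x := x) h a b
  refine ⟨{
    sec := fun {χ} a b => F.obj.map (eqToHom (A χ a b).base_eq).op (R.sec (z χ a b))
    map := ?_
    full := ?_
    surj := ?_ }, ?_⟩
  · intro χ χ' c a b
    obtain ⟨m, hm⟩ := (A χ a b).exists_hom h (A χ' (c ≫ a) (c ≫ b)) c rfl rfl
    have := R.map m
    rw [hm] at this
    rw [← this, K606.YonSec.map_comp, K606.YonSec.map_comp]
    simp
  · intro χ χ' a b a' b' g hg
    rw [K606.YonSec.map_comp] at hg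
    obtain ⟨m, hm⟩ := R.full (z := z χ' a' b') (z' := z χ a b)
      (eqToHom (A χ' a' b').base_eq.symm ≫ g ≫ eqToHom (A χ a b).base_eq) (by
        rw [← K606.YonSec.map_comp, hg, K606.YonSec.map_comp]
        simp)
    obtain ⟨c, hc, h1, h2⟩ := (A χ a b).exists_comap (A χ' a' b') m
    refine ⟨c, ?_, h1, h2⟩
    rw [hc, hm]
    simp
  · intro V s
    obtain ⟨t, e, he⟩ := R.surj s
    subst e
    have he' : R.sec t = s := by simpa using he
    subst he'
    have e1 : (FibCat.fp y x).p.obj t = 𝒳.p.obj (y.obj t.obj.fst) := (y.w_obj _).symm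
    refine ⟨y.obj t.obj.fst, y.map (toOne t.obj.fst), t.obj.iso.hom ≫ x.map (toOne t.obj.snd), e1, ?_⟩
    have A' := A _ (y.map (toOne t.obj.fst)) (t.obj.iso.hom ≫ x.map (toOne t.obj.snd))
    obtain ⟨m, hm⟩ := A'.exists_hom h (adm_self t) (𝟙 _) (Category.id_comp _) (Category.id_comp _)
    have := R.map m
    rw [hm] at this
    rw [← this, K606.YonSec.map_comp]
    simp
  · intro χ a b t j B
    change F.obj.map (eqToHom (A χ a b).base_eq).op (R.sec (z χ a b)) = _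
    obtain ⟨m, hm⟩ := (A χ a b).exists_hom h B (𝟙 _) (Category.id_comp _) (Category.id_comp _)
    have := R.map m
    rw [hm] at this
    rw [← this, K606.YonSec.map_comp]
    simp

end FromFp

/-- Spans with one leg to a scheme with a representable functor to `𝒳`. -/
theorem exists_spanRep_atlas (h : FibCat.IsFibGrpd 𝒳.p) {P : MorphismProperty (Sp S)} {U : Over S}
    {x : FibCat.overCat U ⥤ᵇ 𝒳} (hx : AlgSt.RepByAlgSpWith P x) (ζ : 𝒳.obj) :
    ∃ (F : Space S) (π : F.obj ⟶ (yon S).obj (𝒳.p.obj ζ)) (R : SpanRep ζ (x.obj (one U)) F.obj), P π ∧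
      ∀ (χ : 𝒳.obj) (a : χ ⟶ ζ) (b : χ ⟶ x.obj (one U)), π.hom.app _ (R.sec a b) = up (𝒳.p.map a) := by
  obtain ⟨F, e, he, hP⟩ := hx (𝒳.p.obj ζ) (yo h ζ rfl)
  obtain ⟨R⟩ := K738.SecRep.nonempty_of_equiv (FibCat.fpFst (yo h ζ rfl) x) e he
  obtain ⟨R', hR'⟩ := exists_spanRep h R
  refine ⟨F, _, R'.ofIso (yoIso h ζ rfl) (Iso.refl _), hP, ?_⟩
  intro χ a b
  change _ = up _
  obtain ⟨z, i, A⟩ := exists_fpObj (y := yo h ζ rfl) (x := x) h (a ≫ (yoIso h ζ rfl).inv) (b ≫ 𝟙 _)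
  have h1 : (R'.ofIso (yoIso h ζ rfl) (Iso.refl _)).sec a b = F.obj.obj.map (eqToHom A.base_eq).op (R.sec z) :=
    hR' _ _ z i A
  rw [h1, hom_app_map, R.proj z]
  have h2 : K738.str (FibCat.fpFst (yo h ζ rfl) x) z = Over.hom z.obj.fst := Category.id_comp _
  rw [h2]
  change up (eqToHom A.base_eq ≫ Over.hom z.obj.fst) = up (𝒳.p.map a)
  rw [A.fst_hom, Functor.map_comp, (yoIso_vert h ζ rfl).inv.map_eq]
  simp

end K906.Span
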