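import Groth.Agent.StMod.K906.PresExist

/-!
# Affine presentations of `fibCat π η` for `π` quasi-compact and quasi-separated

`exists_pres` : for `π : 𝒳 ⟶ 𝒴` quasi-compact and quasi-separated, `𝒳`, `𝒴` fibred in groupoids, `η : 𝒴.obj` affine, the
category `fibCat π η` has an affine presentation.  The only input about algebraic stacks is that slices are algebraic stacks
(`hA`, a consequence of `K744.AlgOver.isAlgStack_overCat`).
-/

set_option autoImplicit false
set_option backward.isDefEq.respectTransparency false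
set_option backward.isDefEq.respectTransparency.types false

universe w₁ v₁ w' v' w v u

open CategoryTheory CategoryTheory.Limits AlgebraicGeometry StMod MorphismProperty Opposite AlgSp

namespace K906

open K906.Grpd K906.Span K735.Fib K735.Fp K735.Rep

variable {S : Scheme.{u}} {𝒳 : BasedCategory.{v, w} (Over S)} {𝒴 : BasedCategory.{v', w'} (Over S)}

/-- Quasi-compactness is invariant under equivalences over the base. -/
theorem isQuasiCompact_of_equiv {𝒵 : BasedCategory.{v₁, w₁} (Over S)} (E : 𝒳 ⥤ᵇ 𝒵) (hE : FibCat.IsEquivOver E)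
    (hq : AlgSt.IsQuasiCompact 𝒳) : AlgSt.IsQuasiCompact 𝒵 := by
  obtain ⟨U, x, hU, h1, h2⟩ := hq
  obtain ⟨E', hE', ⟨a⟩, ⟨b⟩⟩ := IsEquivOver.exists_inv hE
  have key : ∀ P : MorphismProperty (Sp S), AlgSt.RepByAlgSpWith P x →
      AlgSt.RepByAlgSpWith P (BasedFunctor.comp x E) := fun P hP =>
    repByAlgSpWith_of_sq P x (BasedFunctor.comp x E) (BasedFunctor.id _) E' isEquivOver_id hE'
      (whiskerLeftIso x a) hP
  exact ⟨U, BasedFunctor.comp x E, hU, key _ h1, key _ h2⟩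

theorem repByAlgSpWith_id {T : Over S} (P : MorphismProperty (Sp S)) (hP : ∀ U : Over S, P (𝟙 ((yon S).obj U))) :
    AlgSt.RepByAlgSpWith P (BasedFunctor.id (FibCat.overCat T)) := by
  intro U y
  have hw : FibCat.IsEquivOver (FibCat.fpFst y (BasedFunctor.id (FibCat.overCat T))) :=
    K734.Fib.isEquivOver_fpFst y _ isEquivOver_id
  obtain ⟨k, hk, -, ⟨b⟩⟩ := IsEquivOver.exists_inv hw
  refine ⟨⟨(yon S).obj U, IsAlgSpace.yon_obj _⟩, BasedFunctor.comp (AlgSt.toOverCat U) k,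
    IsEquivOver.comp (isEquivOver_toOverCat U) hk, ?_⟩
  have : AlgSt.spMapOfOver (BasedFunctor.comp (BasedFunctor.comp (AlgSt.toOverCat U) k) (FibCat.fpFst y _)) =
      AlgSt.spMapOfOver (AlgSt.toOverCat U) :=
    spMapOfOver_eq_of_iso (whiskerLeftIso (AlgSt.toOverCat U) b)
  rw [this, spMapOfOver_toOverCat]
  exact hP U

theorem isQuasiCompact_overCat {T : Over S} (hT : IsAffine T.left) : AlgSt.IsQuasiCompact (FibCat.overCat T) := by
  refine ⟨T, BasedFunctor.id _, hT, repByAlgSpWith_id _ ?_, repByAlgSpWith_id _ ?_⟩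
  · intro U V W a b f ha hb hf
    have hf' : a = (yon S).map f ≫ b := by rw [← hf, Category.comp_id]
    have he : Etale f.left := by
      refine K597.of_comp_etale (P := @Etale) (fun A B C e f he hf => inferInstance) hb ha f hf'.symm
    exact inferInstance
  · intro U x
    exact ⟨x, by rw [Points.map_id]⟩

/-- Quasi-compactness of `fibCat π η`. -/
theorem isQuasiCompact_fibCat (h' : FibCat.IsFibGrpd 𝒴.p) {K : Precoverage Scheme.{u}}
    (hA : ∀ T : Over S, AlgSt.IsAlgStack K (FibCat.overCat T)) {π : 𝒳 ⥤ᵇ 𝒴} (hqc : AlgSt.IsQuasiCompactMor K π)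
    {η : 𝒴.obj} (hη : IsAffine (sch 𝒴 η)) : AlgSt.IsQuasiCompact (fibCat π η) := by
  have h1 := hqc (FibCat.overCat (𝒴.p.obj η)) (hA _) (isQuasiCompact_overCat hη) (K734.Fib.yo h' η rfl)
  exact isQuasiCompact_of_equiv (BasedFunctor.comp (fpToFib _ π) (fibMap π (K734.Fib.yoIso h' η rfl).hom))
    (IsEquivOver.comp (isEquivOver_fpToFib _ π h') (isEquivOver_fibMap π _)) h1

/-- Affine presentations exist for quasi-compact and quasi-separated morphisms. -/
theorem nonempty_pres (h : FibCat.IsFibGrpd 𝒳.p) (h' : FibCat.IsFibGrpd 𝒴.p) {K : Precoverage Scheme.{u}}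
    (hA : ∀ T : Over S, AlgSt.IsAlgStack K (FibCat.overCat T)) {π : 𝒳 ⥤ᵇ 𝒴} (hqc : AlgSt.IsQuasiCompactMor K π)
    (hqs : AlgSt.IsQuasiSeparatedMor π) {η : 𝒴.obj} (hη : IsAffine (sch 𝒴 η)) : Nonempty (Pres (fibCat π η)) :=
  exists_pres_fibCat h h' hη hqs (isQuasiCompact_fibCat h' hA hqc hη)

/-- A quasi-compact `𝒳` has a smooth atlas by ONE affine object. -/
theorem exists_smAtlas_of_isQuasiCompact (h : FibCat.IsFibGrpd 𝒳.p) (hq : AlgSt.IsQuasiCompact 𝒳) :
    ∃ A : SmAtlas 𝒳, Subsingleton A.J ∧ Nonempty A.J := by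
  obtain ⟨U, x, hU, h1, h2⟩ := hq
  have hζ : IsAffine (sch 𝒳 (x.obj (K734.Fib.one U))) := by
    have : IsIso (eqToHom (x.w_obj (K734.Fib.one U)) : 𝒳.p.obj (x.obj (K734.Fib.one U)) ⟶ U).left :=
      isIso_left (eqToIso (x.w_obj (K734.Fib.one U)))
    exact IsAffine.of_isIso (eqToHom (x.w_obj (K734.Fib.one U)) : 𝒳.p.obj (x.obj (K734.Fib.one U)) ⟶ U).left
  refine ⟨⟨PUnit, fun _ => x.obj (K734.Fib.one U), fun _ => hζ, ?_, ?_, ?_⟩, ⟨fun _ _ => rfl⟩,
    ⟨PUnit.unit⟩⟩
  · intro z hz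
    obtain ⟨z', f, d, h3⟩ := exists_cover h h1 h2 z hz
    exact ⟨z', f, PUnit.unit, d, h3⟩
  · intro z ζ j a b hz
    obtain ⟨F, π, R, -, -⟩ := exists_spanRep_atlas h h1 ζ
    obtain ⟨z', θ, f, p, q, i, hz', hθ, hf, hfs, hpq, -, hip, hiq⟩ := R.exists_chart h F.property hz a b
    exact ⟨z', θ, f, p, q, i, hz', hθ, hf, hfs, hpq, hip, hiq⟩
  · intro θ ζ j p q H
    exact smooth_of_spanWith h h1 H

end K906
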