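import Groth.Agent.StMod.K906.Grpd

/-!
# The category `fibCat π η` of pairs `(ξ, α : π ξ ⟶ η)`

For `π : 𝒳 ⥤ᵇ 𝒴` over `(Sch/S)` and `η : 𝒴.obj` (namespace `K906`), the category over `(Sch/S)` of the objects of `𝒳` with
an arrow to `η`; for `𝒴` fibred in groupoids it is the 2-fibre product of `𝒳` with the slice of `η`.  `RelSect π F η` is
by definition the global sections of `F` over it.

* `fibCat π η`, `fibPt : fibCat π η ⥤ᵇ 𝒳`, `sch`/`bmap` of it are those of `𝒳` by `rfl`;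
* `isFibGrpd_fibCat`;
* `fibMap g : fibCat π η' ⥤ᵇ fibCat π η` for `g : η' ⟶ η`;
* `fbase a : 𝒳.p.obj a.pt ⟶ 𝒴.p.obj η` (= `StMod.baseOver`);
* `exists_bc` : base change of an object of `fibCat π η` along `g : η' ⟶ η`, with the pullback square of schemes;
  `existsUnique_bc_hom` its universal property.
-/

set_option autoImplicit false
set_option backward.isDefEq.respectTransparency false
set_option backward.isDefEq.respectTransparency.types false

universe w' v' w v u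

open CategoryTheory CategoryTheory.Limits AlgebraicGeometry StMod

namespace K906

open K906.Grpd

variable {S : Scheme.{u}} {𝒳 : BasedCategory.{v, w} (Over S)} {𝒴 : BasedCategory.{v', w'} (Over S)}

/-- An object of `𝒳` with an arrow of its image to `η`. -/
structure FObj (π : 𝒳 ⥤ᵇ 𝒴) (η : 𝒴.obj) where
  /-- the object of `𝒳` -/
  pt : 𝒳.obj
  /-- the arrow to `η` -/
  arr : π.obj pt ⟶ η

namespace FObj

variable {π : 𝒳 ⥤ᵇ 𝒴} {η : 𝒴.obj}

/-- Arrows of pairs. -/
@[ext]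
structure Hom (a b : FObj π η) where
  /-- the underlying arrow of `𝒳` -/
  hom : a.pt ⟶ b.pt
  comm : π.map hom ≫ b.arr = a.arr

instance : Category (FObj π η) where
  Hom := Hom
  id a := ⟨𝟙 a.pt, by rw [CategoryTheory.Functor.map_id, Category.id_comp]⟩
  comp f g := ⟨f.hom ≫ g.hom, by rw [Functor.map_comp, Category.assoc, g.comm, f.comm]⟩
  id_comp f := Hom.ext (Category.id_comp _)
  comp_id f := Hom.ext (Category.comp_id _)
  assoc f g h := Hom.ext (Category.assoc _ _ _)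

@[ext] theorem hom_ext {a b : FObj π η} {f g : a ⟶ b} (h : f.hom = g.hom) : f = g := Hom.ext h

@[simp] theorem id_hom (a : FObj π η) : (𝟙 a : a ⟶ a).hom = 𝟙 a.pt := rfl

@[simp] theorem comp_hom {a b c : FObj π η} (f : a ⟶ b) (g : b ⟶ c) : (f ≫ g).hom = f.hom ≫ g.hom := rfl

/-- Constructor of arrows. -/
abbrev mkHom {a b : FObj π η} (f : a.pt ⟶ b.pt) (h : π.map f ≫ b.arr = a.arr) : a ⟶ b := Hom.mk f h

variable (π η) in
/-- The functor forgetting the arrow to `η`. -/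
def forgetPt : FObj π η ⥤ 𝒳.obj where
  obj a := a.pt
  map f := f.hom

@[simp] theorem forgetPt_obj (a : FObj π η) : (forgetPt π η).obj a = a.pt := rfl

@[simp] theorem forgetPt_map {a b : FObj π η} (f : a ⟶ b) : (forgetPt π η).map f = f.hom := rfl

end FObj

/-- The category over `(Sch/S)` of the objects `ξ` of `𝒳` with an arrow `π ξ ⟶ η`. -/
abbrev fibCat (π : 𝒳 ⥤ᵇ 𝒴) (η : 𝒴.obj) : BasedCategory.{v, max w v'} (Over S) where
  obj := FObj π η
  p := FObj.forgetPt π η ⋙ 𝒳.p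

variable {π : 𝒳 ⥤ᵇ 𝒴} {η : 𝒴.obj}

variable (π η) in
/-- The functor over `(Sch/S)` forgetting the arrow to `η`. -/
def fibPt : fibCat π η ⥤ᵇ 𝒳 where
  toFunctor := FObj.forgetPt π η
  w := rfl

@[simp] theorem fibPt_obj (a : (fibCat π η).obj) : (fibPt π η).obj a = FObj.pt a := rfl

@[simp] theorem fibPt_map {a b : (fibCat π η).obj} (f : a ⟶ b) : (fibPt π η).map f = FObj.Hom.hom f := rfl

theorem sch_fibCat (a : FObj π η) : sch (fibCat π η) a = sch 𝒳 a.pt := rfl

theorem bmap_fibCat {a b : FObj π η} (f : a ⟶ b) : bmap (fibCat π η) f = bmap 𝒳 f.hom := rfl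

/-- The morphism of schemes over `S` under the arrow of a pair. -/
def fbase (a : FObj π η) : 𝒳.p.obj a.pt ⟶ 𝒴.p.obj η := baseOver π a.pt a.arr

theorem map_fbase {a b : FObj π η} (f : a ⟶ b) : 𝒳.p.map f.hom ≫ fbase b = fbase a := by
  rw [fbase, map_comp_baseOver, f.comm]
  rfl

theorem bmap_fbase {a b : FObj π η} (f : a ⟶ b) : bmap 𝒳 f.hom ≫ (fbase b).left = (fbase a).left :=
  congrArg (fun t => t.left) (map_fbase f)

/-- The category of pairs is fibred in groupoids if `𝒳` is. -/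
theorem isFibGrpd_fibCat (h : FibCat.IsFibGrpd 𝒳.p) : FibCat.IsFibGrpd (fibCat π η).p where
  exists_lift {x V} f := by
    obtain ⟨y, φ, hφ⟩ := h.exists_lift (x := x.pt) f
    let y' : FObj π η := ⟨y, π.map φ ≫ x.arr⟩
    let φ' : y' ⟶ x := FObj.mkHom φ rfl
    refine ⟨y', φ', ?_⟩
    have e : 𝒳.p.obj y = V := IsHomLift.domain_eq 𝒳.p f φ
    subst e
    have hf : f = 𝒳.p.map φ := IsHomLift.eq_of_isHomLift 𝒳.p f φ
    subst hf
    exact IsHomLift.map (fibCat π η).p φ'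
  isStronglyCartesian {y x} φ :=
    { universal_property' := fun {z} g ψ hψ => by
        have hψ' : g ≫ 𝒳.p.map φ.hom = 𝒳.p.map ψ.hom :=
          IsHomLift.eq_of_isHomLift (fibCat π η).p (g ≫ (fibCat π η).p.map φ) ψ
        obtain ⟨χ, ⟨h1, h2⟩, hu⟩ := Grpd.existsUnique_hom h φ.hom ψ.hom g hψ'
        have hc : π.map χ ≫ y.arr = z.arr := by
          rw [← φ.comm, ← ψ.comm, ← h2, Functor.map_comp, Category.assoc]
        let χ' : z ⟶ y := FObj.mkHom χ hc
        have e1 : (fibCat π η).p.map χ' = g := h1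
        refine ⟨χ', ⟨?_, FObj.hom_ext h2⟩, ?_⟩
        · rw [← e1]
          exact IsHomLift.map (fibCat π η).p χ'
        · rintro χ'' ⟨h3, h4⟩
          refine FObj.hom_ext (hu χ''.hom ⟨?_, congrArg FObj.Hom.hom h4⟩)
          exact (IsHomLift.eq_of_isHomLift (fibCat π η).p g χ'').symm }

/-- The functor induced by an arrow `g : η' ⟶ η` of the target. -/
def fibMap (π : 𝒳 ⥤ᵇ 𝒴) {η' η : 𝒴.obj} (g : η' ⟶ η) : fibCat π η' ⥤ᵇ fibCat π η where
  toFunctor :=
    { obj := fun a => ⟨a.pt, a.arr ≫ g⟩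
      map := fun {a b} f => FObj.mkHom f.hom (by
        change π.map f.hom ≫ b.arr ≫ g = a.arr ≫ g
        rw [← f.comm, Category.assoc]) }
  w := rfl

@[simp] theorem fibMap_obj_pt {η' η : 𝒴.obj} (g : η' ⟶ η) (a : (fibCat π η').obj) :
    ((fibMap π g).obj a).pt = FObj.pt a := rfl

@[simp] theorem fibMap_obj_arr {η' η : 𝒴.obj} (g : η' ⟶ η) (a : (fibCat π η').obj) :
    ((fibMap π g).obj a).arr = FObj.arr a ≫ g := rfl

@[simp] theorem fibMap_map_hom {η' η : 𝒴.obj} (g : η' ⟶ η) {a b : (fibCat π η').obj} (f : a ⟶ b) :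
    ((fibMap π g).map f).hom = FObj.Hom.hom f := rfl

theorem fbase_fibMap {η' η : 𝒴.obj} (g : η' ⟶ η) (a : FObj π η') :
    fbase ((fibMap π g).obj a) = fbase a ≫ 𝒴.p.map g := by
  change baseOver π a.pt (a.arr ≫ g) = _
  rw [baseOver_comp]
  rfl

section BaseChange

variable (h : FibCat.IsFibGrpd 𝒳.p) (h' : FibCat.IsFibGrpd 𝒴.p) {η' : 𝒴.obj} (g : η' ⟶ η)

include h h' in
/-- Base change of a pair along `g : η' ⟶ η`. -/
theorem exists_bc (a : FObj π η) : ∃ (b : FObj π η') (c : (fibMap π g).obj b ⟶ a),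
    IsPullback (𝒳.p.map c.hom) (fbase b) (fbase a) (𝒴.p.map g) := by
  obtain ⟨y, φ, e, he⟩ := Grpd.exists_lift_iso h a.pt (pullback.fst (fbase a) (𝒴.p.map g))
  have hb0 : fbase (⟨y, π.map φ ≫ a.arr⟩ : FObj π η) = 𝒳.p.map φ ≫ fbase a :=
    (map_comp_baseOver π φ a.arr).symm
  have hb1 : eqToHom (π.w_obj y).symm ≫ 𝒴.p.map (π.map φ ≫ a.arr) = 𝒳.p.map φ ≫ fbase a := hb0
  obtain ⟨β, ⟨h1, h2⟩, -⟩ := Grpd.existsUnique_hom h' g (π.map φ ≫ a.arr)
    (eqToHom (π.w_obj y) ≫ e.hom ≫ pullback.snd (fbase a) (𝒴.p.map g)) (by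
      rw [Category.assoc, Category.assoc, ← pullback.condition, ← Category.assoc e.hom, ← he, ← hb1,
        eqToHom_trans_assoc, eqToHom_refl, Category.id_comp])
  refine ⟨⟨y, β⟩, FObj.mkHom φ h2.symm, ?_⟩
  have hb : fbase (⟨y, β⟩ : FObj π η') = e.hom ≫ pullback.snd (fbase a) (𝒴.p.map g) := by
    change eqToHom (π.w_obj y).symm ≫ 𝒴.p.map β = _
    rw [h1, eqToHom_trans_assoc, eqToHom_refl, Category.id_comp]
  rw [hb]
  change IsPullback (𝒳.p.map φ) _ _ _
  rw [he]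
  exact (IsPullback.of_hasPullback (fbase a) (𝒴.p.map g)).of_iso e.symm (Iso.refl _) (Iso.refl _) (Iso.refl _)
    (by simp) (by simp) (by simp) (by simp)

/-- The square of schemes under a base change. -/
theorem isPullback_left {b : FObj π η'} {a : FObj π η} {c : b.pt ⟶ a.pt}
    (hp : IsPullback (𝒳.p.map c) (fbase b) (fbase a) (𝒴.p.map g)) :
    IsPullback (bmap 𝒳 c) (fbase b).left (fbase a).left (bmap 𝒴 g) :=
  hp.map (Over.forget S)

include h h' in
/-- The universal property of the base change of a pair. -/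
theorem existsUnique_bc_hom {a : FObj π η} {b : FObj π η'} {c : (fibMap π g).obj b ⟶ a}
    (hp : IsPullback (𝒳.p.map c.hom) (fbase b) (fbase a) (𝒴.p.map g)) {z : FObj π η'}
    (d : (fibMap π g).obj z ⟶ a) : ∃! e : z ⟶ b, (fibMap π g).map e ≫ c = d := by
  have hd : 𝒳.p.map d.hom ≫ fbase a = fbase z ≫ 𝒴.p.map g := by
    rw [map_fbase, fbase_fibMap]
  obtain ⟨χ, ⟨h1, h2⟩, hu⟩ := Grpd.existsUnique_hom h c.hom d.hom (hp.lift _ _ hd) (by rw [hp.lift_fst])
  have hχ : π.map χ ≫ b.arr = z.arr := by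
    refine Grpd.hom_ext h' g ?_ ?_
    · have h3 : 𝒳.p.map χ ≫ fbase b = fbase z := by rw [h1, hp.lift_snd]
      have h4 := map_comp_baseOver π χ b.arr
      have h5 : baseOver π z.pt (π.map χ ≫ b.arr) = baseOver π z.pt z.arr := h4.symm.trans h3
      unfold baseOver at h5
      exact (cancel_epi _).1 h5
    · have h6 : π.map c.hom ≫ a.arr = b.arr ≫ g := c.comm
      have h7 : π.map d.hom ≫ a.arr = z.arr ≫ g := d.comm
      rw [Category.assoc, ← h6, ← h7, ← h2, Functor.map_comp, Category.assoc]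
  refine ⟨FObj.mkHom χ hχ, FObj.hom_ext h2, ?_⟩
  intro e he
  refine FObj.hom_ext (hu e.hom ⟨?_, congrArg FObj.Hom.hom he⟩)
  refine hp.hom_ext ?_ ?_
  · rw [hp.lift_fst, ← Functor.map_comp]
    exact congrArg (fun t => 𝒳.p.map (FObj.Hom.hom t)) he
  · rw [hp.lift_snd, map_fbase]

end BaseChange

end K906
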