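import Mathlib.AlgebraicGeometry.Morphisms.Etale
import Mathlib.AlgebraicGeometry.Morphisms.Smooth
import Mathlib.AlgebraicGeometry.Limits

/-!
# Finite disjoint unions of affine schemes as covers of an affine scheme

* `exists_finite_affine` : a jointly surjective family of open maps to a quasi-compact scheme can be replaced by one
  morphism from a finite disjoint union;
* `exists_affine_factor` : a morphism `z ⟶ X` from an affine scheme factors, after one affine étale cover `z' ⟶ z`, through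
  an affine scheme étale over `X`.
-/

set_option autoImplicit false

universe u

open CategoryTheory CategoryTheory.Limits AlgebraicGeometry MorphismProperty

namespace K906.SchFac

/-- Choose finitely many members of a family of open maps covering a quasi-compact scheme. -/
theorem exists_finset_cover {z : Scheme.{u}} [CompactSpace z] {T : z → Scheme.{u}} (f : ∀ x, T x ⟶ z)
    (hf : ∀ x, IsOpenMap (f x)) (hx : ∀ x, x ∈ Set.range (f x)) :
    ∃ t : Finset z, ∀ y : z, ∃ x ∈ t, y ∈ Set.range (f x) := by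
  obtain ⟨t, ht⟩ := isCompact_univ.elim_finite_subcover (fun x => Set.range (f x))
    (fun x => (hf x).isOpen_range) (fun y _ => Set.mem_iUnion.2 ⟨y, hx y⟩)
  refine ⟨t, fun y => ?_⟩
  obtain ⟨x, hx1, hx2⟩ := Set.mem_iUnion₂.1 (ht (Set.mem_univ y))
  exact ⟨x, hx1, hx2⟩

/-- The morphism from a disjoint union over a finite set of a jointly surjective family is surjective. -/
theorem surjective_sigmaDesc {z : Scheme.{u}} {ι : Type u} {T : ι → Scheme.{u}} (f : ∀ i, T i ⟶ z)
    (hf : ∀ y : z, ∃ i, y ∈ Set.range (f i)) : Surjective (Sigma.desc f) := by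
  refine ⟨fun y => ?_⟩
  obtain ⟨i, x, hx⟩ := hf y
  refine ⟨Sigma.ι T i x, ?_⟩
  rw [← Scheme.Hom.comp_apply, Sigma.ι_desc, hx]

/-- A morphism from an affine scheme factors, after one affine étale cover, through an affine scheme étale over the
target. -/
theorem exists_affine_factor {z X : Scheme.{u}} [IsAffine z] (g : z ⟶ X) :
    ∃ (z' X' : Scheme.{u}) (f : z' ⟶ z) (e : z' ⟶ X') (j : X' ⟶ X), IsAffine z' ∧ IsAffine X' ∧ Etale f ∧
      Surjective f ∧ Etale j ∧ f ≫ g = e ≫ j := by
  have key : ∀ x : z, ∃ (U : X.Opens) (V : z.Opens), IsAffineOpen U ∧ IsAffineOpen V ∧ x ∈ V ∧ V ≤ g ⁻¹ᵁ U := by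
    intro x
    obtain ⟨U, hU, hxU, -⟩ := TopologicalSpace.Opens.isBasis_iff_nbhd.1 X.isBasis_affineOpens (x := g x) (U := ⊤) trivial
    obtain ⟨V, hV, hxV, hVU⟩ := TopologicalSpace.Opens.isBasis_iff_nbhd.1 z.isBasis_affineOpens (x := x) (U := g ⁻¹ᵁ U) hxU
    exact ⟨U, V, hU, hV, hxV, hVU⟩
  choose U V hU hV hx hVU using key
  obtain ⟨t, ht⟩ := exists_finset_cover (fun x => (V x).ι) (fun x => (V x).ι.isOpenEmbedding.isOpenMap)
    (fun x => by rw [Scheme.Opens.range_ι]; exact hx x)
  have : ∀ x : t, IsAffine (V x.1 : Scheme.{u}) := fun x => hV x.1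
  have : ∀ x : t, IsAffine (U x.1 : Scheme.{u}) := fun x => hU x.1
  have hr : ∀ x : t, Set.range ((V x.1).ι ≫ g) ⊆ Set.range (U x.1).ι := by
    intro x
    rw [Scheme.Opens.range_ι]
    rintro _ ⟨y, rfl⟩
    exact hVU x.1 y.2
  refine ⟨∐ fun x : t => (V x.1 : Scheme.{u}), ∐ fun x : t => (U x.1 : Scheme.{u}),
    Limits.Sigma.desc fun x => (V x.1).ι,
    Limits.Sigma.map fun x => IsOpenImmersion.lift (U x.1).ι ((V x.1).ι ≫ g) (hr x),
    Limits.Sigma.desc fun x => (U x.1).ι, inferInstance, inferInstance, ?_, ?_, ?_, ?_⟩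
  · exact IsZariskiLocalAtSource.sigmaDesc (P := @Etale) (fun x => inferInstance)
  · refine surjective_sigmaDesc _ (fun y => ?_)
    obtain ⟨x, hx1, hx2⟩ := ht y
    exact ⟨⟨x, hx1⟩, hx2⟩
  · exact IsZariskiLocalAtSource.sigmaDesc (P := @Etale) (fun x => inferInstance)
  · refine Sigma.hom_ext _ _ (fun x => ?_)
    simp

/-- A fibre product of affine schemes over an affine scheme is affine. -/
theorem isAffine_of_isPullback {P X Y Z : Scheme.{u}} {fst : P ⟶ X} {snd : P ⟶ Y} {f : X ⟶ Z} {g : Y ⟶ Z}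
    (h : IsPullback fst snd f g) (hX : IsAffine X) (hY : IsAffine Y) (hZ : IsAffine Z) : IsAffine P :=
  IsAffine.of_isIso h.isoPullback.hom

end K906.SchFac
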