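import Groth.Agent.StMod.K906.Span
import Groth.Agent.StMod.K906.SchFac
import Groth.Agent.StMod.K906.FibCat

/-!
# Affine presentations of a category fibred in groupoids over `(Sch/S)`

* `Pres 𝒳` : objects `ζ`, `ρ` over affine schemes with arrows `s t : ρ ⟶ ζ` such that `ρ ⟶ ζ ×_𝒳 ζ` is étale, `s`, `t`
  smooth, every affine `z` has an affine smooth surjective `z' ⟶ z` with an arrow `z' ⟶ ζ` (`cov`), every pair of arrows
  `z ⟶ ζ` lifts to `ρ` after an affine étale cover (`lift`);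
* `SmAtlas 𝒳` : the same without quasi-compactness;
* `Pres.exists_bc` : base change of a presentation of `fibCat π η` along `η' ⟶ η` (both affine).
-/

set_option autoImplicit false
set_option backward.isDefEq.respectTransparency false
set_option backward.isDefEq.respectTransparency.types false

universe w' v' w v u

open CategoryTheory CategoryTheory.Limits AlgebraicGeometry StMod MorphismProperty

namespace K906

open K906.Grpd K906.Span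

variable {S : Scheme.{u}}

/-- A smooth atlas of `𝒳` by objects over affine schemes, with étale charts of its fibre products. -/
structure SmAtlas (𝒳 : BasedCategory.{v, w} (Over S)) where
  /-- the index set (closed under finite disjoint unions) -/
  J : Type u
  /-- the objects -/
  Z : J → 𝒳.obj
  affine : ∀ j, IsAffine (sch 𝒳 (Z j))
  cov : ∀ z : 𝒳.obj, IsAffine (sch 𝒳 z) → ∃ (z' : 𝒳.obj) (f : z' ⟶ z) (j : J) (_ : z' ⟶ Z j),
    IsAffine (sch 𝒳 z') ∧ Smooth (bmap 𝒳 f) ∧ Surjective (bmap 𝒳 f)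
  span : ∀ (z ζ : 𝒳.obj) (j : J) (a : z ⟶ ζ) (b : z ⟶ Z j), IsAffine (sch 𝒳 z) →
    ∃ (z' θ : 𝒳.obj) (f : z' ⟶ z) (p : θ ⟶ ζ) (q : θ ⟶ Z j) (e : z' ⟶ θ),
      IsAffine (sch 𝒳 z') ∧ IsAffine (sch 𝒳 θ) ∧ Etale (bmap 𝒳 f) ∧ Surjective (bmap 𝒳 f) ∧
        SpanWith @Etale p q ∧ e ≫ p = f ≫ a ∧ e ≫ q = f ≫ b
  smooth : ∀ (θ ζ : 𝒳.obj) (j : J) (p : θ ⟶ ζ) (q : θ ⟶ Z j), SpanWith @Etale p q → Smooth (bmap 𝒳 p)

/-- An affine presentation of `𝒳`: `ρ ⇉ ζ` with `ρ ⟶ ζ ×_𝒳 ζ` étale surjective and `ζ ⟶ 𝒳` smooth surjective. -/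
structure Pres (𝒳 : BasedCategory.{v, w} (Over S)) where
  /-- the atlas -/
  ζ : 𝒳.obj
  /-- the chart of the fibre product of the atlas with itself -/
  ρ : 𝒳.obj
  /-- first leg -/
  s : ρ ⟶ ζ
  /-- second leg -/
  t : ρ ⟶ ζ
  affζ : IsAffine (sch 𝒳 ζ)
  affρ : IsAffine (sch 𝒳 ρ)
  span : SpanWith @Etale s t
  smooth_s : Smooth (bmap 𝒳 s)
  smooth_t : Smooth (bmap 𝒳 t)
  cov : ∀ z : 𝒳.obj, IsAffine (sch 𝒳 z) → ∃ (z' : 𝒳.obj) (f : z' ⟶ z) (_ : z' ⟶ ζ),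
    IsAffine (sch 𝒳 z') ∧ Smooth (bmap 𝒳 f) ∧ Surjective (bmap 𝒳 f)
  lift : ∀ (z : 𝒳.obj) (a b : z ⟶ ζ), IsAffine (sch 𝒳 z) → ∃ (z' : 𝒳.obj) (f : z' ⟶ z) (e : z' ⟶ ρ),
    IsAffine (sch 𝒳 z') ∧ Etale (bmap 𝒳 f) ∧ Surjective (bmap 𝒳 f) ∧ e ≫ s = f ≫ a ∧ e ≫ t = f ≫ b

end K906

namespace K906.Span

open K906.Grpd

variable {S : Scheme.{u}} {𝒳 : BasedCategory.{v, w} (Over S)}

/-- Base change of a span along an arrow to the target of a leg. -/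
theorem SpanWith.base_right {Q : MorphismProperty Scheme.{u}} {θ ζ ζ' ζ'' θ' : 𝒳.obj}
    {a : θ ⟶ ζ} {b : θ ⟶ ζ'} (H : SpanWith Q a b) {c : ζ'' ⟶ ζ'} {k : θ' ⟶ θ} {l : θ' ⟶ ζ''}
    (hp : IsPullback k l b c) : SpanWith Q (k ≫ a) l := by
  intro χ x y
  obtain ⟨ω, m, n, hf, hn⟩ := H x (y ≫ c)
  refine ⟨ω, hp.lift m (n ≫ y) (by rw [hf.wr, Category.assoc]), n, ⟨?_, ?_, ?_⟩, hn⟩
  · rw [hp.lift_fst_assoc, hf.wl]
  · rw [hp.lift_snd]
  · intro ρ k' l' h1 h2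
    refine ⟨hf.lift (k' ≫ k) l' (by rw [Category.assoc, h1]) (by
      rw [Category.assoc, hp.w, ← Category.assoc, h2, Category.assoc]), ⟨?_, ?_⟩, ?_⟩
    · refine hp.hom_ext ?_ ?_
      · simp
      · simp [h2]
    · simp
    · rintro v ⟨hv1, hv2⟩
      refine hf.hom_ext ?_ ?_
      · rw [hf.lift_fst, ← hv1, Category.assoc, hp.lift_fst]
      · rw [hf.lift_snd, hv2]

/-- Two lifts of a span to spans with étale (or flat…) structure maps are dominated, after one affine étale cover, by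
a third affine one. -/
theorem exists_dom {Q Q' : MorphismProperty Scheme.{u}} [Q.IsStableUnderComposition] [Q'.IsStableUnderComposition]
    (hQ : @Etale ≤ Q) (hQ' : @Etale ≤ Q') (h : FibCat.IsFibGrpd 𝒳.p) {z θ θ' ζ ζ' : 𝒳.obj} {p : θ ⟶ ζ}
    {q : θ ⟶ ζ'} {p' : θ' ⟶ ζ} {q' : θ' ⟶ ζ'} (H : SpanWith Q p q) (H' : SpanWith Q' p' q') (e : z ⟶ θ)
    (e' : z ⟶ θ') (hl : e ≫ p = e' ≫ p') (hr : e ≫ q = e' ≫ q') (hz : IsAffine (sch 𝒳 z)) :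
    ∃ (z₁ θ₁ : 𝒳.obj) (f : z₁ ⟶ z) (e₁ : z₁ ⟶ θ₁) (k : θ₁ ⟶ θ) (l : θ₁ ⟶ θ'),
      IsAffine (sch 𝒳 z₁) ∧ IsAffine (sch 𝒳 θ₁) ∧ Etale (bmap 𝒳 f) ∧ Surjective (bmap 𝒳 f) ∧
        e₁ ≫ k = f ≫ e ∧ e₁ ≫ l = f ≫ e' ∧ k ≫ p = l ≫ p' ∧ k ≫ q = l ≫ q' ∧
          Q' (bmap 𝒳 k) ∧ Q (bmap 𝒳 l) := by
  have hQ₁ : ∀ {X Y : Scheme.{u}} (f : X ⟶ Y), Etale f → Q f := fun {X Y} f hf => hQ _ _ _ hf
  have hQ₂ : ∀ {X Y : Scheme.{u}} (f : X ⟶ Y), Etale f → Q' f := fun {X Y} f hf => hQ' _ _ _ hf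
  obtain ⟨ω, k, l, hf, hl'⟩ := H p' q'
  obtain ⟨ω', k', l', hf', hk'⟩ := H' p q
  obtain ⟨i, hi1, hi2⟩ := hf.exists_iso hf'.symm
  -- the arrow `z ⟶ ω`
  let m : z ⟶ ω := hf.lift e e' hl hr
  obtain ⟨Z', X', f, ee, j, hZ', hX', hfe, hfs, hj, hc⟩ := SchFac.exists_affine_factor (bmap 𝒳 m)
  obtain ⟨θ₁, c, ic, hic⟩ := exists_lift_sch h ω j
  obtain ⟨z₁, d, id', hid⟩ := exists_lift_sch h z f
  obtain ⟨e₁, ⟨h1, h2⟩, -⟩ := existsUnique_hom_sch h c (d ≫ m) (id'.hom ≫ ee ≫ ic.inv) (by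
    rw [hic, bmap_comp, hid]; simp [hc])
  have hQk : Q' (bmap 𝒳 k) := by
    rw [← hi1, bmap_comp]
    have : IsIso (bmap 𝒳 i.hom) := by
      have : IsIso ((Over.forget S).map (𝒳.p.map i.hom)) := inferInstance
      exact this
    exact Q'.comp_mem _ _ (hQ₂ _ inferInstance) hk'
  refine ⟨z₁, θ₁, d, e₁, c ≫ k, c ≫ l, IsAffine.of_isIso id'.hom, IsAffine.of_isIso ic.hom, ?_, ?_, ?_, ?_, ?_, ?_, ?_, ?_⟩
  · rw [hid]; infer_instance
  · rw [hid]; infer_instance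
  · rw [← Category.assoc, h2, Category.assoc, hf.lift_fst]
  · rw [← Category.assoc, h2, Category.assoc, hf.lift_snd]
  · rw [Category.assoc, hf.wl, Category.assoc]
  · rw [Category.assoc, hf.wr, Category.assoc]
  · rw [bmap_comp]
    refine Q'.comp_mem _ _ (hQ₂ _ ?_) hQk
    rw [hic]; infer_instance
  · rw [bmap_comp]
    refine Q.comp_mem _ _ (hQ₁ _ ?_) hl'
    rw [hic]; infer_instance

end K906.Span

namespace K906.Pres

open K906.Grpd K906.Span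

variable {S : Scheme.{u}} {𝒳 : BasedCategory.{v, w} (Over S)} {𝒴 : BasedCategory.{v', w'} (Over S)}
  {π : 𝒳 ⥤ᵇ 𝒴} {η η' : 𝒴.obj}

/-- The span over `η'` obtained by base change of a span over `η`. -/
theorem spanWith_bc (h : FibCat.IsFibGrpd 𝒳.p) (h' : FibCat.IsFibGrpd 𝒴.p) (g : η' ⟶ η)
    {Q : MorphismProperty Scheme.{u}} {θ ζ ζ' : FObj π η} {p : θ ⟶ ζ} {q : θ ⟶ ζ'}
    (H : SpanWith (𝒳 := fibCat π η) Q p q) {θ₁ ζ₁ ζ₁' : FObj π η'} {cθ : (fibMap π g).obj θ₁ ⟶ θ}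
    {cζ : (fibMap π g).obj ζ₁ ⟶ ζ} {cζ' : (fibMap π g).obj ζ₁' ⟶ ζ'}
    (hθ : IsPullback (𝒳.p.map cθ.hom) (fbase θ₁) (fbase θ) (𝒴.p.map g))
    (hζ : IsPullback (𝒳.p.map cζ.hom) (fbase ζ₁) (fbase ζ) (𝒴.p.map g))
    (hζ' : IsPullback (𝒳.p.map cζ'.hom) (fbase ζ₁') (fbase ζ') (𝒴.p.map g))
    {p₁ : θ₁ ⟶ ζ₁} {q₁ : θ₁ ⟶ ζ₁'} (hp : (fibMap π g).map p₁ ≫ cζ = cθ ≫ p)
    (hq : (fibMap π g).map q₁ ≫ cζ' = cθ ≫ q) : SpanWith (𝒳 := fibCat π η') Q p₁ q₁ := by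
  intro χ x y
  obtain ⟨ω, k, l, hf, hl⟩ := H ((fibMap π g).map x ≫ cζ) ((fibMap π g).map y ≫ cζ')
  -- `ω` with its arrow to `η'`
  let ω₁ : FObj π η' := ⟨ω.pt, π.map l.hom ≫ χ.arr⟩
  have hω : (fibMap π g).obj ω₁ = ω := by
    change FObj.mk ω.pt ((π.map l.hom ≫ χ.arr) ≫ g) = ω
    have := l.comm
    rw [Category.assoc]
    change FObj.mk ω.pt (π.map l.hom ≫ (χ.arr ≫ g)) = ω
    rw [show π.map l.hom ≫ (χ.arr ≫ g) = ω.arr from this]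
  let l₁ : ω₁ ⟶ χ := FObj.mkHom l.hom rfl
  let i : (fibMap π g).obj ω₁ ⟶ ω := FObj.mkHom (𝟙 ω.pt) (by
    change π.map (𝟙 _) ≫ ω.arr = (π.map l.hom ≫ χ.arr) ≫ g
    rw [CategoryTheory.Functor.map_id, Category.id_comp, Category.assoc]
    exact l.comm.symm)
  obtain ⟨k₁, hk₁, -⟩ := existsUnique_bc_hom h h' g hθ (i ≫ k)
  have hk₂ : k₁.hom ≫ cθ.hom = k.hom := by
    have := congrArg FObj.Hom.hom hk₁
    exact this.trans (Category.id_comp _)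
  refine ⟨ω₁, k₁, l₁, ⟨?_, ?_, ?_⟩, hl⟩
  · refine (existsUnique_bc_hom h h' g hζ ((fibMap π g).map (l₁ ≫ x) ≫ cζ)).unique ?_ rfl
    refine FObj.hom_ext ?_
    change (k₁.hom ≫ p₁.hom) ≫ cζ.hom = (l.hom ≫ x.hom) ≫ cζ.hom
    have e1 : p₁.hom ≫ cζ.hom = cθ.hom ≫ p.hom := congrArg FObj.Hom.hom hp
    have e2 : k.hom ≫ p.hom = l.hom ≫ x.hom ≫ cζ.hom := congrArg FObj.Hom.hom hf.wl
    rw [Category.assoc, e1, ← Category.assoc, hk₂, e2, Category.assoc]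
  · refine (existsUnique_bc_hom h h' g hζ' ((fibMap π g).map (l₁ ≫ y) ≫ cζ')).unique ?_ rfl
    refine FObj.hom_ext ?_
    change (k₁.hom ≫ q₁.hom) ≫ cζ'.hom = (l.hom ≫ y.hom) ≫ cζ'.hom
    have e1 : q₁.hom ≫ cζ'.hom = cθ.hom ≫ q.hom := congrArg FObj.Hom.hom hq
    have e2 : k.hom ≫ q.hom = l.hom ≫ y.hom ≫ cζ'.hom := congrArg FObj.Hom.hom hf.wr
    rw [Category.assoc, e1, ← Category.assoc, hk₂, e2, Category.assoc]
  · intro ν k' l' h1 h2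
    have h1' : k'.hom ≫ p₁.hom = l'.hom ≫ x.hom := congrArg FObj.Hom.hom h1
    have h2' : k'.hom ≫ q₁.hom = l'.hom ≫ y.hom := congrArg FObj.Hom.hom h2
    obtain ⟨u, ⟨hu1, hu2⟩, huu⟩ := hf.univ (ρ := (fibMap π g).obj ν) ((fibMap π g).map k' ≫ cθ)
      ((fibMap π g).map l') (by
        rw [Category.assoc, ← hp]
        refine FObj.hom_ext ?_
        change k'.hom ≫ p₁.hom ≫ cζ.hom = l'.hom ≫ x.hom ≫ cζ.hom
        rw [← Category.assoc, h1', Category.assoc]) (by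
        rw [Category.assoc, ← hq]
        refine FObj.hom_ext ?_
        change k'.hom ≫ q₁.hom ≫ cζ'.hom = l'.hom ≫ y.hom ≫ cζ'.hom
        rw [← Category.assoc, h2', Category.assoc])
    have hu1' : u.hom ≫ k.hom = k'.hom ≫ cθ.hom := congrArg FObj.Hom.hom hu1
    have hu2' : u.hom ≫ l.hom = l'.hom := congrArg FObj.Hom.hom hu2
    let u₁ : ν ⟶ ω₁ := FObj.mkHom u.hom (by
      change π.map u.hom ≫ π.map l.hom ≫ χ.arr = ν.arr
      rw [← Category.assoc, ← Functor.map_comp, hu2']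
      exact l'.comm)
    refine ⟨u₁, ⟨?_, FObj.hom_ext hu2'⟩, ?_⟩
    · refine (existsUnique_bc_hom h h' g hθ ((fibMap π g).map k' ≫ cθ)).unique ?_ rfl
      refine FObj.hom_ext ?_
      change (u.hom ≫ k₁.hom) ≫ cθ.hom = k'.hom ≫ cθ.hom
      rw [Category.assoc, hk₂, hu1']
    · rintro v ⟨hv1, hv2⟩
      have hv1' : v.hom ≫ k₁.hom = k'.hom := congrArg FObj.Hom.hom hv1
      have hv2' : v.hom ≫ l.hom = l'.hom := congrArg FObj.Hom.hom hv2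
      let v₁ : (fibMap π g).obj ν ⟶ ω := FObj.mkHom v.hom (by
        change π.map v.hom ≫ ω.arr = ν.arr ≫ g
        have := v.comm
        change π.map v.hom ≫ π.map l.hom ≫ χ.arr = ν.arr at this
        rw [← this, Category.assoc, Category.assoc]
        congr 1
        exact l.comm.symm)
      have := huu v₁ ⟨FObj.hom_ext (by
        change v.hom ≫ k.hom = k'.hom ≫ cθ.hom
        rw [← hk₂, ← Category.assoc, hv1']), FObj.hom_ext hv2'⟩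
      exact FObj.hom_ext (by
        have e : v.hom = u.hom := congrArg FObj.Hom.hom this
        exact e)

/-- An object over the domain of `g` whose underlying object maps to that of `z`. -/
theorem exists_shift (g : η' ⟶ η) {z : FObj π η'} {z₁ : FObj π η} (f : z₁ ⟶ (fibMap π g).obj z) :
    ∃ (z₂ : FObj π η') (f₂ : z₂ ⟶ z) (i : (fibMap π g).obj z₂ ⟶ z₁) (e : z₂.pt = z₁.pt),
      i.hom = eqToHom e ∧ f₂.hom = eqToHom e ≫ f.hom := by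
  refine ⟨⟨z₁.pt, π.map f.hom ≫ z.arr⟩, FObj.mkHom f.hom rfl, FObj.mkHom (𝟙 z₁.pt) ?_, rfl, rfl,
    (Category.id_comp _).symm⟩
  change π.map (𝟙 _) ≫ z₁.arr = (π.map f.hom ≫ z.arr) ≫ g
  rw [CategoryTheory.Functor.map_id, Category.id_comp, Category.assoc]
  exact f.comm.symm

/-- Base change of an affine presentation of `fibCat π η` along `g : η' ⟶ η` (both affine). -/
theorem exists_bc (h : FibCat.IsFibGrpd 𝒳.p) (h' : FibCat.IsFibGrpd 𝒴.p) (g : η' ⟶ η)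
    (hη : IsAffine (sch 𝒴 η)) (hη' : IsAffine (sch 𝒴 η')) (P : Pres (fibCat π η)) :
    ∃ (P' : Pres (fibCat π η')) (cζ : (fibMap π g).obj P'.ζ ⟶ P.ζ) (cρ : (fibMap π g).obj P'.ρ ⟶ P.ρ),
      (fibMap π g).map P'.s ≫ cζ = cρ ≫ P.s ∧ (fibMap π g).map P'.t ≫ cζ = cρ ≫ P.t ∧
      IsPullback (𝒳.p.map cζ.hom) (fbase P'.ζ) (fbase P.ζ) (𝒴.p.map g) ∧
      IsPullback (𝒳.p.map cρ.hom) (fbase P'.ρ) (fbase P.ρ) (𝒴.p.map g) := by
  obtain ⟨ζ', cζ, hζ⟩ := K906.exists_bc h h' g P.ζ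
  obtain ⟨ρ', cρ, hρ⟩ := K906.exists_bc h h' g P.ρ
  obtain ⟨s', hs, -⟩ := existsUnique_bc_hom h h' g hζ (cρ ≫ P.s)
  obtain ⟨t', ht, -⟩ := existsUnique_bc_hom h h' g hζ (cρ ≫ P.t)
  have hs' : s'.hom ≫ cζ.hom = cρ.hom ≫ P.s.hom := congrArg FObj.Hom.hom hs
  have ht' : t'.hom ≫ cζ.hom = cρ.hom ≫ P.t.hom := congrArg FObj.Hom.hom ht
  have hζl := (isPullback_left g hζ)
  have hρl := (isPullback_left g hρ)
  have hps : IsPullback (bmap 𝒳 cρ.hom) (bmap 𝒳 s'.hom) (bmap 𝒳 P.s.hom) (bmap 𝒳 cζ.hom) := by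
    refine IsPullback.of_bot (t := hζl) ?_ ?_
    · rw [bmap_fbase, bmap_fbase]
      exact hρl
    · rw [← bmap_comp, ← bmap_comp, hs']
  have hpt : IsPullback (bmap 𝒳 cρ.hom) (bmap 𝒳 t'.hom) (bmap 𝒳 P.t.hom) (bmap 𝒳 cζ.hom) := by
    refine IsPullback.of_bot (t := hζl) ?_ ?_
    · rw [bmap_fbase, bmap_fbase]
      exact hρl
    · rw [← bmap_comp, ← bmap_comp, ht']
  have hPζ : IsAffine (sch 𝒳 P.ζ.pt) := P.affζ
  have hPρ : IsAffine (sch 𝒳 P.ρ.pt) := P.affρ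
  refine ⟨⟨ζ', ρ', s', t', ?_, ?_, ?_, ?_, ?_, ?_, ?_⟩, cζ, cρ, hs, ht, hζ, hρ⟩
  · exact SchFac.isAffine_of_isPullback hζl hPζ hη' hη
  · exact SchFac.isAffine_of_isPullback hρl hPρ hη' hη
  · exact spanWith_bc h h' g P.span hρ hζ hζ hs ht
  · exact MorphismProperty.of_isPullback (P := @Smooth) hps P.smooth_s
  · exact MorphismProperty.of_isPullback (P := @Smooth) hpt P.smooth_t
  · intro z hz
    obtain ⟨z₁, f, d, h1, h2, h3⟩ := P.cov ((fibMap π g).obj z) hz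
    obtain ⟨z₂, f₂, i, e, hi, hf₂⟩ := exists_shift g f
    obtain ⟨d', -, -⟩ := existsUnique_bc_hom h h' g hζ (i ≫ d)
    have hiso : IsIso (bmap 𝒳 (eqToHom e)) := by
      have : IsIso ((Over.forget S).map (𝒳.p.map (eqToHom e))) := inferInstance
      exact this
    have h1' : IsAffine (sch 𝒳 z₁.pt) := h1
    have hff : bmap (fibCat π η') f₂ = bmap 𝒳 (eqToHom e) ≫ bmap 𝒳 f.hom := by
      rw [← bmap_comp, ← hf₂]; rfl
    refine ⟨z₂, f₂, d', IsAffine.of_isIso (bmap 𝒳 (eqToHom e)), ?_, ?_⟩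
    · rw [hff]
      have : Smooth (bmap 𝒳 f.hom) := h2
      infer_instance
    · rw [hff]
      have : Surjective (bmap 𝒳 f.hom) := h3
      infer_instance
  · intro z a b hz
    obtain ⟨z₁, f, d, h1, h2, h3, h4, h5⟩ := P.lift ((fibMap π g).obj z) ((fibMap π g).map a ≫ cζ)
      ((fibMap π g).map b ≫ cζ) hz
    obtain ⟨z₂, f₂, i, e, hi, hf₂⟩ := exists_shift g f
    obtain ⟨d', hd', -⟩ := existsUnique_bc_hom h h' g hρ (i ≫ d)
    have hd'' : d'.hom ≫ cρ.hom = i.hom ≫ d.hom := congrArg FObj.Hom.hom hd'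
    have h4' : d.hom ≫ P.s.hom = f.hom ≫ a.hom ≫ cζ.hom := congrArg FObj.Hom.hom h4
    have h5' : d.hom ≫ P.t.hom = f.hom ≫ b.hom ≫ cζ.hom := congrArg FObj.Hom.hom h5
    have hiso : IsIso (bmap 𝒳 (eqToHom e)) := by
      have : IsIso ((Over.forget S).map (𝒳.p.map (eqToHom e))) := inferInstance
      exact this
    have h1' : IsAffine (sch 𝒳 z₁.pt) := h1
    have hff : bmap (fibCat π η') f₂ = bmap 𝒳 (eqToHom e) ≫ bmap 𝒳 f.hom := by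
      rw [← bmap_comp, ← hf₂]; rfl
    refine ⟨z₂, f₂, d', IsAffine.of_isIso (bmap 𝒳 (eqToHom e)), ?_, ?_, ?_, ?_⟩
    · rw [hff]
      have : Etale (bmap 𝒳 f.hom) := h2
      infer_instance
    · rw [hff]
      have : Surjective (bmap 𝒳 f.hom) := h3
      infer_instance
    · refine (existsUnique_bc_hom h h' g hζ ((fibMap π g).map (f₂ ≫ a) ≫ cζ)).unique ?_ rfl
      refine FObj.hom_ext ?_
      change (d'.hom ≫ s'.hom) ≫ cζ.hom = (f₂.hom ≫ a.hom) ≫ cζ.hom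
      rw [Category.assoc, hs', ← Category.assoc, hd'', Category.assoc, h4', hi, hf₂]
      simp only [Category.assoc]
    · refine (existsUnique_bc_hom h h' g hζ ((fibMap π g).map (f₂ ≫ b) ≫ cζ)).unique ?_ rfl
      refine FObj.hom_ext ?_
      change (d'.hom ≫ t'.hom) ≫ cζ.hom = (f₂.hom ≫ b.hom) ≫ cζ.hom
      rw [Category.assoc, ht', ← Category.assoc, hd'', Category.assoc, h5', hi, hf₂]
      simp only [Category.assoc]

end K906.Pres
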