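import Groth.Prelude.Def_StMod

/-!
# Categories fibred in groupoids over `(Sch/S)`: lifts, cartesian arrows, fibre products

For `𝒳 : BasedCategory (Over S)` with `h : FibCat.IsFibGrpd 𝒳.p` (namespace `K906.Grpd`):

* `exists_lift`, `exists_lift_iso`: pull an object back along a morphism of schemes over `S`;
* `existsUnique_hom`, `hom_ext`: every arrow is cartesian;
* `isIso_of_isIso_map`;
* `isPullback_of_map`, `exists_isPullback`: the category `𝒳.obj` has fibre products, over fibre products of schemes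
  (`isPullback_bmap`).
-/

set_option autoImplicit false
set_option backward.isDefEq.respectTransparency false
set_option backward.isDefEq.respectTransparency.types false

universe w v u

open CategoryTheory CategoryTheory.Limits AlgebraicGeometry StMod

namespace K906.Grpd

variable {S : Scheme.{u}} {𝒳 : BasedCategory.{v, w} (Over S)}

theorem exists_lift (h : FibCat.IsFibGrpd 𝒳.p) (x : 𝒳.obj) {V : Over S} (f : V ⟶ 𝒳.p.obj x) :
    ∃ (y : 𝒳.obj) (φ : y ⟶ x) (e : 𝒳.p.obj y = V), 𝒳.p.map φ = eqToHom e ≫ f := by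
  obtain ⟨y, φ, hφ⟩ := h.exists_lift f
  refine ⟨y, φ, IsHomLift.domain_eq 𝒳.p f φ, ?_⟩
  have := IsHomLift.fac' 𝒳.p f φ
  simpa using this

/-- Pulling back an object along `f : V ⟶ p x`. -/
theorem exists_lift_iso (h : FibCat.IsFibGrpd 𝒳.p) (x : 𝒳.obj) {V : Over S} (f : V ⟶ 𝒳.p.obj x) :
    ∃ (y : 𝒳.obj) (φ : y ⟶ x) (e : 𝒳.p.obj y ≅ V), 𝒳.p.map φ = e.hom ≫ f := by
  obtain ⟨y, φ, e, he⟩ := exists_lift h x f
  exact ⟨y, φ, eqToIso e, he⟩

/-- Every arrow of a category fibred in groupoids is cartesian. -/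
theorem existsUnique_hom (h : FibCat.IsFibGrpd 𝒳.p) {x y z : 𝒳.obj} (φ : y ⟶ x) (ψ : z ⟶ x)
    (g : 𝒳.p.obj z ⟶ 𝒳.p.obj y) (hg : g ≫ 𝒳.p.map φ = 𝒳.p.map ψ) :
    ∃! χ : z ⟶ y, 𝒳.p.map χ = g ∧ χ ≫ φ = ψ := by
  have hc := h.isStronglyCartesian φ
  have hl : 𝒳.p.IsHomLift (g ≫ 𝒳.p.map φ) ψ := by rw [hg]; infer_instance
  obtain ⟨χ, ⟨h1, h2⟩, hu⟩ := hc.universal_property' g ψ
  refine ⟨χ, ⟨?_, h2⟩, ?_⟩
  · exact (IsHomLift.eq_of_isHomLift 𝒳.p g χ).symm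
  · rintro χ' ⟨h1', h2'⟩
    refine hu χ' ⟨?_, h2'⟩
    rw [← h1']; infer_instance

theorem hom_ext (h : FibCat.IsFibGrpd 𝒳.p) {x y z : 𝒳.obj} (φ : y ⟶ x) {a b : z ⟶ y}
    (h1 : 𝒳.p.map a = 𝒳.p.map b) (h2 : a ≫ φ = b ≫ φ) : a = b :=
  (existsUnique_hom h φ (b ≫ φ) (𝒳.p.map b) (by rw [Functor.map_comp])).unique ⟨h1, h2⟩ ⟨rfl, rfl⟩

theorem isIso_of_isIso_map (h : FibCat.IsFibGrpd 𝒳.p) {x y : 𝒳.obj} (φ : y ⟶ x) [IsIso (𝒳.p.map φ)] :
    IsIso φ := by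
  obtain ⟨χ, ⟨h1, h2⟩, -⟩ := existsUnique_hom h φ (𝟙 x) (inv (𝒳.p.map φ)) (by simp)
  refine ⟨χ, ?_, h2⟩
  refine hom_ext h φ ?_ ?_
  · rw [Functor.map_comp, h1, IsIso.hom_inv_id, CategoryTheory.Functor.map_id]
  · rw [Category.assoc, h2, Category.comp_id, Category.id_comp]

/-- A commutative square over a fibre product square is a fibre product square. -/
theorem isPullback_of_map (h : FibCat.IsFibGrpd 𝒳.p) {w y z x : 𝒳.obj} {k : w ⟶ y} {l : w ⟶ z} {a : y ⟶ x}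
    {b : z ⟶ x} (comm : k ≫ a = l ≫ b)
    (hp : IsPullback (𝒳.p.map k) (𝒳.p.map l) (𝒳.p.map a) (𝒳.p.map b)) : IsPullback k l a b := by
  refine ⟨⟨comm⟩, ⟨PullbackCone.IsLimit.mk comm (fun s => ?_) (fun s => ?_) (fun s => ?_) (fun s m h1 h2 => ?_)⟩⟩
  · exact (existsUnique_hom h l s.snd (hp.lift (𝒳.p.map s.fst) (𝒳.p.map s.snd)
      (by rw [← Functor.map_comp, ← Functor.map_comp, s.condition])) (by simp)).exists.choose
  · have H := (existsUnique_hom h l s.snd (hp.lift (𝒳.p.map s.fst) (𝒳.p.map s.snd)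
      (by rw [← Functor.map_comp, ← Functor.map_comp, s.condition])) (by simp)).exists.choose_spec
    refine hom_ext h a ?_ ?_
    · rw [Functor.map_comp, H.1, hp.lift_fst]
    · rw [Category.assoc, comm, ← Category.assoc, H.2, s.condition]
  · exact (existsUnique_hom h l s.snd (hp.lift (𝒳.p.map s.fst) (𝒳.p.map s.snd)
      (by rw [← Functor.map_comp, ← Functor.map_comp, s.condition])) (by simp)).exists.choose_spec.2
  · have H := (existsUnique_hom h l s.snd (hp.lift (𝒳.p.map s.fst) (𝒳.p.map s.snd)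
      (by rw [← Functor.map_comp, ← Functor.map_comp, s.condition])) (by simp)).exists.choose_spec
    refine hom_ext h l ?_ (h2.trans H.2.symm)
    rw [H.1]
    refine hp.hom_ext ?_ ?_
    · rw [← Functor.map_comp, h1, hp.lift_fst]
    · rw [← Functor.map_comp, h2, hp.lift_snd]

/-- Fibre products in a category fibred in groupoids over `(Sch/S)`. -/
theorem exists_isPullback_map (h : FibCat.IsFibGrpd 𝒳.p) {y z x : 𝒳.obj} (a : y ⟶ x) (b : z ⟶ x) :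
    ∃ (w : 𝒳.obj) (k : w ⟶ y) (l : w ⟶ z), IsPullback k l a b ∧
      IsPullback (𝒳.p.map k) (𝒳.p.map l) (𝒳.p.map a) (𝒳.p.map b) := by
  obtain ⟨w, l, e, hl⟩ := exists_lift_iso h z (pullback.snd (𝒳.p.map a) (𝒳.p.map b))
  obtain ⟨k, ⟨h1, h2⟩, -⟩ := existsUnique_hom h a (l ≫ b) (e.hom ≫ pullback.fst (𝒳.p.map a) (𝒳.p.map b))
    (by rw [Functor.map_comp, hl, Category.assoc, Category.assoc, pullback.condition])
  have hp : IsPullback (𝒳.p.map k) (𝒳.p.map l) (𝒳.p.map a) (𝒳.p.map b) := by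
    rw [h1, hl]
    exact (IsPullback.of_hasPullback (𝒳.p.map a) (𝒳.p.map b)).of_iso e.symm (Iso.refl _) (Iso.refl _) (Iso.refl _)
      (by simp) (by simp) (by simp) (by simp)
  exact ⟨w, k, l, isPullback_of_map h h2 hp, hp⟩

theorem exists_isPullback (h : FibCat.IsFibGrpd 𝒳.p) {y z x : 𝒳.obj} (a : y ⟶ x) (b : z ⟶ x) :
    ∃ (w : 𝒳.obj) (k : w ⟶ y) (l : w ⟶ z), IsPullback k l a b :=
  let ⟨w, k, l, h1, _⟩ := exists_isPullback_map h a b
  ⟨w, k, l, h1⟩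

/-- The structure functor preserves fibre products. -/
theorem isPullback_map (h : FibCat.IsFibGrpd 𝒳.p) {w y z x : 𝒳.obj} {k : w ⟶ y} {l : w ⟶ z} {a : y ⟶ x}
    {b : z ⟶ x} (H : IsPullback k l a b) :
    IsPullback (𝒳.p.map k) (𝒳.p.map l) (𝒳.p.map a) (𝒳.p.map b) := by
  obtain ⟨w', k', l', h1, h2⟩ := exists_isPullback_map h a b
  let e := H.isoIsPullback _ _ h1
  have e1 : e.hom ≫ k' = k := H.isoIsPullback_hom_fst _ _ h1
  have e2 : e.hom ≫ l' = l := H.isoIsPullback_hom_snd _ _ h1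
  refine h2.of_iso (𝒳.p.mapIso e.symm) (Iso.refl _) (Iso.refl _) (Iso.refl _) ?_ ?_ (by simp) (by simp)
  · rw [← e1]; simp [← Functor.map_comp]
  · rw [← e2]; simp [← Functor.map_comp]

/-- The fibre product square of schemes under a fibre product square of objects. -/
theorem isPullback_bmap (h : FibCat.IsFibGrpd 𝒳.p) {w y z x : 𝒳.obj} {k : w ⟶ y} {l : w ⟶ z} {a : y ⟶ x}
    {b : z ⟶ x} (H : IsPullback k l a b) :
    IsPullback (bmap 𝒳 k) (bmap 𝒳 l) (bmap 𝒳 a) (bmap 𝒳 b) :=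
  (isPullback_map h H).map (Over.forget S)

/-- Pull an object back along a morphism of schemes. -/
theorem exists_lift_sch (h : FibCat.IsFibGrpd 𝒳.p) (x : 𝒳.obj) {V : Scheme.{u}} (f : V ⟶ sch 𝒳 x) :
    ∃ (y : 𝒳.obj) (φ : y ⟶ x) (e : sch 𝒳 y ≅ V), bmap 𝒳 φ = e.hom ≫ f := by
  let f' : Over.mk (f ≫ (𝒳.p.obj x).hom) ⟶ 𝒳.p.obj x := Over.homMk f rfl
  obtain ⟨y, φ, e, he⟩ := exists_lift_iso h x f'
  exact ⟨y, φ, (Over.forget S).mapIso e, congrArg (fun t => t.left) he⟩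

/-- A morphism of schemes between the schemes under `z`, `y` compatible with arrows to `x` is under a unique arrow. -/
theorem existsUnique_hom_sch (h : FibCat.IsFibGrpd 𝒳.p) {x y z : 𝒳.obj} (φ : y ⟶ x) (ψ : z ⟶ x)
    (g : sch 𝒳 z ⟶ sch 𝒳 y) (hg : g ≫ bmap 𝒳 φ = bmap 𝒳 ψ) :
    ∃! χ : z ⟶ y, bmap 𝒳 χ = g ∧ χ ≫ φ = ψ := by
  have hw : g ≫ (𝒳.p.obj y).hom = (𝒳.p.obj z).hom := by
    rw [← Over.w (𝒳.p.map φ), ← Over.w (𝒳.p.map ψ)]
    exact (Category.assoc _ _ _).symm.trans (congrArg (· ≫ (𝒳.p.obj x).hom) hg)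
  let g' : 𝒳.p.obj z ⟶ 𝒳.p.obj y := Over.homMk g hw
  obtain ⟨χ, ⟨h1, h2⟩, hu⟩ := existsUnique_hom h φ ψ g' (Over.OverMorphism.ext hg)
  refine ⟨χ, ⟨congrArg (fun t => t.left) h1, h2⟩, ?_⟩
  rintro χ' ⟨h1', h2'⟩
  exact hu χ' ⟨Over.OverMorphism.ext h1', h2'⟩

theorem hom_ext_sch (h : FibCat.IsFibGrpd 𝒳.p) {x y z : 𝒳.obj} (φ : y ⟶ x) {a b : z ⟶ y}
    (h1 : bmap 𝒳 a = bmap 𝒳 b) (h2 : a ≫ φ = b ≫ φ) : a = b :=
  hom_ext h φ (Over.OverMorphism.ext h1) h2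

theorem isIso_of_isIso_bmap (h : FibCat.IsFibGrpd 𝒳.p) {x y : 𝒳.obj} (φ : y ⟶ x) [IsIso (bmap 𝒳 φ)] :
    IsIso φ := by
  have : IsIso (𝒳.p.map φ) := by
    have : IsIso ((Over.forget S).map (𝒳.p.map φ)) := ‹IsIso (bmap 𝒳 φ)›
    exact isIso_of_reflects_iso (𝒳.p.map φ) (Over.forget S)
  exact isIso_of_isIso_map h φ

/-- A commutative square over a fibre product square of schemes is a fibre product square. -/
theorem isPullback_of_bmap (h : FibCat.IsFibGrpd 𝒳.p) {w y z x : 𝒳.obj} {k : w ⟶ y} {l : w ⟶ z} {a : y ⟶ x}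
    {b : z ⟶ x} (comm : k ≫ a = l ≫ b)
    (hp : IsPullback (bmap 𝒳 k) (bmap 𝒳 l) (bmap 𝒳 a) (bmap 𝒳 b)) : IsPullback k l a b := by
  obtain ⟨w', k', l', h1⟩ := exists_isPullback h a b
  have h2 := isPullback_bmap h h1
  let t : w ⟶ w' := h1.lift k l comm
  have e1 : t ≫ k' = k := h1.lift_fst _ _ _
  have e2 : t ≫ l' = l := h1.lift_snd _ _ _
  have e3 : bmap 𝒳 t = (hp.isoIsPullback _ _ h2).hom := by
    refine h2.hom_ext ?_ ?_
    · rw [IsPullback.isoIsPullback_hom_fst, ← bmap_comp, e1]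
    · rw [IsPullback.isoIsPullback_hom_snd, ← bmap_comp, e2]
  have : IsIso (bmap 𝒳 t) := by rw [e3]; infer_instance
  have : IsIso t := isIso_of_isIso_bmap h t
  exact h1.of_iso (asIso t).symm (Iso.refl _) (Iso.refl _) (Iso.refl _) (by simp [← e1]) (by simp [← e2])
    (by simp) (by simp)

end K906.Grpd
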