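import Groth.Agent.StMod.K906.Atlas
import Groth.Agent.AlgSt.K735.Rep

/-!
# `fibCat G τ` is the 2-fibre product with the slice of `τ`

* `fpToFib y G : FibCat.fp y G ⥤ᵇ fibCat G (y.obj one)`, an equivalence over the base;
* `fibMap` along an isomorphism over the identity is an equivalence;
* `toBase G τ : fibCat G τ ⥤ᵇ overCat (𝒮.p.obj τ)`;
* `exists_secRep_fibCat` : if `RepByAlgSpWith P G` then `fibCat G τ` is represented by an algebraic space with `P`.
-/

set_option autoImplicit false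
set_option backward.isDefEq.respectTransparency false
set_option backward.isDefEq.respectTransparency.types false

universe w' v' w v u

open CategoryTheory CategoryTheory.Limits AlgebraicGeometry StMod MorphismProperty Opposite AlgSp

namespace K906

open K906.Grpd K735.Fib K735.Fp K735.Rep

variable {S : Scheme.{u}} {𝒳 : BasedCategory.{v, w} (Over S)} {𝒮 : BasedCategory.{v', w'} (Over S)}

theorem vert_iff_isVert {𝒳 : BasedCategory.{v, w} (Over S)} {a b : 𝒳.obj} {φ : a ⟶ b} :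
    Vert 𝒳.p φ ↔ K734.Fib.IsVert 𝒳 φ := Iff.rfl

section Equiv

variable {T : Over S} (y : FibCat.overCat T ⥤ᵇ 𝒮) (G : 𝒳 ⥤ᵇ 𝒮)

/-- The functor from the 2-fibre product with a slice to the category of pairs. -/
def fpToFib : FibCat.fp y G ⥤ᵇ fibCat G (y.obj (K734.Fib.one T)) where
  toFunctor :=
    { obj := fun z => ⟨z.obj.snd, z.obj.iso.inv ≫ y.map (K734.Fib.toOne z.obj.fst)⟩
      map := fun {z z'} m => FObj.mkHom m.hom.snd (by
        change G.map m.hom.snd ≫ z'.obj.iso.inv ≫ y.map (K734.Fib.toOne z'.obj.fst) =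
          z.obj.iso.inv ≫ y.map (K734.Fib.toOne z.obj.fst)
        have hw := fp_w m
        rw [← K734.Fib.toOne_comp m.hom.fst, Functor.map_comp, ← cancel_epi z.obj.iso.hom, ← Category.assoc, ← hw]
        simp) }
  w := (FibCat.fpSnd y G).w

@[simp] theorem fpToFib_pt (z : (FibCat.fp y G).obj) : ((fpToFib y G).obj z).pt = z.obj.snd := rfl

theorem fpToFib_arr (z : (FibCat.fp y G).obj) :
    ((fpToFib y G).obj z).arr = z.obj.iso.inv ≫ y.map (K734.Fib.toOne z.obj.fst) := rfl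

/-- The structure morphism of an object of the 2-fibre product, read in `fibCat`. -/
theorem fbase_fpToFib (z : (FibCat.fp y G).obj) :
    fbase ((fpToFib y G).obj z) = eqToHom (fp_snd_eq z) ≫ Over.hom z.obj.fst ≫
      eqToHom (y.w_obj (K734.Fib.one T)).symm := by
  change eqToHom (G.w_obj z.obj.snd).symm ≫ 𝒮.p.map (z.obj.iso.inv ≫ y.map (K734.Fib.toOne z.obj.fst)) = _
  rw [Functor.map_comp, (Vert.iso_inv (fp_vert z)).map_eq, K735.Fib.map_map,
    show (FibCat.overCat T).p.map (K734.Fib.toOne z.obj.fst) = Over.hom z.obj.fst from rfl]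
  simp

theorem isEquivOver_fpToFib (h𝒮 : FibCat.IsFibGrpd 𝒮.p) : FibCat.IsEquivOver (fpToFib y G) := by
  have key : ∀ {z z' : (FibCat.fp y G).obj} (m : z ⟶ z'), m.hom.fst.left =
      eqToHom (fp_snd_eq z).symm ≫ 𝒳.p.map m.hom.snd ≫ eqToHom (fp_snd_eq z') := by
    intro z z' m
    rw [fp_map_snd]
    simp only [Category.assoc, eqToHom_trans, eqToHom_trans_assoc, eqToHom_refl, Category.id_comp, Category.comp_id]
    rfl
  refine isEquivOver_of ?_ ?_ ?_
  · intro a b φ ψ e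
    have e1 : φ.hom.snd = ψ.hom.snd := congrArg FObj.Hom.hom e
    refine fp_hom_ext (Over.OverMorphism.ext ?_) e1
    rw [key φ, key ψ, e1]
  · intro a b φ
    have hc : G.map φ.hom ≫ b.obj.iso.inv ≫ y.map (K734.Fib.toOne b.obj.fst) =
      a.obj.iso.inv ≫ y.map (K734.Fib.toOne a.obj.fst) := φ.comm
    let f₀ : Over.left a.obj.fst ⟶ Over.left b.obj.fst :=
      eqToHom (fp_snd_eq a).symm ≫ 𝒳.p.map φ.hom ≫ eqToHom (fp_snd_eq b)
    have hf₀ : f₀ ≫ Over.hom b.obj.fst = Over.hom a.obj.fst := by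
      have h1 := map_fbase φ
      rw [fbase_fpToFib, fbase_fpToFib] at h1
      rw [← cancel_mono (eqToHom (y.w_obj (K734.Fib.one T)).symm), ← cancel_epi (eqToHom (fp_snd_eq a))]
      simp only [Category.assoc] at h1 ⊢
      rw [← h1]
      simp only [f₀, Category.assoc, eqToHom_trans_assoc, eqToHom_refl, Category.id_comp]
    let f : a.obj.fst ⟶ b.obj.fst := Over.homMk f₀ hf₀
    refine ⟨homFp f φ.hom ?_, FObj.hom_ext rfl⟩
    have h2 : (y.map f ≫ b.obj.iso.hom) ≫ b.obj.iso.inv = (a.obj.iso.hom ≫ G.map φ.hom) ≫ b.obj.iso.inv := by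
      refine Grpd.hom_ext h𝒮 (y.map (K734.Fib.toOne b.obj.fst)) ?_ ?_
      · simp only [Functor.map_comp]
        rw [(Vert.iso_inv (fp_vert b)).map_eq, (fp_vert a).map_eq, (fp_vert b).map_eq, K735.Fib.map_map,
          K735.Fib.map_map, show (FibCat.overCat T).p.map f = f₀ from rfl]
        simp [f₀]
      · simp only [Category.assoc, Iso.hom_inv_id_assoc]
        rw [hc, Iso.hom_inv_id_assoc, ← Functor.map_comp, K734.Fib.toOne_comp]
    exact (cancel_mono _).1 h2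
  · rintro ⟨ξ, m⟩
    let f : (FibCat.overCat T).obj :=
      Over.mk (eqToHom (G.w_obj ξ).symm ≫ 𝒮.p.map m ≫ eqToHom (y.w_obj (K734.Fib.one T)))
    obtain ⟨i, hi, hi'⟩ := K906.Span.exists_ident h𝒮 y m (f := f) (G.w_obj ξ) (by simp [f])
    refine ⟨mkFp y G f ξ i.symm (Vert.iso_inv (φ := i) hi), ⟨FObj.mkHom (𝟙 ξ) ?_, FObj.mkHom (𝟙 ξ) ?_,
      FObj.hom_ext (Category.id_comp _), FObj.hom_ext (Category.id_comp _)⟩, ?_⟩
    · change G.map (𝟙 ξ) ≫ m = i.hom ≫ y.map (K734.Fib.toOne f)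
      rw [hi', CategoryTheory.Functor.map_id, Category.id_comp]
    · change G.map (𝟙 ξ) ≫ i.hom ≫ y.map (K734.Fib.toOne f) = m
      rw [hi', CategoryTheory.Functor.map_id, Category.id_comp]
    · refine vert_of_map_eq rfl ?_
      change 𝒳.p.map (𝟙 ξ) = _
      simp

end Equiv

section IsoTarget

variable (G : 𝒳 ⥤ᵇ 𝒮) {τ τ' : 𝒮.obj} (i : τ ≅ τ')

theorem isEquivOver_fibMap : FibCat.IsEquivOver (fibMap G i.hom) := by
  refine isEquivOver_of ?_ ?_ ?_
  · intro a b φ ψ e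
    have e1 := congrArg (fun t => FObj.Hom.hom t) e
    exact FObj.hom_ext e1
  · intro a b φ
    refine ⟨FObj.mkHom φ.hom ?_, FObj.hom_ext rfl⟩
    have : G.map φ.hom ≫ FObj.arr b ≫ i.hom = FObj.arr a ≫ i.hom := φ.comm
    rw [← Category.assoc] at this
    exact (cancel_mono _).1 this
  · rintro ⟨ξ, m⟩
    refine ⟨⟨ξ, m ≫ i.inv⟩, ⟨FObj.mkHom (𝟙 ξ) ?_, FObj.mkHom (𝟙 ξ) ?_,
      FObj.hom_ext (Category.id_comp _), FObj.hom_ext (Category.id_comp _)⟩, ?_⟩
    · change G.map (𝟙 ξ) ≫ m = (m ≫ i.inv) ≫ i.hom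
      simp
    · change G.map (𝟙 ξ) ≫ (m ≫ i.inv) ≫ i.hom = m
      simp
    · refine vert_of_map_eq rfl ?_
      change 𝒳.p.map (𝟙 ξ) = _
      simp

end IsoTarget

/-- The structure functor of `fibCat G τ` to the slice. -/
def toBase (G : 𝒳 ⥤ᵇ 𝒮) (τ : 𝒮.obj) : fibCat G τ ⥤ᵇ FibCat.overCat (𝒮.p.obj τ) where
  toFunctor :=
    { obj := fun a => Over.mk (fbase a)
      map := fun {a b} f => Over.homMk (𝒳.p.map f.hom) (map_fbase f) }
  w := rfl

theorem str_toBase (G : 𝒳 ⥤ᵇ 𝒮) (τ : 𝒮.obj) (a : (fibCat G τ).obj) : K738.str (toBase G τ) a = fbase a :=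
  Category.id_comp _

/-- If `G` is representable by algebraic spaces with `P` then `fibCat G τ` is represented by an algebraic space with
`P` over the base of `τ`. -/
theorem exists_secRep_fibCat (h𝒮 : FibCat.IsFibGrpd 𝒮.p) {P : MorphismProperty (Sp S)} {G : 𝒳 ⥤ᵇ 𝒮}
    (hG : AlgSt.RepByAlgSpWith P G) (τ : 𝒮.obj) :
    ∃ (F : Space S) (π : F.obj ⟶ (yon S).obj (𝒮.p.obj τ)), P π ∧ Nonempty (K738.SecRep (toBase G τ) F.obj π) := by
  obtain ⟨F, e, he, hP⟩ := hG (𝒮.p.obj τ) (K734.Fib.yo h𝒮 τ rfl)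
  let y := K734.Fib.yo h𝒮 τ rfl
  let E : FibCat.fp y G ⥤ᵇ fibCat G τ := BasedFunctor.comp (fpToFib y G) (fibMap G (K734.Fib.yoIso h𝒮 τ rfl).hom)
  have hE : FibCat.IsEquivOver E := IsEquivOver.comp (isEquivOver_fpToFib y G h𝒮) (isEquivOver_fibMap G _)
  have hstr : ∀ z : (FibCat.fp y G).obj, fbase (E.obj z) = eqToHom (fp_snd_eq z) ≫ Over.hom z.obj.fst := by
    intro z
    change fbase ((fibMap G (K734.Fib.yoIso h𝒮 τ rfl).hom).obj ((fpToFib y G).obj z)) = _
    rw [fbase_fibMap, fbase_fpToFib, (K734.Fib.yoIso_vert h𝒮 τ rfl).map_eq]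
    simp
  have hiso : BasedFunctor.comp E (toBase G τ) ≅ FibCat.fpFst y G := by
    refine mkIso (fun z => Over.isoMk (eqToIso (fp_snd_eq z)) ?_) ?_ ?_
    · change eqToHom (fp_snd_eq z) ≫ Over.hom z.obj.fst = fbase (E.obj z)
      rw [hstr]
    · intro z z' m
      refine Over.OverMorphism.ext ?_
      change 𝒳.p.map m.hom.snd ≫ eqToHom (fp_snd_eq z') = eqToHom (fp_snd_eq z) ≫ m.hom.fst.left
      rw [fp_map_snd]
      simp
      rfl
    · intro z
      exact vert_of_map_eq (fp_snd_eq z) rfl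
  obtain ⟨R⟩ := K738.SecRep.nonempty_of_equiv (toBase G τ) (BasedFunctor.comp e E) (IsEquivOver.comp he hE)
  refine ⟨F, _, ?_, ⟨R⟩⟩
  have : AlgSt.spMapOfOver (BasedFunctor.comp (BasedFunctor.comp e E) (toBase G τ)) =
      AlgSt.spMapOfOver (BasedFunctor.comp e (FibCat.fpFst y G)) :=
    spMapOfOver_eq_of_iso (whiskerLeftIso e hiso)
  rw [this]
  exact hP

end K906
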