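import Groth.Prelude.Def_StMod6
import Groth.Prelude.Def_StMod2
import Groth.Agent.AlgSt.K735.Fp
import Groth.Agent.StMod.K906.Grpd

/-!
# Sections of an inverse image, and sections of the pushforward along the base change of `π`

* `gam h M x` : a global section of `M : X.Modules` read on `castMod h M` (`h : X = T`), `gam_mapTop`, `gam_comapMap`;
* `fpSect π g F η'` : for `π : 𝒳 ⥤ᵇ 𝒴`, `g : 𝒴' ⥤ᵇ 𝒴`, `F : Mod 𝒳`, `η' : 𝒴'.obj`, the bijection
  `RelSect π F (g η') ≃ RelSect (fpFst g π) (comap (fpSnd g π) F) η'` (`fpSect_bijective`), natural in `F`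
  (`fpSect_relSectMap`), semilinear (`fpSect_smul`), compatible with restrictions;
* `surjective_relSectMap_iff`.
-/

set_option autoImplicit false
set_option linter.unusedVariables false
set_option backward.isDefEq.respectTransparency false
set_option backward.isDefEq.respectTransparency.types false

universe w'' v'' w' v' w v u

open CategoryTheory CategoryTheory.Limits AlgebraicGeometry Opposite TopologicalSpace StMod

namespace K906.Comap

section Cast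

variable {X X' T T' : Scheme.{u}}

/-- A global section of a module read along an equality of schemes. -/
noncomputable def gam (h : X = T) (M : X.Modules) : Γ(M, ⊤) ≃+ Γ(castMod h M, ⊤) := by
  subst h
  exact AddEquiv.refl _

@[simp] theorem gam_rfl (M : X.Modules) (x : Γ(M, ⊤)) : gam rfl M x = x := rfl

theorem gam_castHom (h : X = T) {M N : X.Modules} (a : M ⟶ N) (x : Γ(M, ⊤)) :
    (castHom h a).app ⊤ (gam h M x) = gam h N (a.app ⊤ x) := by
  subst h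
  rfl

theorem gam_castMap (hX : X = T) (hX' : X' = T') {g₁ : X' ⟶ X} {g : T' ⟶ T}
    (hg : g₁ ≫ eqToHom hX = eqToHom hX' ≫ g) {M : X.Modules} {N : X'.Modules}
    (m : M ⟶ (Scheme.Modules.pushforward g₁).obj N) (x : Γ(M, ⊤)) :
    (show Γ(castMod hX' N, ⊤) from (castMap hX hX' hg m).app ⊤ (gam hX M x)) =
      gam hX' N (show Γ(N, ⊤) from m.app ⊤ x) := by
  subst hX hX'
  obtain rfl : g₁ = g := by simpa using hg
  rw [castMap_rfl_self]
  rfl

theorem gam_smul (h : X = T) (M : X.Modules) (r : Γ(T, ⊤)) (x : Γ(M, ⊤)) :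
    gam h M ((eqToHom h).appTop r • x) = r • gam h M x := by
  subst h
  change ((𝟙 X : X ⟶ X).appTop r • x) = r • x
  rw [Scheme.Hom.id_appTop]
  rfl

end Cast

section Comap

variable {S : Scheme.{u}} {𝒳 : BasedCategory.{v, w} (Over S)} {𝒴 : BasedCategory.{v', w'} (Over S)}
  (f : 𝒴 ⥤ᵇ 𝒳)

/-- Sections of an inverse image. -/
noncomputable def gamF (F : Mod 𝒳) (y : 𝒴.obj) : Γ(F.obj (f.obj y), ⊤) ≃+ Γ((Mod.comap f F).obj y, ⊤) :=
  gam (sch_obj_eq f y) (F.obj (f.obj y))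

theorem gamF_mapTop (F : Mod 𝒳) {y' y : 𝒴.obj} (φ : y' ⟶ y) (x : Γ(F.obj (f.obj y), ⊤)) :
    (Mod.comap f F).mapTop φ (gamF f F y x) = gamF f F y' (F.mapTop (f.map φ) x) :=
  gam_castMap (sch_obj_eq f y) (sch_obj_eq f y') (bmap_map_comm f φ rfl) (F.map (f.map φ) rfl) x

theorem gamF_comapMap {F G : Mod 𝒳} (u : F ⟶ G) (y : 𝒴.obj) (x : Γ(F.obj (f.obj y), ⊤)) :
    ((Mod.comapMap f u).app y).app ⊤ (gamF f F y x) = gamF f G y ((u.app (f.obj y)).app ⊤ x) :=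
  gam_castHom (sch_obj_eq f y) (u.app (f.obj y)) x

theorem gamF_smul (F : Mod 𝒳) (y : 𝒴.obj) (r : Γ(sch 𝒴 y, ⊤)) (x : Γ(F.obj (f.obj y), ⊤)) :
    gamF f F y ((eqToHom (sch_obj_eq f y)).appTop r • x) = r • gamF f F y x :=
  gam_smul (sch_obj_eq f y) (F.obj (f.obj y)) r x

/-- Inverse image preserves surjections. -/
theorem isSurj_comapMap {F G : Mod 𝒳} (u : F ⟶ G) (hu : Mod.IsSurj u) : Mod.IsSurj (Mod.comapMap f u) := by
  intro y hy
  have h1 : IsAffine (sch 𝒳 (f.obj y)) := by rw [sch_obj_eq f y]; exact hy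
  intro z
  obtain ⟨z, rfl⟩ := (gamF f G y).surjective z
  obtain ⟨x, rfl⟩ := hu _ h1 z
  exact ⟨gamF f F y x, gamF_comapMap f u y x⟩

end Comap

section Fp

open K735.Fib K735.Fp

variable {S : Scheme.{u}} {𝒳 : BasedCategory.{v, w} (Over S)} {𝒴 : BasedCategory.{v', w'} (Over S)}
  {𝒴' : BasedCategory.{v'', w''} (Over S)} (π : 𝒳 ⥤ᵇ 𝒴) (g : 𝒴' ⥤ᵇ 𝒴)

/-- The arrow `π ξ ⟶ g η'` attached to an object `x` of the fibre product and an arrow of its first component to `η'`. -/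
def arrF {η' : 𝒴'.obj} (x : (FibCat.fp g π).obj) (α : x.obj.fst ⟶ η') : π.obj x.obj.snd ⟶ g.obj η' :=
  x.obj.iso.inv ≫ g.map α

theorem arrF_comp {η' : 𝒴'.obj} {x x' : (FibCat.fp g π).obj} (φ : x' ⟶ x) (α : x.obj.fst ⟶ η') :
    π.map φ.hom.snd ≫ arrF π g x α = arrF π g x' (φ.hom.fst ≫ α) := by
  have h := fp_w φ
  have h' : π.map φ.hom.snd ≫ x.obj.iso.inv = x'.obj.iso.inv ≫ g.map φ.hom.fst := by
    rw [Iso.comp_inv_eq, Category.assoc, h, Iso.inv_hom_id_assoc]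
  rw [arrF, arrF, Functor.map_comp, ← Category.assoc, h', Category.assoc]

/-- Restriction of a section of `π_* F` to the fibre product. -/
noncomputable def fpSect (F : Mod 𝒳) (η' : 𝒴'.obj) :
    Mod.RelSect π F (g.obj η') →+ Mod.RelSect (FibCat.fpFst g π) (Mod.comap (FibCat.fpSnd g π) F) η' where
  toFun s := ⟨fun x α => gamF (FibCat.fpSnd g π) F x (s.1 x.obj.snd (arrF π g x α)), fun x' x φ α => by
    refine (gamF_mapTop (FibCat.fpSnd g π) F φ _).trans ?_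
    refine congrArg (gamF (FibCat.fpSnd g π) F x') ?_
    refine (s.2 φ.hom.snd _).trans ?_
    exact congrArg (s.1 x'.obj.snd) (arrF_comp π g φ α)⟩
  map_zero' := Mod.RelSect.ext _ _ _ fun x α => map_zero (gamF (FibCat.fpSnd g π) F x)
  map_add' s t := Mod.RelSect.ext _ _ _ fun x α => map_add (gamF (FibCat.fpSnd g π) F x) _ _

theorem fpSect_val (F : Mod 𝒳) (η' : 𝒴'.obj) (s : Mod.RelSect π F (g.obj η')) (x : (FibCat.fp g π).obj)
    (α : x.obj.fst ⟶ η') :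
    (fpSect π g F η' s).1 x α = gamF (FibCat.fpSnd g π) F x (s.1 x.obj.snd (arrF π g x α)) := rfl

/-- Naturality in the module. -/
theorem fpSect_relSectMap {F G : Mod 𝒳} (u : F ⟶ G) (η' : 𝒴'.obj) (s : Mod.RelSect π F (g.obj η')) :
    Mod.relSectMap (FibCat.fpFst g π) (Mod.comapMap (FibCat.fpSnd g π) u) η' (fpSect π g F η' s) =
      fpSect π g G η' (Mod.relSectMap π u (g.obj η') s) := by
  apply Mod.RelSect.ext
  intro x α
  exact gamF_comapMap (FibCat.fpSnd g π) u x _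

variable (h𝒳 : FibCat.IsFibGrpd 𝒳.p) (h𝒴 : FibCat.IsFibGrpd 𝒴.p) (h𝒴' : FibCat.IsFibGrpd 𝒴'.p)

include h𝒴 h𝒴' in
/-- Every pair `(ξ, β : π ξ ⟶ g η')` comes from the fibre product. -/
theorem exists_arrF {η' : 𝒴'.obj} (ξ : 𝒳.obj) (β : π.obj ξ ⟶ g.obj η') :
    ∃ (y : 𝒴'.obj) (ι : g.obj y ≅ π.obj ξ) (hι : Vert 𝒴.p ι.hom) (α : y ⟶ η'),
      arrF π g (mkFp g π y ξ ι hι) α = β := by
  obtain ⟨y₁, ψ, hψ⟩ := h𝒴'.exists_lift (x := η') (V := 𝒳.p.obj ξ) (baseOver π ξ β ≫ eqToHom (g.w_obj η'))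
  have e1 : 𝒴'.p.obj y₁ = 𝒳.p.obj ξ := IsHomLift.domain_eq 𝒴'.p (baseOver π ξ β ≫ eqToHom (g.w_obj η')) ψ
  have e2 : 𝒴'.p.map ψ = eqToHom e1 ≫ baseOver π ξ β ≫ eqToHom (g.w_obj η') := by
    have := IsHomLift.fac' 𝒴'.p (baseOver π ξ β ≫ eqToHom (g.w_obj η')) ψ
    rw [this]; simp
  have hb : baseOver π ξ β = eqToHom (π.w_obj ξ).symm ≫ 𝒴.p.map β := rfl
  have e3 : 𝒴.p.map (g.map ψ) = eqToHom ((g.w_obj y₁).trans (e1.trans (π.w_obj ξ).symm)) ≫ 𝒴.p.map β := by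
    have h1 : 𝒴.p.map (g.map ψ) = eqToHom (g.w_obj y₁) ≫ 𝒴'.p.map ψ ≫ eqToHom (g.w_obj η').symm :=
      IsHomLift.fac' 𝒴.p (𝒴'.p.map ψ) (g.map ψ)
    rw [h1, e2, hb]
    simp
  obtain ⟨ι, ⟨hι1, hι2⟩, -⟩ := Grpd.existsUnique_hom h𝒴 β (g.map ψ)
    (eqToHom ((g.w_obj y₁).trans (e1.trans (π.w_obj ξ).symm))) e3.symm
  have i1 : IsIso (𝒴.p.map ι) := by rw [hι1]; infer_instance
  have i2 : IsIso ι := Grpd.isIso_of_isIso_map h𝒴 ι
  have hv : Vert 𝒴.p (asIso ι).hom := vert_iff.2 ⟨_, hι1⟩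
  refine ⟨y₁, asIso ι, hv, ψ, ?_⟩
  change inv ι ≫ g.map ψ = β
  rw [IsIso.inv_comp_eq, hι2]

include h𝒴 h𝒴' in
/-- Arrows between pairs come from the fibre product. -/
theorem exists_hom_arrF {η' : 𝒴'.obj} {x' x : (FibCat.fp g π).obj} (α' : x'.obj.fst ⟶ η') (α : x.obj.fst ⟶ η')
    (φ : x'.obj.snd ⟶ x.obj.snd) (h : π.map φ ≫ arrF π g x α = arrF π g x' α') :
    ∃ χ : x' ⟶ x, χ.hom.snd = φ ∧ χ.hom.fst ≫ α = α' := by
  have hx := fp_vert x
  have hx' := fp_vert x'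
  -- the base of `φ`
  let b : 𝒴'.p.obj x'.obj.fst ⟶ 𝒴'.p.obj x.obj.fst := eqToHom (fp_snd_eq x').symm ≫ 𝒳.p.map φ ≫ eqToHom (fp_snd_eq x)
  have hg : ∀ {y y' : 𝒴'.obj} (ψ : y ⟶ y'), 𝒴.p.map (g.map ψ) = eqToHom (g.w_obj y) ≫ 𝒴'.p.map ψ ≫ eqToHom (g.w_obj y').symm :=
    fun ψ => IsHomLift.fac' 𝒴.p (𝒴'.p.map ψ) (g.map ψ)
  have hπ : 𝒴.p.map (π.map φ) = eqToHom (π.w_obj _) ≫ 𝒳.p.map φ ≫ eqToHom (π.w_obj _).symm :=
    IsHomLift.fac' 𝒴.p (𝒳.p.map φ) (π.map φ)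
  have hiso : ∀ (z : (FibCat.fp g π).obj), 𝒴.p.map z.obj.iso.inv = eqToHom ((fp_vert z).iso_inv.eq).symm := fun z =>
    (fp_vert z).iso_inv.map_eq
  have hb : b ≫ 𝒴'.p.map α = 𝒴'.p.map α' := by
    have h1 := congrArg 𝒴.p.map h
    rw [arrF, arrF, Functor.map_comp, Functor.map_comp, Functor.map_comp, hπ, hiso, hiso, hg, hg] at h1
    have h2 : eqToHom ((g.w_obj x'.obj.fst).symm.trans (fp_vert x').eq.symm) ≫ _ =
      eqToHom ((g.w_obj x'.obj.fst).symm.trans (fp_vert x').eq.symm) ≫ _ := congrArg _ h1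
    simp only [eqToHom_trans_assoc, eqToHom_refl, Category.id_comp, Category.assoc] at h2
    have h3 := congrArg (fun t => t ≫ eqToHom (g.w_obj η')) h2
    simp only [eqToHom_trans, eqToHom_refl, Category.comp_id, Category.assoc] at h3
    change (eqToHom _ ≫ 𝒳.p.map φ ≫ eqToHom _) ≫ 𝒴'.p.map α = 𝒴'.p.map α'
    rw [Category.assoc, Category.assoc]
    exact h3
  obtain ⟨χ, ⟨hχ1, hχ2⟩, -⟩ := Grpd.existsUnique_hom h𝒴' α α' b hb
  have hw : g.map χ ≫ x.obj.iso.hom = x'.obj.iso.hom ≫ π.map φ := by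
    refine Grpd.hom_ext h𝒴 (arrF π g x α) ?_ ?_
    · rw [Functor.map_comp, Functor.map_comp, hg, hχ1, hx.map_eq, hx'.map_eq, hπ]
      simp [b]
    · rw [Category.assoc, Category.assoc, h, arrF, arrF, Iso.hom_inv_id_assoc, Iso.hom_inv_id_assoc,
        ← Functor.map_comp, hχ2]
  exact ⟨homFp χ φ hw, rfl, hχ2⟩

include h𝒴 h𝒴' in
theorem fpSect_bijective (F : Mod 𝒳) (η' : 𝒴'.obj) : Function.Bijective (fpSect π g F η') := by
  constructor
  · intro s t hst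
    apply Mod.RelSect.ext
    intro ξ β
    obtain ⟨y, ι, hι, α, hα⟩ := exists_arrF π g h𝒴 h𝒴' ξ β
    have h1 := congrArg (fun r => r.1 (mkFp g π y ξ ι hι) α) hst
    have h2 := (gamF (FibCat.fpSnd g π) F (mkFp g π y ξ ι hι)).injective h1
    rw [hα] at h2
    exact h2
  · intro s'
    choose y ι hι α hα using fun (ξ : 𝒳.obj) (β : π.obj ξ ⟶ g.obj η') => exists_arrF π g h𝒴 h𝒴' ξ β
    let X : ∀ (ξ : 𝒳.obj) (β : π.obj ξ ⟶ g.obj η'), (FibCat.fp g π).obj := fun ξ β =>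
      mkFp g π (y ξ β) ξ (ι ξ β) (hι ξ β)
    have key : ∀ (ξ : 𝒳.obj) (β : π.obj ξ ⟶ g.obj η') (x' : (FibCat.fp g π).obj) (α' : x'.obj.fst ⟶ η')
        (φ : x'.obj.snd ⟶ ξ), π.map φ ≫ β = arrF π g x' α' →
        gamF (FibCat.fpSnd g π) F x' (F.mapTop φ ((gamF (FibCat.fpSnd g π) F (X ξ β)).symm (s'.1 (X ξ β) (α ξ β)))) =
          s'.1 x' α' := by
      intro ξ β x' α' φ h
      obtain ⟨χ, hχ1, hχ2⟩ := exists_hom_arrF π g h𝒴 h𝒴' (x' := x') (x := X ξ β) α' (α ξ β) φ (by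
        refine Eq.trans ?_ h
        exact congrArg (fun t => π.map φ ≫ t) (hα ξ β))
      have h1 := gamF_mapTop (FibCat.fpSnd g π) F χ ((gamF (FibCat.fpSnd g π) F (X ξ β)).symm (s'.1 (X ξ β) (α ξ β)))
      rw [AddEquiv.apply_symm_apply, s'.2] at h1
      have h2 : (FibCat.fpSnd g π).map χ = φ := hχ1
      rw [h2] at h1
      refine h1.symm.trans ?_
      exact congrArg (s'.1 x') hχ2
    refine ⟨⟨fun ξ β => (gamF (FibCat.fpSnd g π) F (X ξ β)).symm (s'.1 (X ξ β) (α ξ β)), ?_⟩, ?_⟩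
    · intro ξ' ξ φ β
      apply (gamF (FibCat.fpSnd g π) F (X ξ' (π.map φ ≫ β))).injective
      rw [AddEquiv.apply_symm_apply]
      exact key ξ β (X ξ' (π.map φ ≫ β)) (α ξ' (π.map φ ≫ β)) φ (hα ξ' (π.map φ ≫ β)).symm
    · apply Mod.RelSect.ext
      intro x' α'
      have h1 := key x'.obj.snd (arrF π g x' α') x' α' (𝟙 _) (by
        rw [CategoryTheory.Functor.map_id, Category.id_comp])
      refine Eq.trans ?_ h1
      exact (congrArg (gamF (FibCat.fpSnd g π) F x') (F.mapTop_id _ _)).symm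

/-- The morphisms of schemes under the arrows to `η'` and to `g η'`. -/
theorem baseOver_arrF {η' : 𝒴'.obj} (x : (FibCat.fp g π).obj) (α : x.obj.fst ⟶ η') :
    (baseOver π x.obj.snd (arrF π g x α)).left ≫ eqToHom (sch_obj_eq g η') =
      eqToHom (sch_obj_eq (FibCat.fpSnd g π) x) ≫ (baseOver (FibCat.fpFst g π) x α).left := by
  have hg : 𝒴.p.map (g.map α) = eqToHom (g.w_obj _) ≫ 𝒴'.p.map α ≫ eqToHom (g.w_obj _).symm :=
    IsHomLift.fac' 𝒴.p (𝒴'.p.map α) (g.map α)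
  have h1 : baseOver π x.obj.snd (arrF π g x α) ≫ eqToHom (g.w_obj η') =
      eqToHom (fp_snd_eq x) ≫ baseOver (FibCat.fpFst g π) x α := by
    have h2 : baseOver π x.obj.snd (arrF π g x α) = eqToHom (π.w_obj _).symm ≫ 𝒴.p.map (arrF π g x α) := rfl
    have h3 : baseOver (FibCat.fpFst g π) x α = 𝒴'.p.map α := by
      change eqToHom rfl ≫ 𝒴'.p.map α = _
      rw [eqToHom_refl, Category.id_comp]
    rw [h2, h3, arrF, Functor.map_comp, (fp_vert x).iso_inv.map_eq, hg]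
    simp
  have h4 := congrArg (fun t => t.left) h1
  simp only [Over.comp_left, Over.eqToHom_left] at h4
  exact h4

/-- Semilinearity of the comparison. -/
theorem fpSect_smul (F : Mod 𝒳) (η' : 𝒴'.obj) (r' : Γ(sch 𝒴' η', ⊤)) (s : Mod.RelSect π F (g.obj η')) :
    fpSect π g F η' (((eqToHom (sch_obj_eq g η')).appTop r' : Γ(sch 𝒴 (g.obj η'), ⊤)) • s) =
      r' • fpSect π g F η' s := by
  apply Mod.RelSect.ext
  intro x α
  have h1 := baseOver_arrF π g x α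
  have h2 : (baseOver π x.obj.snd (arrF π g x α)).left.appTop ((eqToHom (sch_obj_eq g η')).appTop r') =
      (eqToHom (sch_obj_eq (FibCat.fpSnd g π) x)).appTop ((baseOver (FibCat.fpFst g π) x α).left.appTop r') := by
    have h3 := congrArg (fun t => t.appTop r') h1
    simp only [Scheme.Hom.comp_appTop] at h3
    exact h3
  have h4 := gamF_smul (FibCat.fpSnd g π) F x ((baseOver (FibCat.fpFst g π) x α).left.appTop r')
    (s.1 x.obj.snd (arrF π g x α))
  refine Eq.trans ?_ h4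
  exact congrArg (fun t : Γ(sch 𝒳 x.obj.snd, ⊤) => gamF (FibCat.fpSnd g π) F x (show Γ(F.obj x.obj.snd, ⊤) from
    t • s.1 x.obj.snd (arrF π g x α))) h2

include h𝒴 h𝒴' in
/-- Surjectivity on sections of pushforwards is the same upstairs and downstairs. -/
theorem surjective_relSectMap_iff {F G : Mod 𝒳} (u : F ⟶ G) (η' : 𝒴'.obj) :
    Function.Surjective (Mod.relSectMap π u (g.obj η')) ↔
      Function.Surjective (Mod.relSectMap (FibCat.fpFst g π) (Mod.comapMap (FibCat.fpSnd g π) u) η') := by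
  constructor
  · intro h t
    obtain ⟨t, rfl⟩ := (fpSect_bijective π g h𝒴 h𝒴' G η').2 t
    obtain ⟨s, rfl⟩ := h t
    exact ⟨fpSect π g F η' s, fpSect_relSectMap π g u η' s⟩
  · intro h t
    obtain ⟨s, hs⟩ := h (fpSect π g G η' t)
    obtain ⟨s, rfl⟩ := (fpSect_bijective π g h𝒴 h𝒴' F η').2 s
    refine ⟨s, (fpSect_bijective π g h𝒴 h𝒴' G η').1 ?_⟩
    rw [← fpSect_relSectMap, hs]

section Unit

/-- Functions read along an equality of schemes. -/
theorem gam_structureModule {X T : Scheme.{u}} (h : X = T) (y : Γ(X, ⊤)) :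
    (eqToIso (castMod_structureModule h)).hom.app ⊤ (gam h (Coh.structureModule X) y) =
      (eqToHom h.symm : T ⟶ X).appTop y := by
  subst h
  change y = (𝟙 X : X ⟶ X).appTop y
  rw [Scheme.Hom.id_appTop]
  rfl

/-- Restriction of sections of `π_* O` to the fibre product. -/
noncomputable def fpO (η' : 𝒴'.obj) :
    Mod.RelSect π (O 𝒳) (g.obj η') →+ Mod.RelSect (FibCat.fpFst g π) (O (FibCat.fp g π)) η' :=
  (Mod.relSectMap (FibCat.fpFst g π) (comapOIso (FibCat.fpSnd g π)).hom η').toAddMonoidHom.comp (fpSect π g (O 𝒳) η')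

theorem fpO_val (η' : 𝒴'.obj) (s : Mod.RelSect π (O 𝒳) (g.obj η')) (x : (FibCat.fp g π).obj)
    (α : x.obj.fst ⟶ η') :
    (fpO π g η' s).1 x α = (eqToHom (sch_obj_eq (FibCat.fpSnd g π) x).symm).appTop (s.1 x.obj.snd (arrF π g x α)) :=
  gam_structureModule (sch_obj_eq (FibCat.fpSnd g π) x) _

include h𝒴 h𝒴' in
theorem fpO_bijective (η' : 𝒴'.obj) : Function.Bijective (fpO π g η') := by
  refine Function.Bijective.comp (g := (Mod.relSectMap (FibCat.fpFst g π) (comapOIso (FibCat.fpSnd g π)).hom η'))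
    ?_ (fpSect_bijective π g h𝒴 h𝒴' (O 𝒳) η')
  have e1 : ∀ s, Mod.relSectMap (FibCat.fpFst g π) (comapOIso (FibCat.fpSnd g π)).inv η'
      (Mod.relSectMap (FibCat.fpFst g π) (comapOIso (FibCat.fpSnd g π)).hom η' s) = s := by
    intro s
    apply Mod.RelSect.ext
    intro x α
    have h := congrArg (fun t => (t.app x).app ⊤ (s.1 x α)) (comapOIso (FibCat.fpSnd g π)).hom_inv_id
    exact h
  have e2 : ∀ s, Mod.relSectMap (FibCat.fpFst g π) (comapOIso (FibCat.fpSnd g π)).hom η'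
      (Mod.relSectMap (FibCat.fpFst g π) (comapOIso (FibCat.fpSnd g π)).inv η' s) = s := by
    intro s
    apply Mod.RelSect.ext
    intro x α
    have h := congrArg (fun t => (t.app x).app ⊤ (s.1 x α)) (comapOIso (FibCat.fpSnd g π)).inv_hom_id
    exact h
  exact Function.bijective_iff_has_inverse.2 ⟨_, e1, e2⟩

theorem fpO_unitSect (η' : 𝒴'.obj) (r' : Γ(sch 𝒴' η', ⊤)) :
    fpO π g η' (unitSect π (g.obj η') ((eqToHom (sch_obj_eq g η')).appTop r')) =
      unitSect (FibCat.fpFst g π) η' r' := by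
  apply Mod.RelSect.ext
  intro x α
  rw [fpO_val, unitSect_val, unitSect_val]
  have h1 := baseOver_arrF π g x α
  have h3 := congrArg (fun t => (eqToHom (sch_obj_eq (FibCat.fpSnd g π) x).symm ≫ t).appTop r') h1
  simp only [eqToHom_trans_assoc, eqToHom_refl, Category.id_comp] at h3
  simp only [Scheme.Hom.comp_appTop] at h3
  exact h3

include h𝒴 h𝒴' in
theorem unitSect_bijective_iff (η' : 𝒴'.obj) :
    Function.Bijective (unitSect π (g.obj η')) ↔ Function.Bijective (unitSect (FibCat.fpFst g π) η') := by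
  have hb := fpO_bijective π g h𝒴 h𝒴' η'
  have hc : Function.Bijective ((eqToHom (sch_obj_eq g η')).appTop.hom) :=
    ConcreteCategory.bijective_of_isIso (eqToHom (sch_obj_eq g η')).appTop
  have e : (fpO π g η') ∘ (unitSect π (g.obj η')) ∘ ((eqToHom (sch_obj_eq g η')).appTop.hom) =
      unitSect (FibCat.fpFst g π) η' := funext fun r' => fpO_unitSect π g η' r'
  rw [← e, hb.of_comp_iff', ← Function.Bijective.of_comp_iff _ hc]

end Unit

end Fp

end K906.Comap
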