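import Groth.Prelude.Def_StMod2
import Groth.Prelude.Def_AlgSp4
import Groth.Agent.AlgSp.K609.Points

/-!
# Objects étale over an algebraic space, and flat surjective morphisms

* `toMap η : h_{η.base} ⟶ M` for `η : (ofSp M).obj`, `IsEt η`, `exists_etaOf`, `toMap_comp`, `homMk`;
* `exists_flat_hit`: for `g : M' ⟶ M` flat and surjective on points, `η` étale over `M` and `x` a point of its scheme, there is
  an affine `η'` étale over `M'` with a flat arrow `g η' ⟶ η` hitting `x`;
* `exists_affine_nhd`: the same for `g = 𝟙`: affine open neighbourhoods; `isEt_of_hom` (an étale arrow to an étale object).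
-/

set_option autoImplicit false
set_option linter.unusedVariables false
set_option linter.style.haveILetI false
set_option backward.isDefEq.respectTransparency false
set_option backward.isDefEq.respectTransparency.types false

universe u

open CategoryTheory CategoryTheory.Limits AlgebraicGeometry Opposite AlgSp StMod

namespace K906.SpGeo

variable {S : Scheme.{u}} {M M' : Sp S}

/-- The map `h_{η.base} ⟶ M` of an object of the category of `M`. -/
noncomputable def toMap (η : (AlgSt.ofSp M).obj) : (yon S).obj η.base ⟶ M := (J S).uliftYonedaEquiv.symm η.sec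

/-- `η` is étale over `M`. -/
def IsEt (η : (AlgSt.ofSp M).obj) : Prop := RepWith @Etale (toMap η)

theorem toMap_mk {U : Over S} (a : (yon S).obj U ⟶ M) :
    toMap (⟨U, (J S).uliftYonedaEquiv a⟩ : (AlgSt.ofSp M).obj) = a :=
  (J S).uliftYonedaEquiv.symm_apply_apply a

theorem toMap_etaOf (E : EtOver M) : toMap (etaOf E) = E.obj.hom := toMap_mk _

theorem isEt_etaOf (E : EtOver M) : IsEt (etaOf E) := by
  unfold IsEt
  rw [toMap_etaOf]
  exact E.property

theorem exists_etaOf {η : (AlgSt.ofSp M).obj} (h : IsEt η) : ∃ E : EtOver M, etaOf E = η := by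
  refine ⟨EtOver.mk (toMap η) h, ?_⟩
  have h1 : (GrothendieckTopology.uliftYonedaEquiv.{u + 1} (J S)) (toMap η) = η.sec :=
    (GrothendieckTopology.uliftYonedaEquiv.{u + 1} (J S)).apply_symm_apply η.sec
  exact congrArg (Stk.EltObj.mk η.base) h1

theorem toMap_comp {η' η : (AlgSt.ofSp M).obj} (k : η' ⟶ η) : (yon S).map k.hom ≫ toMap η = toMap η' := by
  unfold toMap
  rw [(J S).uliftYonedaEquiv_symm_naturality_left, k.map_sec]

/-- Construction of arrows. -/
noncomputable def homMk {η' η : (AlgSt.ofSp M).obj} (k : η'.base ⟶ η.base) (h : (yon S).map k ≫ toMap η = toMap η') :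
    η' ⟶ η := ⟨k, by
  unfold toMap at h
  rw [(J S).uliftYonedaEquiv_symm_naturality_left] at h
  exact (J S).uliftYonedaEquiv.symm.injective h⟩

@[simp] theorem homMk_hom {η' η : (AlgSt.ofSp M).obj} (k : η'.base ⟶ η.base)
    (h : (yon S).map k ≫ toMap η = toMap η') : (homMk k h).hom = k := rfl

theorem toMap_ofSpMap (g : M' ⟶ M) (η' : (AlgSt.ofSp M').obj) :
    toMap ((AlgSt.ofSpMap g).obj η') = toMap η' ≫ g := by
  unfold toMap
  rw [(J S).uliftYonedaEquiv_symm_naturality_right]
  rfl

/-- An object with an étale arrow to an object étale over `M` is étale over `M`. -/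
theorem isEt_of_hom {η' η : (AlgSt.ofSp M).obj} (h : IsEt η) (k : η' ⟶ η) (hk : Etale k.hom.left) : IsEt η' := by
  unfold IsEt
  rw [← toMap_comp k]
  exact (RepWith @Etale).comp_mem _ _ ((repWith_yon_map_iff @Etale k.hom).2 hk) h

/-- Étale objects over `M'` and flat arrows hitting a point. -/
theorem exists_flat_hit (hM' : IsAlgSpace M') (g : M' ⟶ M) {P : MorphismProperty Scheme.{u}} (hgf : LocP P g)
    (hgs : IsSurjectiveMor g) {η : (AlgSt.ofSp M).obj} (hη : IsEt η) (x : ↥η.base.left) :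
    ∃ (η' : (AlgSt.ofSp M').obj) (k : (AlgSt.ofSpMap g).obj η' ⟶ η), IsEt η' ∧ IsAffine η'.base.left ∧
      P k.hom.left ∧ x ∈ Set.range k.hom.left := by
  obtain ⟨U, p, hp1, hp2⟩ := hM'.atlas
  obtain ⟨y', hy'⟩ := hgs (Points.ofPt (toMap η) x)
  obtain ⟨w, rfl⟩ := K609.Points.surjective_ofPt_of_repWith_surjective hp2 y'
  rw [Points.map_ofPt] at hy'
  obtain ⟨V, snd, fst, sq⟩ := hη.1 (p ≫ g)
  obtain ⟨fst', rfl⟩ := (yon S).map_surjective fst
  obtain ⟨v, hv1, hv2⟩ := (K609.Points.ofPt_eq_ofPt_iff sq x w).1 hy'.symm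
  have hsnd : Etale snd.left := hη.2 (p ≫ g) _ snd sq
  -- affine neighbourhood of `v`
  obtain ⟨_, ⟨V₀, hV₀, rfl⟩, hvV, -⟩ := V.left.isBasis_affineOpens.exists_subset_of_mem_open
    (Set.mem_univ v) isOpen_univ
  let V₁ : V.left.Opens := V₀
  let W : Over S := Over.mk (V₁.ι ≫ V.hom)
  let j : W ⟶ V := Over.homMk V₁.ι rfl
  have hj : Etale j.left := by
    change Etale V₁.ι
    infer_instance
  have hp' : RepWith @Etale ((yon S).map (j ≫ snd) ≫ p) := by
    refine (RepWith @Etale).comp_mem _ _ ((repWith_yon_map_iff @Etale _).2 ?_) hp1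
    rw [Over.comp_left]
    infer_instance
  let η' : (AlgSt.ofSp M').obj := ⟨W, (J S).uliftYonedaEquiv ((yon S).map (j ≫ snd) ≫ p)⟩
  have hη' : toMap η' = (yon S).map (j ≫ snd) ≫ p := toMap_mk _
  have hcomm : (yon S).map (j ≫ fst') ≫ toMap η = ((yon S).map (j ≫ snd) ≫ p) ≫ g := by
    rw [Functor.map_comp, Functor.map_comp, Category.assoc, sq.w, Category.assoc, Category.assoc]
  refine ⟨η', homMk (j ≫ fst') ?_, ?_, ?_, ?_, ?_⟩
  · rw [toMap_ofSpMap, hη']
    exact hcomm
  · unfold IsEt
    rw [hη']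
    exact hp'
  · exact hV₀
  · rw [homMk_hom]
    exact hgf _ _ _ hp' hη hcomm.symm
  · rw [homMk_hom]
    refine ⟨(⟨v, hvV⟩ : V₁), ?_⟩
    rw [Over.comp_left, Scheme.Hom.comp_apply]
    exact hv1

end K906.SpGeo
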