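import Groth.Agent.StMod.K906.FlatLoc

/-!
# Bijectivity of `Γ(η) → Γ(π_* O, η)` is Zariski local on `η`

`bijective_unitSect_of_charts`: if `unitSect π η'` is bijective for every open immersion `η' ⟶ η` from an affine object then
`unitSect π η` is bijective (`𝒳`, `𝒴` fibred in groupoids, no hypothesis on `π`).
-/

set_option autoImplicit false
set_option linter.unusedVariables false
set_option linter.style.haveILetI false
set_option backward.isDefEq.respectTransparency false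
set_option backward.isDefEq.respectTransparency.types false

universe t w' v' w v u

open CategoryTheory CategoryTheory.Limits AlgebraicGeometry Opposite TopologicalSpace StMod

namespace K906.UnitLoc

open K908.AMod K908.Fam K908.Ext K908.QSec K908.Push

variable {S : Scheme.{u}} {𝒳 : BasedCategory.{v, w} (Over S)} {𝒴 : BasedCategory.{v', w'} (Over S)}
  {π : 𝒳 ⥤ᵇ 𝒴} {η : 𝒴.obj}

theorem relRes_unitSect' {η' : 𝒴.obj} (g : η' ⟶ η) (r : Γ(sch 𝒴 η, ⊤)) :
    relRes π (O 𝒳) g (unitSect π η r) = unitSect π η' ((O 𝒴).mapTop g r) :=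
  FlatLoc.relRes_unitSect g r

theorem bijective_unitSect_of_charts (h𝒳 : FibCat.IsFibGrpd 𝒳.p) (h𝒴 : FibCat.IsFibGrpd 𝒴.p)
    (h : ∀ (η' : 𝒴.obj) (g : η' ⟶ η), IsAffine (sch 𝒴 η') → IsOpenImmersion (bmap 𝒴 g) →
      Function.Bijective (unitSect π η')) : Function.Bijective (unitSect π η) := by
  haveI := h𝒳
  haveI := h𝒴
  let C := ASieve.all 𝒴
  have hZ : ∀ ξ : 𝒴.obj, ZLoc C ξ := zloc_all
  constructor
  · intro r r' hr
    refine K908.QSec.sec_ext (C := C) (OQ 𝒴) (hZ η) (U := ⊤) r r' fun c => ?_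
    have e : ∀ x, secX (O 𝒴) c.1.2 ⊤ c.2.2 x = (O 𝒴).mapTop c.1.2 x := fun x => secX_top (O 𝒴) c.1.2 x
    refine (e r).trans (Eq.trans ?_ (e r').symm)
    apply (h c.1.1.obj c.1.2 (C.aff c.1.1.property) c.2.1).1
    rw [← relRes_unitSect', ← relRes_unitSect', hr]
  · intro s
    choose r hr using fun (ζ : C.cat.obj) (φ : ζ.obj ⟶ η) (hφ : IsOpenImmersion (bmap 𝒴 φ)) =>
      (h ζ.obj φ (C.aff ζ.property) hφ).2 (relRes π (O 𝒳) φ s)
    choose t ht using fun c : Chart C η ⊤ => (c.secX_bijective (OQ 𝒴)).2 (r c.1.1 c.1.2 c.2.1)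
    -- restriction of the chosen sections along open immersions
    have key : ∀ (c : Chart C η ⊤) (ζ : C.cat.obj) (φ : ζ.obj ⟶ η) (hφ : IsOpenImmersion (bmap 𝒴 φ))
        (hc : InOp φ c.rg), secX (O 𝒴) φ c.rg hc (t c) = r ζ φ hφ := by
      intro c ζ φ hφ hc
      haveI := c.2.1
      obtain ⟨χ, hχ⟩ := exists_lift_of_inOp c.1.2 (U := c.rg) rfl φ hc
      have h1 : secX (O 𝒴) φ c.rg hc (t c) = (O 𝒴).mapTop χ (r c.1.1 c.1.2 c.2.1) := by
        rw [← ht c]
        refine Eq.symm ((secX_comp (O 𝒴) χ c.1.2 c.rg c.inOp_rg (t c)).trans ?_)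
        exact secX_congr (O 𝒴) hχ _ _ _ _
      rw [h1]
      apply (h ζ.obj φ (C.aff ζ.property) hφ).1
      rw [← relRes_unitSect', hr, hr, ← relRes_comp]
      exact congrArg (fun k => relRes π (O 𝒳) k s) hχ
    obtain ⟨x, hx⟩ := K908.BC.sec_glue ((O 𝒴).obj η) (fun c : Chart C η ⊤ => c.rg) ⊤ (fun c => c.rg_le)
      (le_iSup_rg (hZ η) ⊤) t (by
        intro c d
        refine K908.QSec.sec_ext (C := C) (OQ 𝒴) (hZ η) _ _ fun e => ?_
        refine (secX_res (O 𝒴) e.1.2 inf_le_left e.2.2 (t c)).trans (Eq.trans ?_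
          (secX_res (O 𝒴) e.1.2 inf_le_right e.2.2 (t d)).symm)
        rw [key c _ _ e.2.1, key d _ _ e.2.1])
    -- the value of `x` on charts
    have hxc : ∀ c : Chart C η ⊤, (O 𝒴).mapTop c.1.2 x = r c.1.1 c.1.2 c.2.1 := by
      intro c
      rw [← key c c.1.1 c.1.2 c.2.1 c.inOp_rg, ← hx c]
      refine (secX_top (O 𝒴) c.1.2 x).symm.trans ?_
      exact (secX_res (O 𝒴) c.1.2 c.rg_le c.inOp_rg x).symm
    refine ⟨x, ?_⟩
    apply Mod.RelSect.ext
    intro ξ α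
    -- the image of `ξ` in `η`
    let b : sch 𝒳 ξ ⟶ sch 𝒴 η := (baseOver π ξ α).left
    refine K908.BC.sec_ext ((O 𝒳).obj ξ) (fun c : Chart C η ⊤ => b ⁻¹ᵁ c.rg) ⊤ (fun _ => le_top) ?_ _ _ fun c => ?_
    · intro y _
      have h1 := le_iSup_rg (C := C) (hZ η) ⊤ (show b y ∈ (⊤ : (sch 𝒴 η).Opens) from trivial)
      obtain ⟨c, hc⟩ := Opens.mem_iSup.1 h1
      exact Opens.mem_iSup.2 ⟨c, hc⟩
    · refine K908.QSec.sec_ext (C := ASieve.all 𝒳) (OQ 𝒳) (zloc_all ξ) _ _ fun e => ?_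
      haveI := c.2.1
      refine (secX_res (O 𝒳) e.1.2 le_top e.2.2 _).trans (Eq.trans ?_ (secX_res (O 𝒳) e.1.2 le_top e.2.2 _).symm)
      refine (secX_top (O 𝒳) e.1.2 _).trans (Eq.trans ?_ (secX_top (O 𝒳) e.1.2 _).symm)
      rw [(unitSect π η x).2, s.2]
      -- the arrow `π ζ ⟶ η` factors through the chart `c`
      have hin : InOp (π.map e.1.2 ≫ α) c.rg := by
        intro y _
        change bmap 𝒴 (π.map e.1.2 ≫ α) y ∈ c.rg
        have h2 : 𝒴.p.map (π.map e.1.2 ≫ α) = eqToHom (π.w_obj e.1.1.obj) ≫ 𝒳.p.map e.1.2 ≫ baseOver π ξ α := by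
          rw [map_comp_baseOver, baseOver, eqToHom_trans_assoc, eqToHom_refl, Category.id_comp]
        have h3 : bmap 𝒴 (π.map e.1.2 ≫ α) = (eqToHom (π.w_obj e.1.1.obj)).left ≫ bmap 𝒳 e.1.2 ≫ b :=
          congrArg (fun k => k.left) h2
        rw [h3]
        exact e.2.2.mem ((eqToHom (π.w_obj e.1.1.obj)).left y)
      obtain ⟨β, hβ⟩ := exists_lift_of_inOp c.1.2 (U := c.rg) rfl _ hin
      have h3 : ∀ s' : Mod.RelSect π (O 𝒳) η, s'.1 e.1.1.obj (π.map e.1.2 ≫ α) =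
          (relRes π (O 𝒳) c.1.2 s').1 e.1.1.obj β := by
        intro s'
        rw [relRes_val, hβ]
      rw [h3, h3, relRes_unitSect', hxc, hr]

end K906.UnitLoc
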