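import Groth.Agent.StMod.K906.SpGeo
import Groth.Agent.StMod.K906.UnitLoc
import Groth.Agent.StMod.K906.Comap

/-!
# Descent of cohomological affineness and of good moduli spaces along flat surjective morphisms

For `π : 𝒳 ⥤ᵇ ofSp M` with affine presentations over affine étale objects and `g : M' ⟶ M` flat (on étale charts) and surjective
on points with `M'` an algebraic space:

* `isCohAffine_of_flat` : `IsCohAffine (fpFst (ofSpMap g) π) → IsCohAffine π`;
* `unitIsIso_of_flat`, `isGoodModuli_of_flat`.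
-/

set_option autoImplicit false
set_option linter.unusedVariables false
set_option linter.style.haveILetI false
set_option backward.isDefEq.respectTransparency false
set_option backward.isDefEq.respectTransparency.types false

universe w v u

open CategoryTheory CategoryTheory.Limits AlgebraicGeometry Opposite AlgSp StMod

namespace K906.FlatDesc

open K906.SpGeo

variable {S : Scheme.{u}} {𝒳 : BasedCategory.{v, w} (Over S)} (h𝒳 : FibCat.IsFibGrpd 𝒳.p) {M M' : Sp S}
  (hM' : IsAlgSpace M') (g : M' ⟶ M) (hgf : LocP @Flat g) (hgs : IsSurjectiveMor g) (π : 𝒳 ⥤ᵇ AlgSt.ofSp M)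
  (hP : ∀ η : (AlgSt.ofSp M).obj, IsAffine (sch (AlgSt.ofSp M) η) → Nonempty (Pres (fibCat π η)))

theorem isFibGrpd_ofSp (F : Sp S) : FibCat.IsFibGrpd (AlgSt.ofSp F).p := Stk.isFibGrpd_ofPsh F.obj

include h𝒳 hM' hgf hgs hP in
/-- Cohomological affineness descends along flat surjective morphisms. -/
theorem isCohAffine_of_flat (h' : IsCohAffine (FibCat.fpFst (AlgSt.ofSpMap g) π)) : IsCohAffine π := by
  intro F G u hu E hE
  have hE' : IsAffine (sch (AlgSt.ofSp M) (etaOf E)) := hE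
  obtain ⟨P⟩ := hP (etaOf E) hE'
  refine FlatLoc.surjective_relSectMap_of_flat_local h𝒳 (isFibGrpd_ofSp M) hE' P u.hom fun x => ?_
  obtain ⟨η', k, h1, h2, h3, h4⟩ := exists_flat_hit hM' g hgf hgs (isEt_etaOf E) x
  obtain ⟨E', rfl⟩ := exists_etaOf h1
  refine ⟨(AlgSt.ofSpMap g).obj (etaOf E'), k, ⟨h2, h3, h4⟩, ?_⟩
  rw [Comap.surjective_relSectMap_iff π (AlgSt.ofSpMap g) (isFibGrpd_ofSp M) (isFibGrpd_ofSp M')]
  exact h' ((comapQ (FibCat.fpSnd (AlgSt.ofSpMap g) π)).map u)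
    (Comap.isSurj_comapMap (FibCat.fpSnd (AlgSt.ofSpMap g) π) u.hom hu) E' h2

include h𝒳 hM' hgf hgs hP in
/-- Bijectivity of `O_M → π_* O` descends along flat surjective morphisms. -/
theorem unitIsIso_of_flat (h' : UnitIsIso (FibCat.fpFst (AlgSt.ofSpMap g) π)) : UnitIsIso π := by
  intro E
  refine UnitLoc.bijective_unitSect_of_charts h𝒳 (isFibGrpd_ofSp M) fun η₁ j hη₁ hj => ?_
  have hj' : IsOpenImmersion j.hom.left := hj
  have h0 : IsEt η₁ := isEt_of_hom (isEt_etaOf E) j inferInstance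
  obtain ⟨P⟩ := hP η₁ hη₁
  refine FlatLoc.bijective_unitSect_of_flat_local h𝒳 (isFibGrpd_ofSp M) hη₁ P fun x => ?_
  obtain ⟨η', k, h1, h2, h3, h4⟩ := exists_flat_hit hM' g hgf hgs h0 x
  obtain ⟨E', rfl⟩ := exists_etaOf h1
  refine ⟨(AlgSt.ofSpMap g).obj (etaOf E'), k, ⟨h2, h3, h4⟩, ?_⟩
  rw [Comap.unitSect_bijective_iff π (AlgSt.ofSpMap g) (isFibGrpd_ofSp M) (isFibGrpd_ofSp M')]
  exact h' E'

include h𝒳 hM' hgf hgs hP in
/-- Good moduli spaces descend along flat surjective morphisms. -/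
theorem isGoodModuli_of_flat (h' : IsGoodModuli (FibCat.fpFst (AlgSt.ofSpMap g) π)) : IsGoodModuli π :=
  ⟨isCohAffine_of_flat h𝒳 hM' g hgf hgs π hP h'.1, unitIsIso_of_flat h𝒳 hM' g hgf hgs π hP h'.2⟩

end K906.FlatDesc
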