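import Groth.Agent.StMod.K906.AffFp
import Groth.Agent.StMod.K906.FlatDesc

/-!
# Base change of cohomologically affine morphisms

* `exists_et_factor` : étale locally, a morphism from a scheme to an algebraic space factors through an affine étale scheme;
* `isCohAffine_fpFst` : if `π : 𝒳 ⟶ M` is cohomologically affine then so is its base change along any `g : M' ⟶ M`.
-/

set_option autoImplicit false
set_option linter.unusedVariables false
set_option backward.isDefEq.respectTransparency false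
set_option backward.isDefEq.respectTransparency.types false

universe w v u

open CategoryTheory CategoryTheory.Limits AlgebraicGeometry Opposite AlgSp StMod

namespace K906.BaseCh

open K906.SpGeo

variable {S : Scheme.{u}} {M M' : Sp S}

/-- Étale locally a morphism to an algebraic space factors through an affine étale scheme. -/
theorem exists_et_factor (hM : IsAlgSpace M) {T : Over S} (a : (yon S).obj T ⟶ M) (x : ↥T.left) :
    ∃ (V : Over S) (j : V ⟶ T) (E : EtOver M) (k : V ⟶ E.obj.left), IsAffine V.left ∧ Etale j.left ∧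
      x ∈ Set.range j.left ∧ IsAffine E.obj.left.left ∧ (yon S).map j ≫ a = (yon S).map k ≫ E.obj.hom := by
  obtain ⟨U, p, hp1, hp2⟩ := hM.atlas
  obtain ⟨V, j, fst, sq⟩ := hp1.1 a
  obtain ⟨e, rfl⟩ := (yon S).map_surjective fst
  have hj : Etale j.left := hp1.2 a _ j sq
  have hjs : Surjective j.left := hp2.2 a _ j sq
  obtain ⟨v, hv⟩ := hjs.surj x
  obtain ⟨_, ⟨U₀, hU₀, rfl⟩, heU, -⟩ := U.left.isBasis_affineOpens.exists_subset_of_mem_open
    (Set.mem_univ (e.left v)) isOpen_univ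
  obtain ⟨_, ⟨V₀, hV₀, rfl⟩, hvV, hVU⟩ := V.left.isBasis_affineOpens.exists_subset_of_mem_open
    (show v ∈ ((e.left ⁻¹ᵁ U₀ : V.left.Opens) : Set V.left) from heU) (e.left ⁻¹ᵁ U₀).isOpen
  let U₁ : U.left.Opens := U₀
  let V₁ : V.left.Opens := V₀
  have hle : V₁ ≤ e.left ⁻¹ᵁ U₁ := hVU
  let W : Over S := Over.mk (V₁.ι ≫ V.hom)
  let iW : W ⟶ V := Over.homMk V₁.ι rfl
  let A : Over S := Over.mk (U₁.ι ≫ U.hom)
  let iA : A ⟶ U := Over.homMk U₁.ι rfl
  have hiA : Etale iA.left := by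
    change Etale U₁.ι
    infer_instance
  have hiW : Etale iW.left := by
    change Etale V₁.ι
    infer_instance
  have hA : RepWith @Etale ((yon S).map iA ≫ p) :=
    (RepWith @Etale).comp_mem _ _ ((repWith_yon_map_iff @Etale iA).2 hiA) hp1
  let k : W ⟶ A := Over.homMk (IsOpenImmersion.lift U₁.ι (V₁.ι ≫ e.left) (by
    rintro _ ⟨z, rfl⟩
    exact ⟨(⟨e.left (V₁.ι z), hle z.2⟩ : U₁), rfl⟩)) (by
    change IsOpenImmersion.lift U₁.ι (V₁.ι ≫ e.left) _ ≫ U₁.ι ≫ U.hom = V₁.ι ≫ V.hom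
    rw [IsOpenImmersion.lift_fac_assoc, Category.assoc, Over.w e])
  have hk : k ≫ iA = iW ≫ e := by
    apply Over.OverMorphism.ext
    change IsOpenImmersion.lift U₁.ι (V₁.ι ≫ e.left) _ ≫ U₁.ι = V₁.ι ≫ e.left
    rw [IsOpenImmersion.lift_fac]
  refine ⟨W, iW ≫ j, EtOver.mk ((yon S).map iA ≫ p) hA, k, hV₀, ?_, ?_, hU₀, ?_⟩
  · rw [Over.comp_left]
    infer_instance
  · refine ⟨(⟨v, hvV⟩ : V₁), ?_⟩
    rw [Over.comp_left, Scheme.Hom.comp_apply]
    exact hv
  · change (yon S).map (iW ≫ j) ≫ a = (yon S).map k ≫ (yon S).map iA ≫ p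
    rw [← Category.assoc ((yon S).map k), ← Functor.map_comp, hk, Functor.map_comp, Functor.map_comp, Category.assoc,
      Category.assoc, sq.w]

variable {𝒳 : BasedCategory.{v, w} (Over S)}

/-- Cohomological affineness is stable under base change. -/
theorem isCohAffine_fpFst (h𝒳 : FibCat.IsFibGrpd 𝒳.p) (A₀ : SmAtlas 𝒳) (hM : IsAlgSpace M) (g : M' ⟶ M)
    (π : 𝒳 ⥤ᵇ AlgSt.ofSp M)
    (hP : ∀ η' : (AlgSt.ofSp M').obj, IsAffine (sch (AlgSt.ofSp M') η') →
      Nonempty (Pres (fibCat (FibCat.fpFst (AlgSt.ofSpMap g) π) η')))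
    (hq : ∀ E : EtOver M, IsAffine E.obj.left.left → RepWith @QuasiCompact E.obj.hom)
    (h : IsCohAffine π) : IsCohAffine (FibCat.fpFst (AlgSt.ofSpMap g) π) := by
  intro F G u hu E' hE'
  have hMf := FlatDesc.isFibGrpd_ofSp M
  have hMf' := FlatDesc.isFibGrpd_ofSp M'
  have hE1 : IsAffine (sch (AlgSt.ofSp M') (etaOf E')) := hE'
  obtain ⟨P⟩ := hP (etaOf E') hE1
  refine FlatLoc.surjective_relSectMap_of_flat_local (K735.Fp.isFibGrpd_fp hMf' h𝒳 hMf _ π) hMf' hE1 P u.hom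
    fun x => ?_
  obtain ⟨V, j, E, k, h1, h2, h3, h4, h5⟩ := exists_et_factor hM (E'.obj.hom ≫ g) x
  let η' : (AlgSt.ofSp M').obj := ⟨V, (J S).uliftYonedaEquiv ((yon S).map j ≫ E'.obj.hom)⟩
  have hη' : toMap η' = (yon S).map j ≫ E'.obj.hom := toMap_mk _
  let m : η' ⟶ etaOf E' := homMk j (by rw [toMap_etaOf, hη'])
  let κ : (AlgSt.ofSpMap g).obj η' ⟶ etaOf E := homMk k (by
    rw [toMap_etaOf, toMap_ofSpMap, hη', Category.assoc]
    exact h5.symm)
  refine ⟨η', m, ⟨h1, ?_, h3⟩, ?_⟩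
  · change Flat j.left
    infer_instance
  · exact AffFp.surjective_relSectMap_of_exact (AffFp.exact_fibCat_fpFst π (AlgSt.ofSpMap g) h𝒳 hMf hMf' κ h1 h4
      (ExactE.exact_fibCat h𝒳 A₀ π h E h4 (hq E h4))) u hu

end K906.BaseCh
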