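import Groth.Agent.StMod.K906.FBC

/-!
# Surjectivity and injectivity of maps of modules are local for flat maps hitting the closed points

* `eq_zero_of_flat` : an element which dies after flat base changes hitting every maximal ideal is zero;
* `surjective_of_flat_local`, `injective_of_flat_local` : the same for linear maps;
* `surjective_relSectMap_of_flat_local` : surjectivity of `RelSect π F η → RelSect π G η` for `η` affine may be checked on
  affine objects flat over `η` hitting every point; `bijective_unitSect_of_flat_local`.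
-/

set_option autoImplicit false
set_option linter.unusedVariables false
set_option linter.style.haveILetI false
set_option backward.isDefEq.respectTransparency false
set_option backward.isDefEq.respectTransparency.types false

universe t w' v' w v u

open CategoryTheory CategoryTheory.Limits AlgebraicGeometry Opposite StMod
open Groth.Agent.CohqA.BaseChangeMod

namespace K906.FlatLoc

section Algebra

variable {A : Type u} [CommRing A]

/-- An element which becomes zero after flat base changes whose spectra hit every closed point is zero. -/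
theorem eq_zero_of_flat {M : Type u} [AddCommGroup M] [Module A M] (x : M)
    (h : ∀ m : Ideal A, m.IsMaximal → ∃ (B : Type u) (_ : CommRing B) (φ : A →+* B) (M' : Type u)
      (_ : AddCommGroup M') (_ : Module B M') (f : M →+ M'), φ.Flat ∧ m.map φ ≠ ⊤ ∧ IsBC φ f ∧ f x = 0) :
    x = 0 := by
  by_contra hx
  let I : Ideal A := LinearMap.ker (LinearMap.toSpanSingleton A M x)
  have hI : I ≠ ⊤ := by
    intro hI
    have h1 : (1 : A) ∈ I := by rw [hI]; trivial
    have h2 : (1 : A) • x = 0 := h1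
    exact hx (by rwa [one_smul] at h2)
  obtain ⟨m, hm, hIm⟩ := Ideal.exists_le_maximal I hI
  obtain ⟨B, _, φ, M', _, _, f, hφ, hmB, hf, hfx⟩ := h m hm
  have hAB : IsBC φ (φ : A →+* B).toAddMonoidHom := by
    refine ⟨fun r x => by simp, ?_⟩
    intro Q _ _ g hg
    refine ⟨LinearMap.toSpanSingleton B Q (g 1), ?_, ?_⟩
    · intro r
      change φ r • g 1 = g r
      rw [← hg, smul_eq_mul, mul_one]
    · intro g' hg'
      apply LinearMap.ext_ring
      have := hg' 1
      change g' (φ 1) = g 1 at this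
      rw [map_one] at this
      rw [this]
      simp
  have hq := K907.Alg.isBC_quotMap hAB I
  let j : (A ⧸ I) →ₗ[A] M := I.liftQ (LinearMap.toSpanSingleton A M x) le_rfl
  have hj : Function.Injective j := by
    rw [← LinearMap.ker_eq_bot]
    exact Submodule.ker_liftQ_eq_bot _ _ _ le_rfl
  obtain ⟨j', hj', -⟩ := hq.lift M' (f.comp j.toAddMonoidHom) (fun r y => by
    change f (j (r • y)) = φ r • f (j y)
    rw [map_smul, hf.map_smul])
  have hinj := K907.Alg.injective_of_flat hφ hq hf j j' hj' hj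
  have h1 : j' (Submodule.Quotient.mk (1 : B)) = 0 := by
    have h2 := hj' (Submodule.Quotient.mk (1 : A))
    change j' (Submodule.Quotient.mk (φ 1)) = f (j (Submodule.Quotient.mk (1 : A))) at h2
    rw [map_one] at h2
    rw [h2]
    change f ((1 : A) • x) = 0
    rw [one_smul, hfx]
  have h2 : (Submodule.Quotient.mk (1 : B) : B ⧸ (K907.Alg.ext (φ : A →+* B).toAddMonoidHom I : Submodule B B)) = 0 :=
    hinj (h1.trans (map_zero j').symm)
  rw [Submodule.Quotient.mk_eq_zero] at h2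
  apply hmB
  rw [Ideal.eq_top_iff_one]
  have h3 : (K907.Alg.ext (φ : A →+* B).toAddMonoidHom I : Submodule B B) ≤ m.map φ := by
    refine Submodule.span_le.2 ?_
    rintro _ ⟨a, ha, rfl⟩
    exact Ideal.mem_map_of_mem φ (hIm ha)
  exact h3 h2

variable {M N : Type u} [AddCommGroup M] [Module A M] [AddCommGroup N] [Module A N]

/-- Injectivity of a linear map may be checked after flat base changes hitting every closed point. -/
theorem injective_of_flat_local (d : M →ₗ[A] N)
    (h : ∀ m : Ideal A, m.IsMaximal → ∃ (B : Type u) (_ : CommRing B) (φ : A →+* B) (M' N' : Type u)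
      (_ : AddCommGroup M') (_ : Module B M') (_ : AddCommGroup N') (_ : Module B N') (f : M →+ M') (g : N →+ N')
      (d' : M' →ₗ[B] N'), φ.Flat ∧ m.map φ ≠ ⊤ ∧ IsBC φ f ∧ IsBC φ g ∧ (∀ x, d' (f x) = g (d x)) ∧
        Function.Injective d') : Function.Injective d := by
  rw [injective_iff_map_eq_zero]
  intro x hx
  refine eq_zero_of_flat (A := A) x fun m hm => ?_
  obtain ⟨B, _, φ, M', N', _, _, _, _, f, g, d', h1, h2, h3, h4, h5, h6⟩ := h m hm
  refine ⟨B, inferInstance, φ, M', inferInstance, inferInstance, f, h1, h2, h3, ?_⟩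
  apply h6
  rw [h5, hx, map_zero, map_zero]

/-- Surjectivity of a linear map may be checked after flat base changes hitting every closed point. -/
theorem surjective_of_flat_local (d : M →ₗ[A] N)
    (h : ∀ m : Ideal A, m.IsMaximal → ∃ (B : Type u) (_ : CommRing B) (φ : A →+* B) (M' N' : Type u)
      (_ : AddCommGroup M') (_ : Module B M') (_ : AddCommGroup N') (_ : Module B N') (f : M →+ M') (g : N →+ N')
      (d' : M' →ₗ[B] N'), φ.Flat ∧ m.map φ ≠ ⊤ ∧ IsBC φ f ∧ IsBC φ g ∧ (∀ x, d' (f x) = g (d x)) ∧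
        Function.Surjective d') : Function.Surjective d := by
  rw [← LinearMap.range_eq_top, Submodule.eq_top_iff']
  intro y
  rw [← Submodule.Quotient.mk_eq_zero]
  refine eq_zero_of_flat (A := A) _ fun m hm => ?_
  obtain ⟨B, _, φ, M', N', _, _, _, _, f, g, d', h1, h2, h3, h4, h5, h6⟩ := h m hm
  refine ⟨B, inferInstance, φ, _, inferInstance, inferInstance, _, h1, h2,
    K907.Alg.isBC_quotMap h4 (LinearMap.range d), ?_⟩
  rw [K907.Alg.quotMap_mk, Submodule.Quotient.mk_eq_zero]
  have h7 : (⊤ : Submodule B M').map d' ≤ K907.Alg.ext g (LinearMap.range d) := by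
    rw [← K907.Alg.span_range h3, Submodule.map_span]
    refine Submodule.span_le.2 ?_
    rintro _ ⟨_, ⟨x, rfl⟩, rfl⟩
    rw [h5]
    exact K907.Alg.mem_ext g ⟨x, rfl⟩
  obtain ⟨z, hz⟩ := h6 (g y)
  rw [← hz]
  exact h7 ⟨z, trivial, rfl⟩

end Algebra

/-- A maximal ideal of the functions of an affine scheme does not generate the unit ideal upstairs if its point is hit. -/
theorem map_ne_top_of_mem_range {X Y : Scheme.{u}} [IsAffine X] [IsAffine Y] (g : Y ⟶ X) (m : Ideal Γ(X, ⊤))
    [hm : m.IsPrime] (h : X.isoSpec.inv (⟨m, hm⟩ : PrimeSpectrum Γ(X, ⊤)) ∈ Set.range g) :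
    m.map g.appTop.hom ≠ ⊤ := by
  obtain ⟨y, hy⟩ := h
  have h1 : Spec.map g.appTop (Y.isoSpec.hom y) = (⟨m, hm⟩ : PrimeSpectrum Γ(X, ⊤)) := by
    have h2 := congrArg (fun t : Y ⟶ Spec Γ(X, ⊤) => t y) (Scheme.isoSpec_hom_naturality g)
    simp only [Scheme.Hom.comp_apply] at h2
    rw [h2, hy]
    simp
  have h3 : m = Ideal.comap g.appTop.hom (show PrimeSpectrum Γ(Y, ⊤) from Y.isoSpec.hom y).asIdeal :=
    (congrArg PrimeSpectrum.asIdeal h1).symm
  intro h4
  have h5 : m.map g.appTop.hom ≤ (show PrimeSpectrum Γ(Y, ⊤) from Y.isoSpec.hom y).asIdeal := by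
    rw [Ideal.map_le_iff_le_comap]
    exact h3.le
  rw [h4] at h5
  exact (show PrimeSpectrum Γ(Y, ⊤) from Y.isoSpec.hom y).isPrime.ne_top (top_le_iff.1 h5)

section RelSect

variable {S : Scheme.{u}} {𝒳 : BasedCategory.{v, w} (Over S)} {𝒴 : BasedCategory.{v', w'} (Over S)}
  {π : 𝒳 ⥤ᵇ 𝒴} {η : 𝒴.obj}

/-- A flat base change in terms of a given small model of the source. -/
theorem relBC_model {F : Mod 𝒳} {η' : 𝒴.obj} {g : η' ⟶ η} (h : K908.Push.RelBC π F g) {M₀ : Type u}
    [AddCommGroup M₀] [Module Γ(sch 𝒴 η, ⊤) M₀] (e : M₀ ≃ₗ[Γ(sch 𝒴 η, ⊤)] Mod.RelSect π F η) :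
    ∃ (N : Type u) (_ : AddCommGroup N) (_ : Module Γ(sch 𝒴 η', ⊤) N)
      (e' : N ≃ₗ[Γ(sch 𝒴 η', ⊤)] Mod.RelSect π F η') (f : M₀ →+ N),
      (∀ x, e' (f x) = K908.Push.relRes π F g (e x)) ∧ IsBC (bmap 𝒴 g).appTop.hom f := by
  obtain ⟨M, N, _, _, _, _, e₁, e', f, hf, hbc⟩ := h
  let i : M₀ ≃ₗ[Γ(sch 𝒴 η, ⊤)] M := e.trans e₁.symm
  refine ⟨N, inferInstance, inferInstance, e', f.comp i.toLinearMap.toAddMonoidHom, ?_, ?_⟩
  · intro x
    change e' (f (e₁.symm (e x))) = _
    rw [hf, LinearEquiv.apply_symm_apply]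
  · exact (Groth.Agent.CohqA.PullbackSections.isBC_congr_of_bijective (A := Γ(sch 𝒴 η, ⊤)) (A' := Γ(sch 𝒴 η, ⊤))
      (B := Γ(sch 𝒴 η', ⊤)) (B' := Γ(sch 𝒴 η', ⊤)) (φ := (bmap 𝒴 g).appTop.hom) (φ' := (bmap 𝒴 g).appTop.hom)
      (RingHom.id _) Function.bijective_id
      (RingHom.id _) Function.bijective_id i.toLinearMap.toAddMonoidHom i.bijective (fun r x => i.map_smul r x)
      (AddMonoidHom.id N) Function.bijective_id (fun r x => rfl) rfl rfl).2 hbc

variable (h𝒳 : FibCat.IsFibGrpd 𝒳.p) (h𝒴 : FibCat.IsFibGrpd 𝒴.p)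

/-- The class of arrows `η' ⟶ η` from affine objects, flat, hitting the point `x`. -/
structure Hits {η' : 𝒴.obj} (g : η' ⟶ η) (x : ↥(sch 𝒴 η)) : Prop where
  aff : IsAffine (sch 𝒴 η')
  flat : Flat (bmap 𝒴 g)
  mem : x ∈ Set.range (bmap 𝒴 g)

include h𝒳 h𝒴 in
/-- Surjectivity on sections of pushforwards over an affine object is local for flat arrows. -/
theorem surjective_relSectMap_of_flat_local (hη : IsAffine (sch 𝒴 η)) (P : Pres (fibCat π η)) {F G : QCoh 𝒳}
    (u : F.obj ⟶ G.obj)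
    (h : ∀ x : ↥(sch 𝒴 η), ∃ (η' : 𝒴.obj) (g : η' ⟶ η), Hits g x ∧
      Function.Surjective (Mod.relSectMap π u η')) : Function.Surjective (Mod.relSectMap π u η) := by
  let eF := FBC.secEquiv h𝒳 P F
  let eG := FBC.secEquiv h𝒳 P G
  let d := (eG.symm.toLinearMap ∘ₗ Mod.relSectMap π u η) ∘ₗ eF.toLinearMap
  suffices hd : Function.Surjective d by
    intro y
    obtain ⟨x, hx⟩ := hd (eG.symm y)
    exact ⟨eF x, eG.symm.injective hx⟩
  refine surjective_of_flat_local d fun m hm => ?_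
  obtain ⟨η', g, ⟨h1, h2, h3⟩, h4⟩ := h ((sch 𝒴 η).isoSpec.inv (⟨m, hm.isPrime⟩ : PrimeSpectrum Γ(sch 𝒴 η, ⊤)))
  obtain ⟨M', _, _, eF', f, hf, hf'⟩ := relBC_model (FBC.relBC_of_pres h𝒳 h𝒴 g hη h1 h2 P F) eF
  obtain ⟨N', _, _, eG', k, hk, hk'⟩ := relBC_model (FBC.relBC_of_pres h𝒳 h𝒴 g hη h1 h2 P G) eG
  have := hm.isPrime
  refine ⟨Γ(sch 𝒴 η', ⊤), inferInstance, (bmap 𝒴 g).appTop.hom, M', N', inferInstance, inferInstance, inferInstance,
    inferInstance, f, k, (eG'.symm.toLinearMap ∘ₗ Mod.relSectMap π u η') ∘ₗ eF'.toLinearMap, ?_, ?_, hf', hk', ?_, ?_⟩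
  · exact (HasRingHomProperty.iff_of_isAffine (P := @Flat)).1 h2
  · exact map_ne_top_of_mem_range (bmap 𝒴 g) m h3
  · intro x
    apply eG'.injective
    change eG' (eG'.symm (Mod.relSectMap π u η' (eF' (f x)))) = eG' (k (eG.symm (Mod.relSectMap π u η (eF x))))
    rw [LinearEquiv.apply_symm_apply, hf, hk, LinearEquiv.apply_symm_apply]
    rfl
  · exact (eG'.symm.surjective.comp h4).comp eF'.surjective

/-- A ring homomorphism is the base change of the regular module. -/
theorem isBC_self {A B : Type u} [CommRing A] [CommRing B] (φ : A →+* B) : IsBC φ (φ : A →+* B).toAddMonoidHom := by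
  refine ⟨fun r x => by simp, ?_⟩
  intro Q _ _ g hg
  refine ⟨LinearMap.toSpanSingleton B Q (g 1), ?_, ?_⟩
  · intro r
    change φ r • g 1 = g r
    rw [← hg, smul_eq_mul, mul_one]
  · intro g' hg'
    apply LinearMap.ext_ring
    have := hg' 1
    change g' (φ 1) = g 1 at this
    rw [map_one] at this
    rw [this]
    simp

/-- The canonical map from functions to sections of `π_* O` commutes with restriction. -/
theorem relRes_unitSect {η' : 𝒴.obj} (g : η' ⟶ η) (r : Γ(sch 𝒴 η, ⊤)) :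
    K908.Push.relRes π (O 𝒳) g (unitSect π η r) = unitSect π η' ((bmap 𝒴 g).appTop r) := by
  apply Mod.RelSect.ext
  intro ξ α
  rw [K908.Push.relRes_val, unitSect_val, unitSect_val]
  exact K908.Push.baseOver_appTop π g ξ α r

include h𝒳 h𝒴 in
/-- Bijectivity of the unit over an affine object is local for flat arrows. -/
theorem bijective_unitSect_of_flat_local (hη : IsAffine (sch 𝒴 η)) (P : Pres (fibCat π η))
    (h : ∀ x : ↥(sch 𝒴 η), ∃ (η' : 𝒴.obj) (g : η' ⟶ η), Hits g x ∧ Function.Bijective (unitSect π η')) :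
    Function.Bijective (unitSect π η) := by
  let eF := FBC.secEquiv h𝒳 P (OQ 𝒳)
  let d := eF.symm.toLinearMap ∘ₗ unitSect π η
  have key : ∀ m : Ideal Γ(sch 𝒴 η, ⊤), m.IsMaximal → ∃ (B : Type u) (_ : CommRing B) (φ : Γ(sch 𝒴 η, ⊤) →+* B)
      (M' N' : Type u) (_ : AddCommGroup M') (_ : Module B M') (_ : AddCommGroup N') (_ : Module B N')
      (f : Γ(sch 𝒴 η, ⊤) →+ M') (g : FBC.secMod P (OQ 𝒳) →+ N') (d' : M' →ₗ[B] N'), φ.Flat ∧ m.map φ ≠ ⊤ ∧ IsBC φ f ∧
        IsBC φ g ∧ (∀ x, d' (f x) = g (d x)) ∧ Function.Bijective d' := by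
    intro m hm
    obtain ⟨η', g, ⟨h1, h2, h3⟩, h4⟩ := h ((sch 𝒴 η).isoSpec.inv (⟨m, hm.isPrime⟩ : PrimeSpectrum Γ(sch 𝒴 η, ⊤)))
    obtain ⟨N', _, _, eF', f, hf, hf'⟩ := relBC_model (FBC.relBC_of_pres h𝒳 h𝒴 g hη h1 h2 P (OQ 𝒳)) eF
    have := hm.isPrime
    refine ⟨Γ(sch 𝒴 η', ⊤), inferInstance, (bmap 𝒴 g).appTop.hom, Γ(sch 𝒴 η', ⊤), N', inferInstance, inferInstance,
      inferInstance, inferInstance, (bmap 𝒴 g).appTop.hom.toAddMonoidHom, f, eF'.symm.toLinearMap ∘ₗ unitSect π η',
      ?_, ?_, isBC_self _, hf', ?_, ?_⟩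
    · exact (HasRingHomProperty.iff_of_isAffine (P := @Flat)).1 h2
    · exact map_ne_top_of_mem_range (bmap 𝒴 g) m h3
    · intro r
      apply eF'.injective
      change eF' (eF'.symm (unitSect π η' ((bmap 𝒴 g).appTop r))) = eF' (f (eF.symm (unitSect π η r)))
      rw [LinearEquiv.apply_symm_apply, hf, LinearEquiv.apply_symm_apply]
      exact (relRes_unitSect g r).symm
    · exact eF'.symm.bijective.comp h4
  have h1 : Function.Injective d := injective_of_flat_local d fun m hm => by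
    obtain ⟨B, _, φ, M', N', _, _, _, _, f, g, d', h1, h2, h3, h4, h5, h6⟩ := key m hm
    exact ⟨B, inferInstance, φ, M', N', inferInstance, inferInstance, inferInstance, inferInstance, f, g, d', h1, h2,
      h3, h4, h5, h6.1⟩
  have h2 : Function.Surjective d := surjective_of_flat_local d fun m hm => by
    obtain ⟨B, _, φ, M', N', _, _, _, _, f, g, d', h1, h2, h3, h4, h5, h6⟩ := key m hm
    exact ⟨B, inferInstance, φ, M', N', inferInstance, inferInstance, inferInstance, inferInstance, f, g, d', h1, h2,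
      h3, h4, h5, h6.2⟩
  constructor
  · intro x y hxy
    apply h1
    change eF.symm (unitSect π η x) = eF.symm (unitSect π η y)
    rw [hxy]
  · intro y
    obtain ⟨x, hx⟩ := h2 (eF.symm y)
    exact ⟨x, eF.symm.injective hx⟩

end RelSect

end K906.FlatLoc
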