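import Groth.Agent.StMod.K906.SchFac

/-!
# Finite disjoint unions of affine opens of a scheme

* `finAff X t` for a finite set `t` of affine opens of `X`: their disjoint union, with `finAffι X t : finAff X t ⟶ X` étale;
* `exists_affine_factor_fin` : a morphism `z ⟶ X`, `z` affine, factors after one affine étale cover through some `finAff X t`;
* `exists_affine_refine` : a surjective open map `W ⟶ z` to an affine (quasi-compact) scheme stays surjective on an affine
  scheme étale over `W`.
-/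

set_option autoImplicit false

universe u

open CategoryTheory CategoryTheory.Limits AlgebraicGeometry MorphismProperty

namespace K906.SchFac

/-- The disjoint union of a finite set of affine opens. -/
noncomputable def finAff (X : Scheme.{u}) (t : Finset X.affineOpens) : Scheme.{u} :=
  ∐ fun i : t => (i.1.1 : Scheme.{u})

/-- Its morphism to the scheme. -/
noncomputable def finAffι (X : Scheme.{u}) (t : Finset X.affineOpens) : finAff X t ⟶ X :=
  Limits.Sigma.desc fun i : t => i.1.1.ι

instance (X : Scheme.{u}) (t : Finset X.affineOpens) : IsAffine (finAff X t) := by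
  have : ∀ i : t, IsAffine (i.1.1 : Scheme.{u}) := fun i => i.1.2
  unfold finAff
  infer_instance

instance (X : Scheme.{u}) (t : Finset X.affineOpens) : Etale (finAffι X t) :=
  IsZariskiLocalAtSource.sigmaDesc (P := @Etale) (fun _ => inferInstance)

/-- A morphism from an affine scheme factors, after one affine étale cover, through a finite disjoint union of affine
opens of the target. -/
theorem exists_affine_factor_fin {z X : Scheme.{u}} [IsAffine z] (g : z ⟶ X) :
    ∃ (z' : Scheme.{u}) (t : Finset X.affineOpens) (f : z' ⟶ z) (e : z' ⟶ finAff X t), IsAffine z' ∧ Etale f ∧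
      Surjective f ∧ f ≫ g = e ≫ finAffι X t := by
  classical
  have key : ∀ x : z, ∃ (U : X.Opens) (V : z.Opens), IsAffineOpen U ∧ IsAffineOpen V ∧ x ∈ V ∧ V ≤ g ⁻¹ᵁ U := by
    intro x
    obtain ⟨U, hU, hxU, -⟩ := TopologicalSpace.Opens.isBasis_iff_nbhd.1 X.isBasis_affineOpens (x := g x)
      (U := ⊤) trivial
    obtain ⟨V, hV, hxV, hVU⟩ := TopologicalSpace.Opens.isBasis_iff_nbhd.1 z.isBasis_affineOpens (x := x)
      (U := g ⁻¹ᵁ U) hxU
    exact ⟨U, V, hU, hV, hxV, hVU⟩
  choose U V hU hV hx hVU using key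
  obtain ⟨t, ht⟩ := exists_finset_cover (fun x => (V x).ι) (fun x => (V x).ι.isOpenEmbedding.isOpenMap)
    (fun x => by rw [Scheme.Opens.range_ι]; exact hx x)
  have : ∀ x : t, IsAffine (V x.1 : Scheme.{u}) := fun x => hV x.1
  have hr : ∀ x : t, Set.range ((V x.1).ι ≫ g) ⊆ Set.range (U x.1).ι := by
    intro x
    rw [Scheme.Opens.range_ι]
    rintro _ ⟨y, rfl⟩
    exact hVU x.1 y.2
  let t' : Finset X.affineOpens := t.image (fun x => ⟨U x, hU x⟩)
  let i : t → t' := fun x => ⟨⟨U x.1, hU x.1⟩, Finset.mem_image_of_mem _ x.2⟩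
  refine ⟨∐ fun x : t => (V x.1 : Scheme.{u}), t', Limits.Sigma.desc fun x => (V x.1).ι,
    Limits.Sigma.desc fun x => IsOpenImmersion.lift (U x.1).ι ((V x.1).ι ≫ g) (hr x) ≫
      Limits.Sigma.ι (fun i : t' => (i.1.1 : Scheme.{u})) (i x), inferInstance, ?_, ?_, ?_⟩
  · exact IsZariskiLocalAtSource.sigmaDesc (P := @Etale) (fun x => inferInstance)
  · refine surjective_sigmaDesc _ (fun y => ?_)
    obtain ⟨x, hx1, hx2⟩ := ht y
    exact ⟨⟨x, hx1⟩, hx2⟩
  · refine Sigma.hom_ext _ _ (fun x => ?_)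
    rw [Sigma.ι_desc_assoc, Sigma.ι_desc_assoc, Category.assoc]
    have h1 : Limits.Sigma.ι (fun i : t' => (i.1.1 : Scheme.{u})) (i x) ≫ finAffι X t' = (i x).1.1.ι :=
      Sigma.ι_desc _ _
    refine (IsOpenImmersion.lift_fac (U x.1).ι ((V x.1).ι ≫ g) (hr x)).symm.trans ?_
    exact congrArg (fun k : ((U x.1 : Scheme.{u}) ⟶ X) =>
      IsOpenImmersion.lift (U x.1).ι ((V x.1).ι ≫ g) (hr x) ≫ k) h1.symm

/-- A surjective open morphism to a quasi-compact scheme stays surjective on an affine scheme étale over its source. -/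
theorem exists_affine_refine {W z : Scheme.{u}} [CompactSpace z] (f : W ⟶ z) (ho : IsOpenMap f)
    (hs : Surjective f) : ∃ (W' : Scheme.{u}) (j : W' ⟶ W), IsAffine W' ∧ Etale j ∧ Surjective (j ≫ f) := by
  have key : ∀ x : z, ∃ (U : W.Opens), IsAffineOpen U ∧ x ∈ Set.range (U.ι ≫ f) := by
    intro x
    obtain ⟨y, rfl⟩ := hs.surj x
    obtain ⟨U, hU, hyU, -⟩ := TopologicalSpace.Opens.isBasis_iff_nbhd.1 W.isBasis_affineOpens (x := y)
      (U := ⊤) trivial
    exact ⟨U, hU, ⟨y, hyU⟩, rfl⟩
  choose U hU hx using key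
  obtain ⟨t, ht⟩ := exists_finset_cover (fun x => (U x).ι ≫ f) (fun x => by
    have := ho.comp (U x).ι.isOpenEmbedding.isOpenMap
    exact this) hx
  have : ∀ x : t, IsAffine (U x.1 : Scheme.{u}) := fun x => hU x.1
  refine ⟨∐ fun x : t => (U x.1 : Scheme.{u}), Limits.Sigma.desc fun x => (U x.1).ι, inferInstance, ?_, ?_⟩
  · exact IsZariskiLocalAtSource.sigmaDesc (P := @Etale) (fun x => inferInstance)
  · have h1 : (Limits.Sigma.desc fun x : t => (U x.1).ι) ≫ f = Limits.Sigma.desc fun x : t => (U x.1).ι ≫ f :=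
      Sigma.hom_ext _ _ (fun x => by simp)
    rw [h1]
    refine surjective_sigmaDesc _ (fun y => ?_)
    obtain ⟨x, hx1, hx2⟩ := ht y
    exact ⟨⟨x, hx1⟩, hx2⟩

end K906.SchFac
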