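import Groth.Agent.StMod.K906.SpanRep
import Groth.Agent.StMod.K906.SchFac2
import Groth.Agent.AlgSp.K609.Points

/-!
# Existence of smooth atlases by affine objects

* `SpanRep.exists_chart` : a span over an affine `z` lifts, after one affine étale cover, to an affine étale span;
* `SpanRep.repWith_of_spanWith` : converse of `spanWith_of_repWith`;
* `nonempty_smAtlas` : `SmAtlas 𝒳` for `𝒳` fibred in groupoids with a smooth atlas.
-/

set_option autoImplicit false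
set_option backward.isDefEq.respectTransparency false
set_option backward.isDefEq.respectTransparency.types false

universe w' v' w v u

open CategoryTheory CategoryTheory.Limits AlgebraicGeometry StMod MorphismProperty Opposite AlgSp

namespace K906.Span

open K906.Grpd K606.YonSec K734.Fib

variable {S : Scheme.{u}} {𝒳 : BasedCategory.{v, w} (Over S)}

theorem isIso_left {A B : Over S} (e : A ≅ B) : IsIso e.hom.left := by
  have : IsIso ((Over.forget S).map e.hom) := inferInstance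
  exact this

namespace SpanRep

variable {ζ ζ' : 𝒳.obj} {F : Sp S} (R : SpanRep ζ ζ' F)

/-- A section of `F` over a scheme comes from a span. -/
theorem exists_span {T : Over S} (s : F.obj.obj (op T)) : ∃ (χ : 𝒳.obj) (a : χ ⟶ ζ) (b : χ ⟶ ζ')
    (e : T = 𝒳.p.obj χ), ofSec (R.sec a b) = (yon S).map (eqToHom e.symm) ≫ ofSec s := by
  obtain ⟨χ, a, b, e, h⟩ := R.surj s
  refine ⟨χ, a, b, e, ?_⟩
  subst e
  have : R.sec a b = s := by simpa using h
  rw [this]
  simp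

/-- A span over an affine scheme lifts, after an affine étale cover, to an affine étale span. -/
theorem exists_chart (h : FibCat.IsFibGrpd 𝒳.p) (hF : IsAlgSpace F) {z : 𝒳.obj} (hz : IsAffine (sch 𝒳 z))
    (a : z ⟶ ζ) (b : z ⟶ ζ') : ∃ (z' θ : 𝒳.obj) (f : z' ⟶ z) (p : θ ⟶ ζ) (q : θ ⟶ ζ') (e : z' ⟶ θ),
      IsAffine (sch 𝒳 z') ∧ IsAffine (sch 𝒳 θ) ∧ Etale (bmap 𝒳 f) ∧ Surjective (bmap 𝒳 f) ∧
        SpanWith @Etale p q ∧ RepWith @Etale (ofSec (R.sec p q)) ∧ e ≫ p = f ≫ a ∧ e ≫ q = f ≫ b := by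
  obtain ⟨V, c, hc, hcs⟩ := hF.atlas
  obtain ⟨W, m, n, sq, hn⟩ := K597.exists_sq2 hc (ofSec (R.sec a b))
  have hns : Surjective n.left := K597.repWith_prop hcs sq
  have hz' : IsAffine (𝒳.p.obj z).left := hz
  obtain ⟨W', j, hW', hj, hjs⟩ := SchFac.exists_affine_refine n.left n.left.isOpenMap hns
  obtain ⟨z₁, V', f, e, i, hz₁, hV', hf, hfs, hi, hc'⟩ := SchFac.exists_affine_factor (j ≫ m.left)
  -- the étale section over `V'`
  let V₁ : Over S := Over.mk (i ≫ V.hom)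
  let i₁ : V₁ ⟶ V := Over.homMk i rfl
  have hi₁ : RepWith @Etale ((yon S).map i₁ ≫ c) := K597.etale_comp (K597.etale_map i₁ hi) hc
  obtain ⟨θ, p, q, eθ, hθ⟩ := R.exists_span (K606.YonSec.sec ((yon S).map i₁ ≫ c))
  rw [ofSec_sec] at hθ
  have hθ' : RepWith @Etale (ofSec (R.sec p q)) := by
    rw [hθ]
    refine K597.etale_comp (K597.etale_map _ ?_) hi₁
    have := isIso_left (eqToIso eθ.symm)
    exact inferInstance
  have hpq : SpanWith @Etale p q := R.spanWith_of_repWith h p q hθ'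
  -- the cover of `z`
  let g : z₁ ⟶ (𝒳.p.obj z).left := f ≫ j ≫ n.left
  have hg : Etale g := inferInstance
  have hgs : Surjective g := inferInstance
  obtain ⟨z', φ, ez, hφ⟩ := Grpd.exists_lift_sch h z g
  have hz0 : (𝒳.p.obj z').hom = ez.hom ≫ g ≫ (𝒳.p.obj z).hom := by
    rw [← Over.w (𝒳.p.map φ)]
    change bmap 𝒳 φ ≫ (𝒳.p.obj z).hom = _
    rw [hφ, Category.assoc]
  let k₁ : 𝒳.p.obj z' ⟶ V₁ := Over.homMk (ez.hom ≫ e) (by
    change (ez.hom ≫ e) ≫ i ≫ V.hom = (𝒳.p.obj z').hom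
    rw [hz0]
    simp only [Category.assoc, g]
    rw [← reassoc_of% hc', Over.w m, Over.w n])
  let k₂ : 𝒳.p.obj z' ⟶ W := Over.homMk (ez.hom ≫ f ≫ j) (by
    change (ez.hom ≫ f ≫ j) ≫ W.hom = (𝒳.p.obj z').hom
    rw [hz0]
    simp only [Category.assoc, g]
    rw [Over.w n])
  have h1 : k₁ ≫ i₁ = k₂ ≫ m := by
    apply Over.OverMorphism.ext
    change (ez.hom ≫ e) ≫ i = (ez.hom ≫ f ≫ j) ≫ m.left
    simp only [Category.assoc]
    rw [hc']
  have h2 : k₂ ≫ n = 𝒳.p.map φ := by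
    apply Over.OverMorphism.ext
    change (ez.hom ≫ f ≫ j) ≫ n.left = bmap 𝒳 φ
    rw [hφ]
    simp [g]
  obtain ⟨ψ, hψ1, hψ2, hψ3⟩ := R.full p q (φ ≫ a) (φ ≫ b) (k₁ ≫ eqToHom eθ) (by
      apply ofSec_injective
      rw [← map_comp_ofSec, hθ, ← R.map, ← map_comp_ofSec, ← Category.assoc, ← Functor.map_comp, Category.assoc,
        eqToHom_trans, eqToHom_refl, Category.comp_id, ← Category.assoc, ← Functor.map_comp, h1, Functor.map_comp,
        Category.assoc, sq.w, ← Category.assoc, ← Functor.map_comp, h2])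
  refine ⟨z', θ, φ, p, q, ψ, IsAffine.of_isIso ez.hom, ?_, ?_, ?_, hpq, hθ', hψ2, hψ3⟩
  · have := isIso_left (eqToIso eθ.symm)
    have hV₁ : IsAffine V₁.left := hV'
    exact IsAffine.of_isIso (eqToIso eθ.symm).hom.left
  · rw [hφ]; infer_instance
  · rw [hφ]; infer_instance

/-- The square of sheaves under a relative fibre product of spans. -/
theorem isPullback_of_isFib (h : FibCat.IsFibGrpd 𝒳.p) {θ χ π : 𝒳.obj} {a : θ ⟶ ζ} {b : θ ⟶ ζ'} {x : χ ⟶ ζ}
    {y : χ ⟶ ζ'} {k : π ⟶ θ} {l : π ⟶ χ} (hf : IsFib a b x y k l) (hF : Representable (Limits.diag F)) :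
    IsPullback ((yon S).map (𝒳.p.map k)) ((yon S).map (𝒳.p.map l)) (ofSec (R.sec a b)) (ofSec (R.sec x y)) := by
  have w : (yon S).map (𝒳.p.map k) ≫ ofSec (R.sec a b) = (yon S).map (𝒳.p.map l) ≫ ofSec (R.sec x y) := by
    rw [map_comp_ofSec, map_comp_ofSec, R.map, R.map, hf.wl, hf.wr]
  obtain ⟨W, m, n, sq⟩ : ∃ (W : Over S) (m : W ⟶ 𝒳.p.obj θ) (n : W ⟶ 𝒳.p.obj χ),
      IsPullback ((yon S).map m) ((yon S).map n) (ofSec (R.sec a b)) (ofSec (R.sec x y)) := by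
    obtain ⟨W, n, fst, sq⟩ := (Functor.relativelyRepresentable.of_diag hF (ofSec (R.sec a b))) (ofSec (R.sec x y))
    obtain ⟨m, rfl⟩ := (yon S).map_surjective fst
    exact ⟨W, m, n, sq⟩
  -- the arrow `W ⟶ p π`
  obtain ⟨ρ, l', e, hl'⟩ := Grpd.exists_lift_iso h χ n
  obtain ⟨k', h1, h2, h3⟩ := R.full a b (l' ≫ x) (l' ≫ y) (e.hom ≫ m) (by
    apply ofSec_injective
    rw [← map_comp_ofSec, ← R.map, ← map_comp_ofSec, hl', Functor.map_comp, Functor.map_comp, Category.assoc,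
      Category.assoc, sq.w])
  let u : ρ ⟶ π := hf.lift k' l' h2 h3
  have hu1 : 𝒳.p.map u ≫ 𝒳.p.map k = e.hom ≫ m := by rw [← Functor.map_comp, hf.lift_fst, h1]
  have hu2 : 𝒳.p.map u ≫ 𝒳.p.map l = e.hom ≫ n := by rw [← Functor.map_comp, hf.lift_snd, hl']
  obtain ⟨v, hv⟩ := (yon S).map_surjective (sq.lift _ _ w)
  have hv1 : v ≫ m = 𝒳.p.map k := (yon S).map_injective (by rw [Functor.map_comp, hv, sq.lift_fst])
  have hv2 : v ≫ n = 𝒳.p.map l := (yon S).map_injective (by rw [Functor.map_comp, hv, sq.lift_snd])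
  have huv : (e.inv ≫ 𝒳.p.map u) ≫ v = 𝟙 W := by
    apply (yon S).map_injective
    refine sq.hom_ext ?_ ?_
    · rw [← Functor.map_comp, Category.assoc, Category.assoc, hv1, hu1]; simp
    · rw [← Functor.map_comp, Category.assoc, Category.assoc, hv2, hu2]; simp
  have hvu : v ≫ e.inv ≫ 𝒳.p.map u = 𝟙 _ := by
    obtain ⟨t, ⟨ht1, ht2⟩, -⟩ := Grpd.existsUnique_hom h l' l (v ≫ e.inv) (by rw [hl']; simp [hv2])
    have ht3 : t ≫ k' = k := by
      refine Grpd.hom_ext h a ?_ ?_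
      · rw [Functor.map_comp, ht1, h1]; simp [hv1]
      · rw [Category.assoc, h2, ← Category.assoc, ht2, hf.wl]
    have ht4 : t ≫ u = 𝟙 π := hf.hom_ext (by rw [Category.assoc, hf.lift_fst, ht3, Category.id_comp])
      (by rw [Category.assoc, hf.lift_snd, ht2, Category.id_comp])
    have := congrArg 𝒳.p.map ht4
    rw [Functor.map_comp, ht1, CategoryTheory.Functor.map_id] at this
    simpa using this
  let i : W ≅ 𝒳.p.obj π := ⟨e.inv ≫ 𝒳.p.map u, v, huv, hvu⟩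
  refine sq.of_iso ((yon S).mapIso i) (Iso.refl _) (Iso.refl _) (Iso.refl _) ?_ ?_ (by simp) (by simp)
  · simp only [Iso.refl_hom, Category.comp_id, Functor.mapIso_hom, ← Functor.map_comp]
    congr 1
    change m = (e.inv ≫ 𝒳.p.map u) ≫ 𝒳.p.map k
    rw [Category.assoc, hu1]; simp
  · simp only [Iso.refl_hom, Category.comp_id, Functor.mapIso_hom, ← Functor.map_comp]
    congr 1
    change n = (e.inv ≫ 𝒳.p.map u) ≫ 𝒳.p.map l
    rw [Category.assoc, hu2]; simp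

/-- Converse of `spanWith_of_repWith`. -/
theorem repWith_of_spanWith (h : FibCat.IsFibGrpd 𝒳.p) (hF : Representable (Limits.diag F))
    {Q : MorphismProperty Scheme.{u}} [Q.IsStableUnderBaseChange] {θ : 𝒳.obj} {a : θ ⟶ ζ} {b : θ ⟶ ζ'}
    (H : SpanWith Q a b) : RepWith Q (ofSec (R.sec a b)) := by
  refine MorphismProperty.relative.of_exists fun T g => ?_
  obtain ⟨χ, x, y, e, hχ⟩ := R.exists_span (K606.YonSec.sec g)
  rw [ofSec_sec] at hχ
  obtain ⟨π, k, l, hf, hl⟩ := H x y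
  have sq := R.isPullback_of_isFib h hf hF
  subst e
  rw [eqToHom_refl, CategoryTheory.Functor.map_id, Category.id_comp] at hχ
  rw [hχ] at sq
  exact ⟨_, _, _, sq, hl⟩

end SpanRep

section Smooth

variable {U : Over S} {x : FibCat.overCat U ⥤ᵇ 𝒳}

/-- The first leg of an étale span into `ζ ×_𝒳 U` is smooth when `x` is smooth. -/
theorem smooth_of_spanWith (h : FibCat.IsFibGrpd 𝒳.p) (hx : AlgSt.RepByAlgSpWith (LocP @Smooth) x) {θ ζ : 𝒳.obj}
    {p : θ ⟶ ζ} {q : θ ⟶ x.obj (one U)} (H : SpanWith @Etale p q) : Smooth (bmap 𝒳 p) := by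
  obtain ⟨F, π, R, hπ, hR⟩ := exists_spanRep_atlas h hx ζ
  have h1 := R.repWith_of_spanWith h F.property.diag H
  have h2 : RepWith @Etale (𝟙 ((yon S).obj (𝒳.p.obj ζ))) := by
    rw [← (yon S).map_id]
    exact K597.etale_map _ (by dsimp; infer_instance)
  refine hπ (ofSec (R.sec p q)) (𝟙 _) (𝒳.p.map p) h1 h2 ?_
  rw [ofSec_comp, hR, Category.comp_id, ofSec_up]

/-- Every affine object has a smooth surjective cover by an étale span to `U` (not affine). -/
theorem exists_cover (h : FibCat.IsFibGrpd 𝒳.p) (hx : AlgSt.RepByAlgSpWith (LocP @Smooth) x)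
    (hxs : AlgSt.RepByAlgSpWith IsSurjectiveMor x) (z : 𝒳.obj) (hz : IsAffine (sch 𝒳 z)) :
    ∃ (z' : 𝒳.obj) (f : z' ⟶ z) (_ : z' ⟶ x.obj (one U)), IsAffine (sch 𝒳 z') ∧ Smooth (bmap 𝒳 f) ∧
      Surjective (bmap 𝒳 f) := by
  obtain ⟨F, π, R, hπ, hR⟩ := exists_spanRep_atlas h hxs z
  obtain ⟨V, c, hc, hcs⟩ := F.property.atlas
  obtain ⟨χ, a, b, e, hχ⟩ := R.exists_span (K606.YonSec.sec c)
  subst e
  rw [ofSec_sec, eqToHom_refl, CategoryTheory.Functor.map_id, Category.id_comp] at hχ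
  rw [← hχ] at hc hcs
  have H := R.spanWith_of_repWith h a b hc
  have hsm := smooth_of_spanWith h hx H
  have hsurj : Surjective (bmap 𝒳 a) := by
    refine ⟨(K609.Points.surjective_map_yon_map_iff (𝒳.p.map a)).1 ?_⟩
    have h1 : (yon S).map (𝒳.p.map a) = ofSec (R.sec a b) ≫ π := by rw [ofSec_comp, hR, ofSec_up]
    rw [h1]
    intro y
    obtain ⟨y₁, hy₁⟩ := hπ y
    obtain ⟨y₂, hy₂⟩ := K609.Points.surjective_map_of_repWith_surjective hcs y₁
    exact ⟨y₂, by rw [Points.map_comp, hy₂, hy₁]⟩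
  have hz' : IsAffine (sch 𝒳 z) := hz
  obtain ⟨W', j, hW', hj, hjs⟩ := SchFac.exists_affine_refine (bmap 𝒳 a) (bmap 𝒳 a).isOpenMap hsurj
  obtain ⟨z', d, ez, hd⟩ := Grpd.exists_lift_sch h χ j
  refine ⟨z', d ≫ a, d ≫ b, IsAffine.of_isIso ez.hom, ?_, ?_⟩
  · rw [bmap_comp, hd]; infer_instance
  · rw [bmap_comp, hd, Category.assoc]; infer_instance

end Smooth

end K906.Span

namespace K906

open K906.Grpd K906.Span K734.Fib

variable {S : Scheme.{u}} {𝒳 : BasedCategory.{v, w} (Over S)}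

/-- A category fibred in groupoids with a smooth surjective atlas from a scheme has an atlas by affine objects. -/
theorem nonempty_smAtlas (h : FibCat.IsFibGrpd 𝒳.p) (hx : AlgSt.HasAtlas (LocP @Smooth) 𝒳) :
    Nonempty (SmAtlas 𝒳) := by
  obtain ⟨U, x, h1, h2⟩ := hx
  -- the scheme under `x.obj (one U)` is `U`
  let κ : U.left ⟶ sch 𝒳 (x.obj (one U)) := (eqToHom (x.w_obj (one U)).symm : U ⟶ 𝒳.p.obj (x.obj (one U))).left
  have hκ : IsIso κ := isIso_left (eqToIso (x.w_obj (one U)).symm)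
  have key : ∀ t : Finset U.left.affineOpens, ∃ (Zt : 𝒳.obj) (ct : Zt ⟶ x.obj (one U))
      (et : sch 𝒳 Zt ≅ SchFac.finAff U.left t), bmap 𝒳 ct = et.hom ≫ SchFac.finAffι U.left t ≫ κ := fun t =>
    Grpd.exists_lift_sch h (x.obj (one U)) (SchFac.finAffι U.left t ≫ κ)
  choose Z c e hc using key
  have hce : ∀ t, Etale (bmap 𝒳 (c t)) := fun t => by rw [hc]; infer_instance
  refine ⟨⟨Finset U.left.affineOpens, Z, fun t => IsAffine.of_isIso (e t).hom, ?_, ?_, ?_⟩⟩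
  · intro z hz
    obtain ⟨z', f, d, hz', hf, hfs⟩ := exists_cover h h1 h2 z hz
    obtain ⟨W, t, g, m, hW, hg, hgs, hm⟩ := SchFac.exists_affine_factor_fin (bmap 𝒳 d ≫ inv κ)
    obtain ⟨z₁, φ, ez, hφ⟩ := Grpd.exists_lift_sch h z' g
    obtain ⟨ψ, -, -⟩ := Grpd.existsUnique_hom_sch h (c t) (φ ≫ d) (ez.hom ≫ m ≫ (e t).inv) (by
      rw [hc, bmap_comp, hφ]
      have : g ≫ bmap 𝒳 d = m ≫ SchFac.finAffι U.left t ≫ κ := by
        rw [← reassoc_of% hm]; simp
      simp [this])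
    refine ⟨z₁, φ ≫ f, t, ψ, IsAffine.of_isIso ez.hom, ?_, ?_⟩
    · rw [bmap_comp, hφ]; infer_instance
    · rw [bmap_comp, hφ]; infer_instance
  · intro z ζ t a b hz
    obtain ⟨F, π, R, -, -⟩ := exists_spanRep_atlas h h1 ζ
    obtain ⟨z', θ, f, p, q, i, hz', hθ, hf, hfs, hpq, -, hip, hiq⟩ := R.exists_chart h F.property hz a (b ≫ c t)
    obtain ⟨θ₁, k, l, hp⟩ := Grpd.exists_isPullback h q (c t)
    have H := hpq.base_right hp
    let m : z' ⟶ θ₁ := hp.lift i (f ≫ b) (by rw [hiq, Category.assoc])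
    obtain ⟨W, V', g, n, j, hW, hV', hg, hgs, hj, hn⟩ := SchFac.exists_affine_factor (bmap 𝒳 m)
    obtain ⟨θ₂, s, eθ, hs⟩ := Grpd.exists_lift_sch h θ₁ j
    obtain ⟨z₁, φ, ez, hφ⟩ := Grpd.exists_lift_sch h z' g
    obtain ⟨ψ, ⟨-, hψ⟩, -⟩ := Grpd.existsUnique_hom_sch h s (φ ≫ m) (ez.hom ≫ n ≫ eθ.inv) (by
      rw [hs, bmap_comp, hφ]; simp [hn])
    refine ⟨z₁, θ₂, φ ≫ f, s ≫ k ≫ p, s ≫ l, ψ, IsAffine.of_isIso ez.hom, IsAffine.of_isIso eθ.hom, ?_, ?_, ?_,
      ?_, ?_⟩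
    · rw [bmap_comp, hφ]; infer_instance
    · rw [bmap_comp, hφ]; infer_instance
    · exact H.comp_left h s (by rw [hs]; infer_instance)
    · rw [← Category.assoc, hψ, Category.assoc, ← Category.assoc m, hp.lift_fst, hip, Category.assoc]
    · rw [← Category.assoc, hψ, Category.assoc, hp.lift_snd, Category.assoc]
  · intro θ ζ t p q H
    exact smooth_of_spanWith h h1 (H.comp_right h (c t) (hce t))

end K906
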