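import Groth.Agent.StMod.K906.L1g
import Groth.Agent.StMod.K907.HasCov

/-!
# Exactness of global sections on `𝒳_E`

* `Exact 𝒵` : the global sections of quasi-coherent modules on `𝒵` preserve surjections;
* `exists_fibObjP` : the universal arrow `z ×_M E ⟶ z`, with all the properties of `E ⟶ M`;
* `flBC_of_qc` : flat base change for `𝒳_E ⟶ 𝒳`, `E` affine étale over `M` with `E ⟶ M` quasi-compact;
* `exact_fibCat`, `exact_fibCat_of_qs` : `IsCohAffine π → Exact (fibCat π (etaOf E))`.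
-/

set_option autoImplicit false
set_option linter.unusedVariables false
set_option linter.style.haveILetI false
set_option backward.isDefEq.respectTransparency false
set_option backward.isDefEq.respectTransparency.types false

universe w' v' w v u

open CategoryTheory CategoryTheory.Limits AlgebraicGeometry Opposite StMod AlgSt AlgSp

namespace K906

/-- Global sections of quasi-coherent modules preserve surjections. -/
def Exact {S : Scheme.{u}} (𝒵 : BasedCategory.{v, w} (Over S)) : Prop :=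
  ∀ ⦃F G : QCoh 𝒵⦄ (u : F ⟶ G), Mod.IsSurj u.hom → Function.Surjective (Mod.globSectMap u.hom)

end K906

namespace K906.ExactE

open K594.Elem K907.Disj K907.FibTerm

variable {S : Scheme.{u}} {𝒳 : BasedCategory.{v, w} (Over S)} {M : Sp S}

/-- The product of an object of `ofSp M` with an étale scheme over `M`. -/
theorem exists_prodP (E : EtOver M) (m : (ofSp M).obj) :
    ∃ (m' : (ofSp M).obj) (p : m' ⟶ m) (q : m' ⟶ etaOf E),
      (∀ P : MorphismProperty Scheme.{u}, RepWith P E.obj.hom → P p.hom.left) ∧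
      (IsAffine E.obj.left.left → IsSeparated p.hom.left) ∧
      ∀ (n : (ofSp M).obj) (a : n ⟶ m) (b : n ⟶ etaOf E), ∃! c : n ⟶ m', c ≫ p = a ∧ c ≫ q = b := by
  obtain ⟨V, v, ⟨e⟩, hrep, hv⟩ := RepWith.exists_isRep E.property m.sec
  have hw : E.obj.hom.hom.app (op V) ⟨e⟩ = M.obj.map v.op m.sec := hrep.w
  rw [yonEquiv_apply] at hw
  let m' : (ofSp M).obj := ⟨V, M.obj.map v.op m.sec⟩
  let p : m' ⟶ m := ⟨v, rfl⟩
  let q : m' ⟶ etaOf E := ⟨e, hw⟩
  refine ⟨m', p, q, fun P hP => RepWith.prop_of_isRep hP hrep, ?_, ?_⟩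
  · intro hE
    let l : V.left ⟶ pullback m.base.hom E.obj.left.hom :=
      pullback.lift v.left e.left ((Over.w v).trans (Over.w e).symm)
    have hl : Mono l := by
      constructor
      intro T f g hfg
      have h1 : f ≫ v.left = g ≫ v.left := by
        have := congrArg (fun k => k ≫ pullback.fst _ _) hfg
        simpa [l] using this
      have h2 : f ≫ e.left = g ≫ e.left := by
        have := congrArg (fun k => k ≫ pullback.snd _ _) hfg
        simpa [l] using this
      have h3 : f ≫ V.hom = g ≫ V.hom := by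
        rw [← Over.w v, ← Category.assoc, h1, Category.assoc]
      let f' : Over.mk (f ≫ V.hom) ⟶ V := Over.homMk f rfl
      let g' : Over.mk (f ≫ V.hom) ⟶ V := Over.homMk g h3.symm
      have h4 : f' = g' := by
        apply hrep.inj
        · exact Over.OverMorphism.ext h1
        · exact congrArg ULift.up (Over.OverMorphism.ext h2 : f' ≫ e = g' ≫ e)
      exact congrArg (fun k => k.left) h4
    have h5 : l ≫ pullback.fst m.base.hom E.obj.left.hom = v.left := pullback.lift_fst _ _ _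
    have h6 : IsSeparated E.obj.left.hom := by
      have : IsSeparated (E.obj.left.hom ≫ terminal.from S) := by
        have h7 : E.obj.left.hom ≫ terminal.from S = terminal.from _ := Subsingleton.elim _ _
        rw [h7]
        infer_instance
      exact IsSeparated.of_comp E.obj.left.hom (terminal.from S)
    have h8 : IsSeparated (l ≫ pullback.fst m.base.hom E.obj.left.hom) := inferInstance
    rw [h5] at h8
    exact h8
  · intro n a b
    have hn : E.obj.hom.hom.app (op n.base) ⟨b.hom⟩ = M.obj.map a.hom.op m.sec := by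
      rw [yonEquiv_apply]
      exact b.map_sec.trans a.map_sec.symm
    obtain ⟨k, hk1, hk2⟩ := hrep.lift a.hom ⟨b.hom⟩ hn
    have hk3 : k ≫ e = b.hom := congrArg ULift.down hk2
    refine ⟨⟨k, ?_⟩, ⟨?_, ?_⟩, ?_⟩
    · change M.obj.map k.op (M.obj.map v.op m.sec) = n.sec
      rw [← map_comp_apply, hk1]
      exact a.map_sec
    · exact Stk.EltObj.hom_ext hk1
    · exact Stk.EltObj.hom_ext hk3
    · rintro c ⟨hc1, hc2⟩
      apply Stk.EltObj.hom_ext
      apply hrep.inj
      · rw [hk1]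
        exact congrArg Stk.EltObj.Hom.hom hc1
      · change (⟨c.hom ≫ e⟩ : ULift _) = ⟨k ≫ e⟩
        rw [hk3]
        exact congrArg ULift.up (congrArg Stk.EltObj.Hom.hom hc2)

/-- The object of `fibCat π (etaOf E)` over `z`. -/
theorem exists_fibObjP (h𝒳 : FibCat.IsFibGrpd 𝒳.p) (π : 𝒳 ⥤ᵇ ofSp M) (E : EtOver M) (z : 𝒳.obj) :
    ∃ (y : FObj π (etaOf E)) (φ : y.pt ⟶ z), K908.Aff.IsTerm (fibPt π (etaOf E)) (w := y) φ ∧
      (∀ P : MorphismProperty Scheme.{u}, P.RespectsIso → RepWith P E.obj.hom → P (bmap 𝒳 φ)) ∧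
      (IsAffine E.obj.left.left → IsSeparated (bmap 𝒳 φ)) := by
  obtain ⟨m', p, q, h1, h2, h4⟩ := exists_prodP E (π.obj z)
  obtain ⟨y, φ, i, hi, hc⟩ := exists_lift_fun h𝒳 isFibGrpd_ofSp π (x := z) p
  have I := baseOver_isIso π i
  have e1 : bmap 𝒳 φ = (baseOver π y i).left ≫ p.hom.left ≫ (eqToHom (π.w_obj z)).left := by
    have h5 : 𝒳.p.map φ = eqToHom (π.w_obj y).symm ≫ (ofSp M).p.map (π.map φ) ≫ eqToHom (π.w_obj z) := by
      rw [K735.Fib.map_map]
      simp
    have h6 : 𝒳.p.map φ = baseOver π y i ≫ p.hom ≫ eqToHom (π.w_obj z) := by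
      rw [h5, ← hc]
      unfold baseOver
      rw [Functor.map_comp, Category.assoc, Category.assoc]
      rfl
    exact congrArg (fun k => k.left) h6
  have I' : IsIso (eqToHom (π.w_obj z)).left := by
    have : IsIso ((Over.forget S).map (eqToHom (π.w_obj z))) := inferInstance
    exact this
  refine ⟨⟨y, i ≫ q⟩, φ, ?_, ?_, ?_⟩
  · intro θ β
    obtain ⟨c, ⟨hc1, hc2⟩, hc3⟩ := h4 (π.obj θ.pt) (π.map β) θ.arr
    obtain ⟨χ, ⟨hχ1, hχ2⟩, hχ3⟩ := existsUnique_hom_over h𝒳 isFibGrpd_ofSp π φ β (c ≫ inv i) (by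
      rw [Category.assoc, ← hc, IsIso.inv_hom_id_assoc, hc1])
    refine ⟨⟨χ, ?_⟩, hχ1, ?_⟩
    · change π.map χ ≫ i ≫ q = θ.arr
      rw [hχ2, Category.assoc, IsIso.inv_hom_id_assoc, hc2]
    · intro χ' hχ'
      refine FObj.hom_ext (hχ3 χ'.hom ⟨hχ', ?_⟩)
      have h7 := hc3 (π.map χ'.hom ≫ i) ⟨by
        rw [Category.assoc, hc, ← Functor.map_comp]
        exact congrArg (fun k => π.map k) hχ', by
        rw [Category.assoc]
        exact χ'.comm⟩
      rw [← h7, Category.assoc, IsIso.hom_inv_id, Category.comp_id]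
  · intro P hP hEP
    have h6 := h1 P hEP
    rw [e1]
    exact (MorphismProperty.cancel_left_of_respectsIso P _ _).2
      ((MorphismProperty.cancel_right_of_respectsIso P _ _).2 h6)
  · intro hE
    have := h2 hE
    rw [e1]
    infer_instance

/-- Affine presentations of `z ×_M E`. -/
theorem nonempty_pres_fibPt (h𝒳 : FibCat.IsFibGrpd 𝒳.p) (π : 𝒳 ⥤ᵇ ofSp M) (E : EtOver M)
    (hE : IsAffine E.obj.left.left) (hq : RepWith @QuasiCompact E.obj.hom) {z : 𝒳.obj}
    (hz : IsAffine (sch 𝒳 z)) : Nonempty (Pres (fibCat (fibPt π (etaOf E)) z)) := by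
  obtain ⟨y, φ, h1, h2, h3⟩ := exists_fibObjP h𝒳 π E z
  have h5 := h3 hE
  have h6 : QuasiCompact (bmap 𝒳 φ) := h2 @QuasiCompact inferInstance hq
  have h7 : FibCat.IsFibGrpd (fibCat π (etaOf E)).p := isFibGrpd_fibCat h𝒳
  exact K907.PresTerm.nonempty_pres_of_terminal (𝒳 := fibCat (fibPt π (etaOf E)) z) (isFibGrpd_fibCat h7)
    (⟨y, φ⟩ : FObj (fibPt π (etaOf E)) z) (K907.PresTerm.terminal_of_isTerm h1) (V := sch 𝒳 z) (bmap 𝒳 φ)

/-- Flat base change for `𝒳_E ⟶ 𝒳`. -/
theorem flBC_of_qc (h𝒳 : FibCat.IsFibGrpd 𝒳.p) (π : 𝒳 ⥤ᵇ ofSp M) (E : EtOver M)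
    (hE : IsAffine E.obj.left.left) (hq : RepWith @QuasiCompact E.obj.hom) : L1g.FlBC π E := by
  intro F z' z g hz' hz hg
  obtain ⟨P⟩ := nonempty_pres_fibPt h𝒳 π E hE hq hz
  exact FBC.relBC_of_pres (isFibGrpd_fibCat h𝒳) h𝒳 g hz hz' hg P F

/-- Étale schemes over a quasi-separated space over a quasi-separated base: the structure maps are quasi-compact. -/
theorem repWith_quasiCompact_of_qs [QuasiSeparatedSpace S] (hM : IsQuasiSeparatedSp M) (E : EtOver M)
    (hE : IsAffine E.obj.left.left) : RepWith @QuasiCompact E.obj.hom := by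
  have : CompactSpace E.obj.left.left := inferInstance
  have hq : QuasiCompact E.obj.left.hom := inferInstance
  exact K618.QCPoint.repWith_quasiCompact_of_qs hM hq E.obj.hom

/-- Étale affine schemes over a quasi-separated scheme. -/
theorem repWith_quasiCompact_of_sch {M₀ : Over S} [QuasiSeparatedSpace M₀.left] (E : EtOver ((yon S).obj M₀))
    (hE : IsAffine E.obj.left.left) : RepWith @QuasiCompact E.obj.hom := by
  obtain ⟨e, he⟩ := (yon S).map_surjective E.obj.hom
  rw [← he]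
  have : CompactSpace E.obj.left.left := inferInstance
  exact (repWith_yon_map_iff @QuasiCompact e).2 inferInstance

/-- Global sections are exact on `𝒳_E`. -/
theorem exact_fibCat (h𝒳 : FibCat.IsFibGrpd 𝒳.p) (A₀ : SmAtlas 𝒳) (π : 𝒳 ⥤ᵇ ofSp M) (hπ : IsCohAffine π)
    (E : EtOver M) (hE : IsAffine E.obj.left.left) (hq : RepWith @QuasiCompact E.obj.hom) :
    Exact (fibCat π (etaOf E)) := fun F G u hu =>
  L1g.surjective_globSectMap_of_atlas h𝒳 π E hE (flBC_of_qc h𝒳 π E hE hq) A₀ hπ u hu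

/-- Global sections are exact on `𝒳_E` for `M` quasi-separated. -/
theorem exact_fibCat_of_qs [QuasiSeparatedSpace S] {𝒳 : AlgSt.Cat S} {K : Precoverage Scheme.{u}}
    (h𝒳 : IsAlgStack K 𝒳) (hM : IsQuasiSeparatedSp M) (π : 𝒳 ⥤ᵇ ofSp M) (hπ : IsCohAffine π)
    (E : EtOver M) (hE : IsAffine E.obj.left.left) : Exact (fibCat π (etaOf E)) := by
  obtain ⟨A₀⟩ := nonempty_smAtlas h𝒳.isStack.1 h𝒳.atlas
  exact exact_fibCat h𝒳.isStack.1 A₀ π hπ E hE (repWith_quasiCompact_of_qs hM E hE)

end K906.ExactE
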