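import Groth.Agent.StMod.K907.GoodE
import Groth.Agent.StMod.K906.BaseCh
import Groth.Agent.StMod.K906.PresQc
import Groth.Agent.AlgSp.K596.QC

/-!
# Good moduli spaces: surjectivity on points over affine étale charts, quasi-compactness

* `mem_of_map_mem` : `I B ∩ A = I` for `A → B` the functions of an affine étale `E` and of a covering object of `𝒳_E`;
* `surjective_fbase` : the morphism from a covering object of `𝒳_E` to `E` is surjective;
* `isQuasiCompactSp_of_good` : a good moduli space of a quasi-compact stack is quasi-compact.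
-/

set_option autoImplicit false
set_option linter.unusedVariables false
set_option linter.style.haveILetI false
set_option backward.isDefEq.respectTransparency false
set_option backward.isDefEq.respectTransparency.types false

universe w v u

open CategoryTheory CategoryTheory.Limits AlgebraicGeometry Opposite StMod AlgSt AlgSp

namespace K906.QcM

open K907 K907.Free K906.SpGeo

variable {S : Scheme.{u}} {𝒳 : BasedCategory.{v, w} (Over S)} {M : Sp S}

section Pure

variable {π : 𝒳 ⥤ᵇ ofSp M} {E : EtOver M} (h𝒳 : FibCat.IsFibGrpd 𝒳.p) (hu : UnitIsIso π)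
  (hex : Free.Exact (fibCat π (etaOf E))) (P : Pres (fibCat π (etaOf E)))

include h𝒳 hu hex P in
/-- Ideals of the functions on `E` are contracted from a covering object. -/
theorem mem_of_map_mem {y : (fibCat π (etaOf E)).obj} (hy : IsAffine (sch (fibCat π (etaOf E)) y)) (hc : Cov1 y)
    (I : Ideal Γ(sch (ofSp M) (etaOf E), ⊤)) (a : Γ(sch (ofSp M) (etaOf E), ⊤))
    (ha : (fbase y).left.appTop.hom a ∈ I.map (fbase y).left.appTop.hom) : a ∈ I := by
  let N : Submodule Γ(sch (ofSp M) (etaOf E), ⊤) (Mod.RelSect π (OQ 𝒳).obj (etaOf E)) :=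
    Submodule.map (unitSect π (etaOf E)) I
  let T : Submodule Γ(sch 𝒳 (FObj.pt y), ⊤) Γ((OQ 𝒳).obj.obj (FObj.pt y), ⊤) :=
    Submodule.span Γ(sch 𝒳 (FObj.pt y), ⊤) ((fun n : Mod.RelSect π (OQ 𝒳).obj (etaOf E) =>
      n.1 (FObj.pt y) (FObj.arr y)) '' (N : Set (Mod.RelSect π (OQ 𝒳).obj (etaOf E))))
  have h2 : ∀ b ∈ I.map (fbase y).left.appTop.hom, (show Γ((OQ 𝒳).obj.obj (FObj.pt y), ⊤) from b) ∈ T := by
    intro b hb
    refine Submodule.span_induction (p := fun b _ => (show Γ((OQ 𝒳).obj.obj (FObj.pt y), ⊤) from b) ∈ T)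
      ?_ ?_ ?_ ?_ hb
    · rintro _ ⟨i, hi, rfl⟩
      exact Submodule.subset_span ⟨unitSect π (etaOf E) i, ⟨i, hi, rfl⟩, rfl⟩
    · exact T.zero_mem
    · intro b c _ _ h3 h4
      exact T.add_mem h3 h4
    · intro r b _ h3
      exact T.smul_mem r h3
  have h1 : unitSect π (etaOf E) a ∈ N :=
    GM.mem_of_mem_span h𝒳 hu hex P (F := OQ 𝒳) N (unitSect π (etaOf E) a) hy hc (h2 _ ha)
  obtain ⟨b, hb, hab⟩ := h1
  have := (hu E).1 hab
  rwa [← this]

include h𝒳 hu hex P in
/-- The morphism from a covering object of `𝒳_E` to `E` is surjective. -/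
theorem surjective_fbase (hE : IsAffine E.obj.left.left) {y : (fibCat π (etaOf E)).obj}
    (hy : IsAffine (sch (fibCat π (etaOf E)) y)) (hc : Cov1 y) : Function.Surjective (fbase y).left := by
  intro x
  let X : Scheme.{u} := sch (ofSp M) (etaOf E)
  let Y : Scheme.{u} := sch 𝒳 (FObj.pt y)
  let g : Y ⟶ X := (fbase y).left
  have iX : IsAffine X := hE
  have iY : IsAffine Y := hy
  let p : PrimeSpectrum Γ(X, ⊤) := X.isoSpec.hom x
  obtain ⟨q, hq⟩ := (PrimeSpectrum.mem_range_comap_iff (f := g.appTop.hom) (p := p)).2 (by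
    apply le_antisymm
    · intro a ha
      exact mem_of_map_mem h𝒳 hu hex P hy hc p.asIdeal a ha
    · exact Ideal.le_comap_map)
  refine ⟨Y.isoSpec.inv q, ?_⟩
  have h2 : X.isoSpec.hom (g (Y.isoSpec.inv q)) = X.isoSpec.hom x := by
    have h3 := congrArg (fun t : Y ⟶ Spec Γ(X, ⊤) => t (Y.isoSpec.inv q)) (Scheme.isoSpec_hom_naturality g)
    simp only [Scheme.Hom.comp_apply] at h3
    rw [← h3]
    have h4 : Y.isoSpec.hom (Y.isoSpec.inv q) = q := by simp
    rw [h4]
    exact hq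
  exact (X.isoSpec.hom.homeomorph).injective h2

end Pure

/-- Points of an algebraic space lie on affine étale charts. -/
theorem exists_et_pt (hM : IsAlgSpace M) (m : Points M) : ∃ (E : EtOver M) (e : ↥E.obj.left.left),
    IsAffine E.obj.left.left ∧ Points.ofPt E.obj.hom e = m := by
  obtain ⟨U, p, hp1, hp2⟩ := hM.atlas
  obtain ⟨u, rfl⟩ := K609.Points.surjective_ofPt_of_repWith_surjective hp2 m
  obtain ⟨V, j, E, k, h1, h2, ⟨v, hv⟩, h4, h5⟩ := BaseCh.exists_et_factor hM p u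
  refine ⟨E, k.left v, h4, ?_⟩
  rw [← K609.Points.ofPt_yon_map_comp, ← h5, K609.Points.ofPt_yon_map_comp, hv]

/-- The points of `M` under an object of `𝒳`. -/
theorem ofPt_toMap_of_hom {π : 𝒳 ⥤ᵇ ofSp M} {y z : 𝒳.obj} (d : y ⟶ z) (w : ↥(π.obj y).base.left) :
    Points.ofPt (toMap (π.obj y)) w = Points.ofPt (toMap (π.obj z)) ((π.map d).hom.left w) := by
  rw [← K609.Points.ofPt_yon_map_comp, toMap_comp]

/-- Points of `M` under the arrow of a pair. -/
theorem exists_ofPt_of_fbase {π : 𝒳 ⥤ᵇ ofSp M} {E : EtOver M} (y : FObj π (etaOf E)) (w : ↥(sch 𝒳 y.pt)) :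
    ∃ w' : ↥(π.obj y.pt).base.left, Points.ofPt (toMap (π.obj y.pt)) w' = Points.ofPt E.obj.hom ((fbase y).left w) := by
  refine ⟨(eqToHom (π.w_obj y.pt).symm).left w, ?_⟩
  have h1 : (fbase y).left = (eqToHom (π.w_obj y.pt).symm).left ≫ y.arr.hom.left := rfl
  rw [← toMap_comp y.arr, toMap_etaOf, K609.Points.ofPt_yon_map_comp, h1, Scheme.Hom.comp_apply]
  rfl

/-- A good moduli space of a quasi-compact stack is quasi-compact. -/
theorem isQuasiCompactSp_of_good (h𝒳 : FibCat.IsFibGrpd 𝒳.p) (hq : AlgSt.IsQuasiCompact 𝒳) (hM : IsAlgSpace M)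
    (π : 𝒳 ⥤ᵇ ofSp M) (hu : UnitIsIso π)
    (H : ∀ E : EtOver M, IsAffine E.obj.left.left →
      Free.Exact (fibCat π (etaOf E)) ∧ Nonempty (Pres (fibCat π (etaOf E)))) : IsQuasiCompactSp M := by
  obtain ⟨A, hAs, ⟨j₀⟩⟩ := exists_smAtlas_of_isQuasiCompact h𝒳 hq
  let f : (yon S).obj (π.obj (A.Z j₀)).base ⟶ M := toMap (π.obj (A.Z j₀))
  have haff : IsAffine (π.obj (A.Z j₀)).base.left := by
    have h1 : IsAffine (sch 𝒳 (A.Z j₀)) := A.affine j₀
    have h2 : (π.obj (A.Z j₀)).base = 𝒳.p.obj (A.Z j₀) := π.w_obj (A.Z j₀)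
    rw [h2]
    exact h1
  have : CompactSpace (Points ((yon S).obj (π.obj (A.Z j₀)).base)) :=
    K609.QC.compactSpace_points (K596.QC.isQuasiCompactSp_yon _)
  refine K596.QC.isQuasiCompactSp_of_surjective hM f ?_ this
  rw [← K609.Points.surjective_ofPt_iff]
  intro m
  obtain ⟨E, e, hE, rfl⟩ := exists_et_pt hM m
  obtain ⟨hex, ⟨P⟩⟩ := H E hE
  obtain ⟨y, hy, hc, j, d, hd⟩ := Chart.exists_chart h𝒳 π E A P
  obtain rfl : j = j₀ := Subsingleton.elim _ _
  obtain ⟨w, rfl⟩ := surjective_fbase h𝒳 hu hex P hE hy hc e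
  obtain ⟨w', hw'⟩ := exists_ofPt_of_fbase (y : FObj π (etaOf E)) w
  refine ⟨(π.map d).hom.left w', ?_⟩
  rw [← hw']
  exact (ofPt_toMap_of_hom d w').symm

end K906.QcM
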