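import Groth.Agent.StMod.K907.FlatRow
import Groth.Agent.StMod.K907.GoodE

/-!
# Good moduli spaces of stacks locally of finite type over a noetherian scheme

* `exists_lft_chart` : a smooth atlas locally of finite type over the base;
* `exists_lft_cov` : an affine covering object of `𝒳_E` locally of finite type over the base;
* `isNoetherian_of_lft` : sections of finite type modules over affine étale `E` are noetherian.
-/

set_option autoImplicit false
set_option linter.unusedVariables false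
set_option linter.style.haveILetI false
set_option backward.isDefEq.respectTransparency false
set_option backward.isDefEq.respectTransparency.types false

universe u

open CategoryTheory CategoryTheory.Limits AlgebraicGeometry Opposite StMod AlgSt AlgSp

namespace K906.FinT

open K906 K906.Span K907.Sec K907.Atl K907.Free K907.Gen K907.Tens K907.QDesc K907.ResPt K907.Alg K734.Fib K907.GM
  K907

variable {S : Scheme.{u}}

theorem exists_lft_chart {𝒳 : AlgSt.Cat S} (hft : LocQ (LocP @LocallyOfFiniteType) (FibCat.toSelf 𝒳)) :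
    ∃ (U : Over S) (x : FibCat.overCat U ⥤ᵇ 𝒳), RepByAlgSpWith (LocP @Smooth) x ∧
      RepByAlgSpWith IsSurjectiveMor x ∧ LocallyOfFiniteType U.hom := by
  obtain ⟨U, V, x, y, h, α, h1, h2, h3, h4⟩ := hft
  refine ⟨U, x, h1, h2, ?_⟩
  have h5 : LocallyOfFiniteType h.left := locP_yon_map h4
  have h6 := smooth_hom_of_rep y h3
  rw [← Over.w h]
  infer_instance

section

variable {𝒳 : AlgSt.Cat S} {M : Sp S} (h𝒳 : IsAlgStack Scheme.fppfPrecoverage 𝒳) {π : 𝒳 ⥤ᵇ ofSp M}

include h𝒳 in
/-- Covering objects locally of finite type over the base. -/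
theorem exists_lft_cov {U : Over S} (x : FibCat.overCat U ⥤ᵇ 𝒳) (h1 : RepByAlgSpWith (LocP @Smooth) x)
    (h2 : RepByAlgSpWith IsSurjectiveMor x) (hU : LocallyOfFiniteType U.hom) (E : EtOver M)
    (P : Pres (fibCat π (etaOf E))) :
    ∃ y : (fibCat π (etaOf E)).obj, IsAffine (sch (fibCat π (etaOf E)) y) ∧ Cov1 y ∧
      LocallyOfFiniteType (𝒳.p.obj (FObj.pt y)).hom := by
  obtain ⟨A, hA⟩ := Chart.exists_smAtlas_etale h𝒳.isStack.1 x h1 h2
  obtain ⟨y, hy, hc, j, d, hd⟩ := Chart.exists_chart h𝒳.isStack.1 π E A P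
  refine ⟨y, hy, hc, ?_⟩
  obtain ⟨c, hc'⟩ := hA j
  have e : 𝒳.p.obj (x.obj (one U)) ≅ U := eqToIso (x.w_obj (one U))
  haveI := Span.isIso_left e
  have h3 : LocallyOfFiniteType (𝒳.p.obj (x.obj (one U))).hom := by
    rw [← Over.w e.hom]
    infer_instance
  have h4 : LocallyOfFiniteType (𝒳.p.obj (A.Z j)).hom := by
    rw [← Over.w (𝒳.p.map c)]
    have : LocallyOfFiniteType (𝒳.p.map c).left := inferInstanceAs (LocallyOfFiniteType (bmap 𝒳 c))
    infer_instance
  rw [← Over.w (𝒳.p.map d)]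
  have : LocallyOfFiniteType (𝒳.p.map d).left := inferInstanceAs (LocallyOfFiniteType (bmap 𝒳 d))
  infer_instance

include h𝒳 in
/-- Sections of finite type modules over an affine étale `E` are noetherian. -/
theorem isNoetherian_of_lft [IsNoetherian S] (hft : LocQ (LocP @LocallyOfFiniteType) (FibCat.toSelf 𝒳))
    (E : EtOver M) (P : Pres (fibCat π (etaOf E))) (hu : UnitIsIso π) (hex : Free.Exact (fibCat π (etaOf E)))
    (F : QCoh 𝒳) (hF : F.obj.IsFinType) :
    _root_.IsNoetherian Γ(sch (ofSp M) (etaOf E), ⊤) (Mod.RelSect π F.obj (etaOf E)) := by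
  obtain ⟨U, x, h1, h2, hU⟩ := exists_lft_chart hft
  obtain ⟨y, hy, hc, hyS⟩ := exists_lft_cov h𝒳 x h1 h2 hU E P
  haveI : IsLocallyNoetherian (sch 𝒳 (FObj.pt y)) :=
    LocallyOfFiniteType.isLocallyNoetherian (𝒳.p.obj (FObj.pt y)).hom
  haveI : IsAffine (sch 𝒳 (FObj.pt y)) := hy
  haveI hn : IsNoetherianRing Γ(sch 𝒳 (FObj.pt y), ⊤) :=
    IsLocallyNoetherian.component_noetherian ⟨⊤, isAffineOpen_top _⟩
  haveI : Module.Finite Γ(sch 𝒳 (FObj.pt y), ⊤) Γ(F.obj.obj (FObj.pt y), ⊤) :=
    Groth.Agent.CohqA.FinSec.finite_sections (@isAffineOpen_top _ hy) (F.property.2 _) (hF _)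
  exact isNoetherian_relSect h𝒳.isStack.1 hu hex P hy hc inferInstance

end

end K906.FinT
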