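import Groth.Agent.StMod.K906.PureSub
import Groth.Agent.StMod.K906.FinT

/-!
# Purity of the functions on a good moduli space

* `pure_of_cov1` : the functions on an exact stack are a pure subring of the functions on a covering object;
* `lft_hom` : a good moduli space of a stack locally of finite type over a noetherian scheme is locally of finite type.
-/

set_option autoImplicit false
set_option linter.unusedVariables false
set_option linter.style.haveILetI false
set_option backward.isDefEq.respectTransparency false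
set_option backward.isDefEq.respectTransparency.types false

universe w' v' w v u

open CategoryTheory CategoryTheory.Limits AlgebraicGeometry Opposite StMod TensorProduct

namespace K906.PureSub

section Algebra

/-- Reduction of purity to spans of kernels of presentations. -/
theorem pure_of_span {A B : Type u} [CommRing A] [CommRing B] [Algebra A B]
    (H : ∀ (N : Type u) (K : Submodule A (N →₀ A)) (n : N),
      Finsupp.single n (1 : B) ∈ Submodule.span B
        (Set.range fun k : K => (k.1.mapRange (algebraMap A B) (map_zero _) : N →₀ B)) →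
      Finsupp.single n (1 : A) ∈ K) : Pure A B := by
  classical
  intro N _ _ n hn
  let q : (N →₀ A) →ₗ[A] N := Finsupp.linearCombination A id
  let K : Submodule A (N →₀ A) := LinearMap.ker q
  let φ : (N →₀ A) →ₗ[A] (N →₀ B) := Finsupp.mapRange.linearMap (Algebra.linearMap A B)
  let L : Submodule B (N →₀ B) := Submodule.span B
    (Set.range fun k : K => (k.1.mapRange (algebraMap A B) (map_zero _) : N →₀ B))
  let p : (N →₀ B) →ₗ[B] ((N →₀ B) ⧸ L) := L.mkQ
  have hq : Function.Surjective q := fun m => ⟨Finsupp.single m 1, by simp [q]⟩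
  have hK : K ≤ LinearMap.ker ((p.restrictScalars A).comp φ) := by
    intro k hk
    rw [LinearMap.mem_ker]
    change p (φ k) = 0
    rw [Submodule.mkQ_apply, Submodule.Quotient.mk_eq_zero]
    exact Submodule.subset_span ⟨⟨k, hk⟩, rfl⟩
  let f : N →ₗ[A] ((N →₀ B) ⧸ L) :=
    (K.liftQ ((p.restrictScalars A).comp φ) hK).comp (q.quotKerEquivOfSurjective hq).symm.toLinearMap
  have hf : f n = p (Finsupp.single n 1) := by
    have h1 : (q.quotKerEquivOfSurjective hq).symm n = Submodule.Quotient.mk (Finsupp.single n (1 : A)) := by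
      rw [LinearEquiv.symm_apply_eq]
      change n = q (Finsupp.single n 1)
      simp [q]
    change (K.liftQ ((p.restrictScalars A).comp φ) hK) ((q.quotKerEquivOfSurjective hq).symm n) = _
    rw [h1]
    change p (φ (Finsupp.single n 1)) = _
    congr 1
    refine (Finsupp.mapRange_single (hf := map_zero (Algebra.linearMap A B))).trans ?_
    change Finsupp.single n (algebraMap A B 1) = _
    rw [map_one]
  have h2 : f.liftBaseChange B ((1 : B) ⊗ₜ[A] n) = 0 := by rw [hn, map_zero]
  rw [LinearMap.liftBaseChange_tmul, one_smul, hf] at h2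
  have h3 : Finsupp.single n (1 : B) ∈ L := (Submodule.Quotient.mk_eq_zero L).1 h2
  have h4 := H N K n h3
  have h5 : q (Finsupp.single n 1) = 0 := h4
  simpa [q] using h5

end Algebra

section Stack

open K906 K907.Sec K907.Atl K907.Free K907.Gen K907.Tens K907.QDesc K907.ResPt K907.Alg

variable {S : Scheme.{u}} {𝒳 : BasedCategory.{v, w} (Over S)} {A : Type u} [CommRing A] (s : Fn A 𝒳)

/-- The functions on an exact stack are a pure subring of the functions on a covering object. -/
theorem pure_of_cov1 (h𝒳 : FibCat.IsFibGrpd 𝒳.p) (hs : IsFn s) (hex : K907.Free.Exact 𝒳) (P : K906.Pres 𝒳) {y : 𝒳.obj}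
    (hy : IsAffine (sch 𝒳 y)) (hc : Cov1 y) :
    @Pure A Γ(sch 𝒳 y, ⊤) _ _ (s.σ y).toAlgebra := by
  letI : Algebra A Γ(sch 𝒳 y, ⊤) := (s.σ y).toAlgebra
  refine pure_of_span fun N K n hn => ?_
  obtain ⟨Q, ⟨e⟩⟩ := exists_free h𝒳 N
  choose sec hsec using fun v : N →₀ A => e.exists_sec s h𝒳 v
  obtain ⟨c, hc'⟩ := exists_linComb' s h𝒳 hs hex P hy hc Q (fun k : K => sec k.1) (sec (Finsupp.single n 1)) (by
    have h1 : ∀ v : N →₀ A, (sec v).1 y = (e.e y hy).symm (v.mapRange (s.σ y) (map_zero _)) := by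
      intro v
      rw [LinearEquiv.eq_symm_apply]
      ext i
      exact hsec v y hy i
    have h2 : (Set.range fun k : K => (sec k.1).1 y) = (e.e y hy).symm.toLinearMap ''
        (Set.range fun k : K => (k.1.mapRange (algebraMap A Γ(sch 𝒳 y, ⊤)) (map_zero _) : N →₀ Γ(sch 𝒳 y, ⊤))) := by
      rw [← Set.range_comp]
      congr 1
      funext k
      exact h1 k.1
    rw [h2, Submodule.span_image]
    refine ⟨Finsupp.single n 1, hn, ?_⟩
    rw [h1, Finsupp.mapRange_single, map_one]
    rfl)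
  have key : Finsupp.single n (1 : A) = c.sum fun k a => a • k.1 := by
    ext i
    apply fn_injective s h𝒳 hs hc
    have h4 := congrArg (fun k : N →₀ Γ(sch 𝒳 y, ⊤) => k i) (congrArg (e.e y hy) (hc' y hy))
    have h5 : e.e y hy ((sec (Finsupp.single n 1)).1 y) i =
      e.e y hy (c.sum (fun k a => (s.σ y a : Γ(sch 𝒳 y, ⊤)) • (sec k.1).1 y)) i := h4
    rw [hsec, Finsupp.sum, map_sum, Finsupp.finsetSum_apply] at h5
    rw [h5, Finsupp.sum, Finsupp.finsetSum_apply, map_sum]
    refine Finset.sum_congr rfl fun k _ => ?_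
    rw [map_smul, Finsupp.smul_apply, hsec, Finsupp.smul_apply]
    exact (map_mul (s.σ y) _ _).symm
  rw [key]
  exact Submodule.sum_mem _ fun k _ => K.smul_mem _ k.2

end Stack

end K906.PureSub

namespace K906.LftGM

open K906 K906.Span K907.Sec K907.Atl K907.Free K907.Gen K907.Tens K907.QDesc K907.ResPt K907.Alg K734.Fib K907.GM
  K907 K906.FinT AlgSt AlgSp

/-- The scheme version of purity. -/
theorem locallyOfFiniteType_of_pure {X Y T : Scheme.{u}} [IsAffine X] [IsAffine Y] [IsNoetherian T]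
    [IsNoetherianRing Γ(X, ⊤)] [IsNoetherianRing Γ(Y, ⊤)] (f : Y ⟶ X)
    (h : @PureSub.Pure Γ(X, ⊤) Γ(Y, ⊤) _ _ f.appTop.hom.toAlgebra) (g : X ⟶ T) (hg : LocallyOfFiniteType (f ≫ g)) :
    LocallyOfFiniteType g := by
  letI : Algebra Γ(X, ⊤) Γ(Y, ⊤) := f.appTop.hom.toAlgebra
  have e : Spec.map (CommRingCat.ofHom (algebraMap Γ(X, ⊤) Γ(Y, ⊤))) ≫ X.isoSpec.inv = Y.isoSpec.inv ≫ f :=
    Scheme.isoSpec_inv_naturality f
  have h1 : LocallyOfFiniteType (X.isoSpec.inv ≫ g) := by
    refine PureSub.locallyOfFiniteType_of_pure h (X.isoSpec.inv ≫ g) ?_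
    have h0 : Spec.map (CommRingCat.ofHom (algebraMap Γ(X, ⊤) Γ(Y, ⊤))) ≫ X.isoSpec.inv ≫ g =
        Y.isoSpec.inv ≫ f ≫ g := by
      rw [← Category.assoc, e, Category.assoc]
    rw [h0]
    infer_instance
  have h2 : g = X.isoSpec.hom ≫ X.isoSpec.inv ≫ g := by rw [Iso.hom_inv_id_assoc]
  rw [h2]
  infer_instance

variable {S : Scheme.{u}} {𝒳 : AlgSt.Cat S} {M : Sp S} (h𝒳 : IsAlgStack Scheme.fppfPrecoverage 𝒳) {π : 𝒳 ⥤ᵇ ofSp M}

include h𝒳 in
/-- Affine étale schemes over the good moduli space are locally of finite type. -/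
theorem lft_hom_of_isAffine [IsNoetherian S] (hft : LocQ (LocP @LocallyOfFiniteType) (FibCat.toSelf 𝒳))
    (hu : UnitIsIso π) (E : EtOver M) (hE : IsAffine E.obj.left.left) (hex : Free.Exact (fibCat π (etaOf E)))
    (P : Pres (fibCat π (etaOf E))) : LocallyOfFiniteType E.obj.left.hom := by
  obtain ⟨U, x, h1, h2, hU⟩ := exists_lft_chart hft
  obtain ⟨y, hy, hc, hyS⟩ := exists_lft_cov h𝒳 x h1 h2 hU E P
  haveI : IsLocallyNoetherian (sch 𝒳 (FObj.pt y)) :=
    LocallyOfFiniteType.isLocallyNoetherian (𝒳.p.obj (FObj.pt y)).hom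
  haveI : IsAffine (sch 𝒳 (FObj.pt y)) := hy
  haveI hn : IsNoetherianRing Γ(sch 𝒳 (FObj.pt y), ⊤) :=
    IsLocallyNoetherian.component_noetherian ⟨⊤, isAffineOpen_top _⟩
  haveI : IsAffine (sch (ofSp M) (etaOf E)) := hE
  have h𝒴 : FibCat.IsFibGrpd (fibCat π (etaOf E)).p := isFibGrpd_fibCat h𝒳.isStack.1
  have hp := PureSub.pure_of_cov1 (fn π E) h𝒴 (isFn π E hu) hex P hy hc
  haveI : IsNoetherianRing Γ(sch (ofSp M) (etaOf E), ⊤) := by
    have hn' : _root_.IsNoetherian Γ(sch 𝒳 (FObj.pt y), ⊤) Γ((OQ 𝒳).obj.obj (FObj.pt y), ⊤) := hn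
    haveI h1 : _root_.IsNoetherian Γ(sch (ofSp M) (etaOf E), ⊤) (Mod.RelSect π (O 𝒳) (etaOf E)) :=
      isNoetherian_relSect h𝒳.isStack.1 hu hex P (F := OQ 𝒳) hy hc hn'
    have h2 : _root_.IsNoetherian Γ(sch (ofSp M) (etaOf E), ⊤) Γ(sch (ofSp M) (etaOf E), ⊤) :=
      isNoetherian_of_injective (unitSect π (etaOf E)) (hu E).1
    exact h2
  exact locallyOfFiniteType_of_pure (X := sch (ofSp M) (etaOf E)) (Y := sch 𝒳 (FObj.pt y)) (fbase y).left hp
    E.obj.left.hom (by
      have h4 : (fbase y).left ≫ E.obj.left.hom = (𝒳.p.obj (FObj.pt y)).hom := Over.w (fbase y)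
      rw [h4]
      exact hyS)

include h𝒳 in
/-- Étale schemes over the good moduli space are locally of finite type. -/
theorem lft_hom [IsNoetherian S] (hft : LocQ (LocP @LocallyOfFiniteType) (FibCat.toSelf 𝒳)) (hu : UnitIsIso π)
    (H : ∀ E : EtOver M, IsAffine E.obj.left.left →
      Free.Exact (fibCat π (etaOf E)) ∧ Nonempty (Pres (fibCat π (etaOf E))))
    (E : EtOver M) : LocallyOfFiniteType E.obj.left.hom := by
  rw [IsZariskiLocalAtSource.iff_of_iSup_eq_top (P := @LocallyOfFiniteType) (fun W : E.obj.left.left.affineOpens => W.1)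
    (iSup_affineOpens_eq_top E.obj.left.left)]
  intro W
  let w : Over.mk (W.1.ι ≫ E.obj.left.hom) ⟶ E.obj.left := Over.homMk W.1.ι
  have hw : RepWith @Etale ((yon S).map w ≫ E.obj.hom) := by
    have : RepWith @Etale ((yon S).map w) := (repWith_yon_map_iff @Etale w).2 (inferInstanceAs (Etale W.1.ι))
    exact (RepWith @Etale).comp_mem _ _ this E.property
  obtain ⟨hex, ⟨P⟩⟩ := H (EtOver.mk ((yon S).map w ≫ E.obj.hom) hw) W.2
  exact lft_hom_of_isAffine h𝒳 hft hu (EtOver.mk ((yon S).map w ≫ E.obj.hom) hw) W.2 hex P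

include h𝒳 in
theorem locP_lft [IsNoetherian S] (hft : LocQ (LocP @LocallyOfFiniteType) (FibCat.toSelf 𝒳)) (hu : UnitIsIso π)
    (H : ∀ E : EtOver M, IsAffine E.obj.left.left →
      Free.Exact (fibCat π (etaOf E)) ∧ Nonempty (Pres (fibCat π (etaOf E))))
    (q : M ⟶ (yon S).obj (Over.mk (𝟙 S))) : LocP @LocallyOfFiniteType q := by
  intro U V a b h ha hb hab
  have h1 : LocallyOfFiniteType U.hom := lft_hom h𝒳 hft hu H (EtOver.mk a ha)
  rw [← Over.w h] at h1
  exact locallyOfFiniteType_of_comp h.left V.hom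

end K906.LftGM
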