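import Groth.Agent.StMod.K906.DiagRep
import Groth.Prelude.Def_AlgSt4
import Mathlib.AlgebraicGeometry.Morphisms.Descent

/-!
# Existence of affine presentations

* `exists_pres_of_spanRep` : an affine smooth surjective `x : (Sch/U) ⟶ 𝒳` whose spans are represented by a
  quasi-compact algebraic space gives `Pres 𝒳`;
* `exists_pres_fibCat` : `Pres (fibCat π η)` from an affine atlas of `fibCat π η` and quasi-separatedness of `π`.
-/

set_option autoImplicit false
set_option backward.isDefEq.respectTransparency false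
set_option backward.isDefEq.respectTransparency.types false

universe w' v' w v u

open CategoryTheory CategoryTheory.Limits AlgebraicGeometry StMod MorphismProperty Opposite AlgSp

namespace K906

open K906.Grpd K906.Span K606.YonSec K734.Fib

variable {S : Scheme.{u}} {𝒳 : BasedCategory.{v, w} (Over S)} {𝒴 : BasedCategory.{v', w'} (Over S)}

/-- An affine chart of a quasi-compact sheaf. -/
theorem exists_affine_chart {F : Sp S} (hF : IsQuasiCompactSp F) :
    ∃ (U : Over S) (p : (yon S).obj U ⟶ F), IsAffine U.left ∧ RepWith @Etale p ∧ RepWith @Surjective p := by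
  obtain ⟨V, p, h1, h2, h3⟩ := hF
  obtain ⟨Y, q, hq1, hq2, hq3⟩ := Scheme.exists_hom_isAffine_of_isZariskiLocalAtSource (P := @Etale) V.left
  let U : Over S := Over.mk (q ≫ V.hom)
  let q' : U ⟶ V := Over.homMk q rfl
  refine ⟨U, (yon S).map q' ≫ p, hq3, ?_, ?_⟩
  · exact K597.etale_comp ((repWith_yon_map_iff _ _).2 hq2) h1
  · exact K597.surjective_comp ((repWith_yon_map_iff _ _).2 hq1) h2

theorem isQuasiCompactSp_yon {T : Over S} (hT : CompactSpace T.left) : IsQuasiCompactSp ((yon S).obj T) := by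
  refine ⟨T, 𝟙 _, ?_, ?_, hT⟩
  · rw [← (yon S).map_id]
    exact K597.etale_map _ (by dsimp; infer_instance)
  · rw [← (yon S).map_id]
    exact K597.surjective_map _ (by dsimp; infer_instance)

theorem isQuasiCompactSp_of_mor {F : Sp S} {T : Over S} (hT : CompactSpace T.left) (q : F ⟶ (yon S).obj T)
    (hq : AlgSp.IsQuasiCompactMor q) : IsQuasiCompactSp F :=
  hq (IsAlgSpace.yon_obj T) (isQuasiCompactSp_yon hT) (𝟙 _) (𝟙 _) q (IsPullback.of_vert_isIso ⟨by simp⟩).flip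

/-- Lifting spans over affine objects to an affine chart. -/
theorem exists_lift_chart (h : FibCat.IsFibGrpd 𝒳.p) {ζ ζ' : 𝒳.obj} {F : Sp S} (R : SpanRep ζ ζ' F) {ρ : 𝒳.obj}
    {s : ρ ⟶ ζ} {t : ρ ⟶ ζ'} (he : RepWith @Etale (ofSec (R.sec s t))) (hs : RepWith @Surjective (ofSec (R.sec s t)))
    (z : 𝒳.obj) (a : z ⟶ ζ) (b : z ⟶ ζ') (hz : IsAffine (sch 𝒳 z)) :
    ∃ (z' : 𝒳.obj) (f : z' ⟶ z) (e : z' ⟶ ρ), IsAffine (sch 𝒳 z') ∧ Etale (bmap 𝒳 f) ∧ Surjective (bmap 𝒳 f) ∧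
      e ≫ s = f ≫ a ∧ e ≫ t = f ≫ b := by
  obtain ⟨W, m, n, sq, hn⟩ := K597.exists_sq2 he (ofSec (R.sec a b))
  have hns : Surjective n.left := K597.repWith_prop hs sq
  have hz' : IsAffine (𝒳.p.obj z).left := hz
  obtain ⟨W', j, hW', hj, hjs⟩ := SchFac.exists_affine_refine n.left n.left.isOpenMap hns
  have hg : Etale (j ≫ n.left) := inferInstance
  obtain ⟨z', φ, ez, hφ⟩ := Grpd.exists_lift_sch h z (j ≫ n.left)
  have hz0 : (𝒳.p.obj z').hom = ez.hom ≫ (j ≫ n.left) ≫ (𝒳.p.obj z).hom := by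
    rw [← Over.w (𝒳.p.map φ)]
    change bmap 𝒳 φ ≫ (𝒳.p.obj z).hom = _
    rw [hφ, Category.assoc]
  let k₂ : 𝒳.p.obj z' ⟶ W := Over.homMk (ez.hom ≫ j) (by
    change (ez.hom ≫ j) ≫ W.hom = (𝒳.p.obj z').hom
    rw [hz0]
    simp only [Category.assoc]
    rw [Over.w n])
  have h2 : k₂ ≫ n = 𝒳.p.map φ := by
    apply Over.OverMorphism.ext
    change (ez.hom ≫ j) ≫ n.left = bmap 𝒳 φ
    rw [hφ]
    simp
  obtain ⟨ψ, -, hψ2, hψ3⟩ := R.full s t (φ ≫ a) (φ ≫ b) (k₂ ≫ m) (by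
    apply ofSec_injective
    rw [← map_comp_ofSec, ← R.map, ← map_comp_ofSec, Functor.map_comp, Category.assoc, sq.w, ← Category.assoc,
      ← Functor.map_comp, h2])
  refine ⟨z', φ, ψ, IsAffine.of_isIso ez.hom, ?_, ?_, hψ2, hψ3⟩
  · rw [hφ]; infer_instance
  · rw [hφ]; infer_instance

/-- An affine atlas with quasi-compact fibre product gives an affine presentation. -/
theorem exists_pres_of_spanRep (h : FibCat.IsFibGrpd 𝒳.p) {U : Over S} (hU : IsAffine U.left)
    {x : FibCat.overCat U ⥤ᵇ 𝒳} (h1 : AlgSt.RepByAlgSpWith (LocP @Smooth) x)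
    (h2 : AlgSt.RepByAlgSpWith IsSurjectiveMor x) {F : Sp S} (R : SpanRep (x.obj (one U)) (x.obj (one U)) F)
    (hF : IsQuasiCompactSp F) : ∃ P : Pres 𝒳, P.ζ = x.obj (one U) := by
  obtain ⟨V, c, hV, hc, hcs⟩ := exists_affine_chart hF
  obtain ⟨ρ, s, t, e, hρ⟩ := R.exists_span (K606.YonSec.sec c)
  subst e
  rw [ofSec_sec, eqToHom_refl, CategoryTheory.Functor.map_id, Category.id_comp] at hρ
  rw [← hρ] at hc hcs
  have H := R.spanWith_of_repWith h s t hc
  have hζ : IsAffine (sch 𝒳 (x.obj (one U))) := by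
    have : IsIso (eqToHom (x.w_obj (one U)) : 𝒳.p.obj (x.obj (one U)) ⟶ U).left :=
      isIso_left (eqToIso (x.w_obj (one U)))
    exact IsAffine.of_isIso (eqToHom (x.w_obj (one U)) : 𝒳.p.obj (x.obj (one U)) ⟶ U).left
  exact ⟨⟨x.obj (one U), ρ, s, t, hζ, hV, H, smooth_of_spanWith h h1 H, smooth_of_spanWith h h1 H.swap,
    exists_cover h h1 h2, fun z a b hz => exists_lift_chart h R hc hcs z a b hz⟩, rfl⟩

/-- Existence of an affine presentation of `fibCat π η` for `π` quasi-separated, from an affine atlas. -/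
theorem exists_pres_fibCat (h : FibCat.IsFibGrpd 𝒳.p) (h' : FibCat.IsFibGrpd 𝒴.p) {π : 𝒳 ⥤ᵇ 𝒴} {η : 𝒴.obj}
    (hη : IsAffine (sch 𝒴 η)) (hqs : AlgSt.IsQuasiSeparatedMor π) (hqc : AlgSt.IsQuasiCompact (fibCat π η)) :
    Nonempty (Pres (fibCat π η)) := by
  obtain ⟨U, x, hU, h1, h2⟩ := hqc
  have hU' : IsAffine (sch (fibCat π η) (x.obj (one U))) := by
    have : IsIso (eqToHom (x.w_obj (one U)) : (fibCat π η).p.obj (x.obj (one U)) ⟶ U).left :=
      isIso_left (eqToIso (x.w_obj (one U)))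
    exact IsAffine.of_isIso (eqToHom (x.w_obj (one U)) : (fibCat π η).p.obj (x.obj (one U)) ⟶ U).left
  obtain ⟨F, T, q, f, g, hq, sq, ⟨R⟩⟩ := exists_spanRep_diag h h' hqs (x.obj (one U)) (x.obj (one U))
  have hT : IsAffine T.left := SchFac.isAffine_of_isPullback (sq.map (Over.forget S)) hU' hU' hη
  obtain ⟨P, -⟩ := exists_pres_of_spanRep (isFibGrpd_fibCat h) hU h1 h2 R
    (isQuasiCompactSp_of_mor inferInstance q hq.1)
  exact ⟨P⟩

end K906
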