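import Groth.Agent.StMod.K906.Sect
import Groth.Agent.StMod.K908.Push

/-!
# Flat base change for sections of pushforwards

`π : 𝒳 ⥤ᵇ 𝒴`, `η : 𝒴.obj` affine, `P : Pres (fibCat π η)`, `F : QCoh 𝒳` (namespace `K906.FBC`):

* `Sec F a` : sections of `F` over a pair `a : FObj π η` as a `Γ(η)`-module, `resL` its restriction maps;
* `isBC_bc` : restriction to the base change of an affine pair is a base change of modules;
* `secMod P F ≃ₗ RelSect π F η` (`secEquiv`), in the universe of the base scheme;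
* `relBC_of_pres` : for `g : η' ⟶ η` FLAT between affine objects, restriction `RelSect π F η → RelSect π F η'` is a base change.
-/

set_option autoImplicit false
set_option linter.unusedVariables false
set_option linter.style.haveILetI false
set_option backward.isDefEq.respectTransparency false
set_option backward.isDefEq.respectTransparency.types false

universe t w' v' w v u

open CategoryTheory CategoryTheory.Limits AlgebraicGeometry Opposite StMod
open Groth.Agent.CohqA.BaseChangeMod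

namespace K906.FBC

open K906.Grpd K907.Sec K906.Sect

variable {S : Scheme.{u}} {𝒳 : BasedCategory.{v, w} (Over S)} {𝒴 : BasedCategory.{v', w'} (Over S)}
  {π : 𝒳 ⥤ᵇ 𝒴} {η : 𝒴.obj}

/-- Sections of `F` over a pair. -/
def Sec (F : Mod 𝒳) (a : FObj π η) : Type u := Γ(F.obj a.pt, ⊤)

noncomputable instance (F : Mod 𝒳) (a : FObj π η) : AddCommGroup (Sec F a) :=
  inferInstanceAs (AddCommGroup Γ(F.obj a.pt, ⊤))

/-- Sections of `F` over a pair as a module over the functions on `η`. -/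
noncomputable instance Sec.instModule (F : Mod 𝒳) (a : FObj π η) : Module Γ(sch 𝒴 η, ⊤) (Sec F a) :=
  Module.compHom Γ(F.obj a.pt, ⊤) (fbase a).left.appTop.hom

theorem Sec.smul_def (F : Mod 𝒳) (a : FObj π η) (r : Γ(sch 𝒴 η, ⊤)) (x : Sec F a) :
    r • x = (show Γ(F.obj a.pt, ⊤) from (fbase a).left.appTop r • (show Γ(F.obj a.pt, ⊤) from x)) := rfl

/-- Restriction of sections along an arrow of pairs. -/
noncomputable def resL (F : Mod 𝒳) {a b : FObj π η} (f : a ⟶ b) : Sec F b →ₗ[Γ(sch 𝒴 η, ⊤)] Sec F a where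
  toFun x := F.mapTop f.hom x
  map_add' x y := F.mapTop_add f.hom x y
  map_smul' r x := by
    have h1 : (fbase a).left.appTop r = (bmap 𝒳 f.hom).appTop ((fbase b).left.appTop r) := by
      rw [← bmap_fbase f, Scheme.Hom.comp_appTop]
      rfl
    refine (F.mapTop_smul f.hom ((fbase b).left.appTop r) x).trans ?_
    exact congrArg (fun k : Γ(sch 𝒳 a.pt, ⊤) => (show Γ(F.obj a.pt, ⊤) from
      k • (show Γ(F.obj a.pt, ⊤) from F.mapTop f.hom x))) h1.symm

@[simp] theorem resL_apply (F : Mod 𝒳) {a b : FObj π η} (f : a ⟶ b) (x : Sec F b) :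
    resL F f x = F.mapTop f.hom x := rfl

/-- The value of a section of the pushforward at a pair. -/
noncomputable def evL (F : Mod 𝒳) (a : FObj π η) : Mod.RelSect π F η →ₗ[Γ(sch 𝒴 η, ⊤)] Sec F a where
  toFun s := s.1 a.pt a.arr
  map_add' s t := rfl
  map_smul' r s := rfl

@[simp] theorem evL_apply (F : Mod 𝒳) (a : FObj π η) (s : Mod.RelSect π F η) : evL F a s = s.1 a.pt a.arr := rfl

/-- The comparison of sections over a pair and over its base change. -/
noncomputable def bcMap (F : Mod 𝒳) {η' : 𝒴.obj} {g : η' ⟶ η} {a : FObj π η} {b : FObj π η'}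
    (c : (fibMap π g).obj b ⟶ a) : Sec F a →+ Sec F b where
  toFun x := F.mapTop c.hom x
  map_zero' := F.mapTop_zero c.hom
  map_add' x y := F.mapTop_add c.hom x y

@[simp] theorem bcMap_apply (F : Mod 𝒳) {η' : 𝒴.obj} {g : η' ⟶ η} {a : FObj π η} {b : FObj π η'}
    (c : (fibMap π g).obj b ⟶ a) (x : Sec F a) : bcMap F c x = F.mapTop c.hom x := rfl

/-- Restriction of sections to the base change of an affine pair is a base change of modules. -/
theorem isBC_bc (F : QCoh 𝒳) {η' : 𝒴.obj} {g : η' ⟶ η} {a : FObj π η} {b : FObj π η'}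
    (hη : IsAffine (sch 𝒴 η)) (hη' : IsAffine (sch 𝒴 η')) (ha : IsAffine (sch 𝒳 a.pt))
    (c : (fibMap π g).obj b ⟶ a) (hp : IsPullback (𝒳.p.map c.hom) (fbase b) (fbase a) (𝒴.p.map g)) :
    IsBC (bmap 𝒴 g).appTop.hom (bcMap F.obj c) := by
  have hpl := isPullback_left g hp
  haveI := hη
  haveI := hη'
  haveI := ha
  have hb : IsAffine (sch 𝒳 b.pt) := SchFac.isAffine_of_isPullback hpl ha hη' hη
  have hb' : IsAffine (sch 𝒳 ((fibMap π g).obj b).pt) := hb
  haveI e1 : IsAffine (𝒴.p.obj η).left := hη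
  haveI e2 : IsAffine (𝒴.p.obj η').left := hη'
  haveI e3 : IsAffine (𝒳.p.obj a.pt).left := ha
  have hpo := isPushout_appTop_of_isPullback hpl.flip
  letI : Module Γ(sch 𝒳 a.pt, ⊤) (Sec F.obj a) := inferInstanceAs (Module Γ(sch 𝒳 a.pt, ⊤) Γ(F.obj.obj a.pt, ⊤))
  letI : Module Γ(sch 𝒳 b.pt, ⊤) (Sec F.obj b) := inferInstanceAs (Module Γ(sch 𝒳 b.pt, ⊤) Γ(F.obj.obj b.pt, ⊤))
  have h1 : IsBC (ringMap c.hom) (resTop F.obj c.hom) := isBC_resTop F c.hom
  exact K908.BC.isBC_of_isPushout (A := Γ(sch 𝒴 η, ⊤)) (B := Γ(sch 𝒴 η', ⊤)) (A' := Γ(sch 𝒳 a.pt, ⊤))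
    (B' := Γ(sch 𝒳 b.pt, ⊤)) (M := Sec F.obj a) (M' := Sec F.obj b) (fbase a).left.appTop.hom
    (bmap 𝒴 g).appTop.hom (ringMap c.hom) (fbase b).left.appTop.hom hpo (fun _ _ => rfl) (fun _ _ => rfl) h1

section Pres

variable (h𝒳 : FibCat.IsFibGrpd 𝒳.p) (P : Pres (fibCat π η)) (F : QCoh 𝒳)

/-- The difference of the two restrictions. -/
noncomputable def difL : Sec F.obj (P.ζ : FObj π η) →ₗ[Γ(sch 𝒴 η, ⊤)] Sec F.obj (P.ρ : FObj π η) :=
  resL F.obj P.s - resL F.obj P.t

/-- The equalizer of the two restrictions, a small model of the sections of the pushforward. -/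
noncomputable abbrev secMod : Submodule Γ(sch 𝒴 η, ⊤) (Sec F.obj (P.ζ : FObj π η)) := LinearMap.ker (difL P F)

theorem mem_secMod (x : Sec F.obj (P.ζ : FObj π η)) :
    x ∈ secMod P F ↔ resL F.obj P.s x = resL F.obj P.t x := by
  rw [LinearMap.mem_ker, difL, LinearMap.sub_apply, sub_eq_zero]

theorem evL_mem (s : Mod.RelSect π F.obj η) : evL F.obj (P.ζ : FObj π η) s ∈ secMod P F := by
  rw [mem_secMod]
  have e : ∀ {a b : FObj π η} (f : a ⟶ b), resL F.obj f (evL F.obj b s) = evL F.obj a s := by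
    intro a b f
    rw [resL_apply, evL_apply, evL_apply, s.2, f.comm]
  rw [e, e]

/-- Evaluation at the atlas. -/
noncomputable def evP : Mod.RelSect π F.obj η →ₗ[Γ(sch 𝒴 η, ⊤)] secMod P F :=
  (evL F.obj (P.ζ : FObj π η)).codRestrict _ (evL_mem P F)

theorem evP_coe (s : Mod.RelSect π F.obj η) : (evP P F s : Sec F.obj (P.ζ : FObj π η)) = evL F.obj P.ζ s := rfl

include h𝒳 in
theorem evP_bijective : Function.Bijective (evP P F) := by
  constructor
  · intro s t hst
    exact relSect_ext_pres h𝒳 P F (congrArg Subtype.val hst)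
  · rintro ⟨x, hx⟩
    obtain ⟨s, hs⟩ := exists_relSect_pres h𝒳 P F x ((mem_secMod P F x).1 hx)
    exact ⟨s, Subtype.ext hs⟩

/-- Sections of the pushforward over `η` as the equalizer. -/
noncomputable def secEquiv : secMod P F ≃ₗ[Γ(sch 𝒴 η, ⊤)] Mod.RelSect π F.obj η :=
  (LinearEquiv.ofBijective (evP P F) (evP_bijective h𝒳 P F)).symm

theorem evL_secEquiv (x : secMod P F) : evL F.obj P.ζ (secEquiv h𝒳 P F x) = x.1 := by
  have h1 := (LinearEquiv.ofBijective (evP P F) (evP_bijective h𝒳 P F)).apply_symm_apply x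
  exact congrArg Subtype.val h1

end Pres

/-- FLAT BASE CHANGE: for a flat arrow `g : η' ⟶ η` between affine objects, restriction of sections of the pushforward is a base
change. -/
theorem relBC_of_pres (h𝒳 : FibCat.IsFibGrpd 𝒳.p) (h𝒴 : FibCat.IsFibGrpd 𝒴.p) {η' : 𝒴.obj} (g : η' ⟶ η)
    (hη : IsAffine (sch 𝒴 η)) (hη' : IsAffine (sch 𝒴 η')) (hg : Flat (bmap 𝒴 g)) (P : Pres (fibCat π η))
    (F : QCoh 𝒳) : K908.Push.RelBC π F.obj g := by
  obtain ⟨P', cζ, cρ, hs, ht, hζ, hρ⟩ := Pres.exists_bc h𝒳 h𝒴 g hη hη' P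
  haveI := hη
  haveI := hη'
  have hgf : ((bmap 𝒴 g).appTop.hom).Flat := (HasRingHomProperty.iff_of_isAffine (P := @Flat)).1 hg
  have hs' : ∀ x, resL F.obj P'.s (bcMap F.obj cζ x) = bcMap F.obj cρ (resL F.obj P.s x) := by
    intro x
    have e : (fibPt π η').map P'.s ≫ (fibPt π η).map cζ = (fibPt π η).map cρ ≫ (fibPt π η).map P.s :=
      congrArg FObj.Hom.hom hs
    have e1 := F.obj.mapTop_comp ((fibPt π η').map P'.s) ((fibPt π η).map cζ) x
    have e2 := F.obj.mapTop_comp ((fibPt π η).map cρ) ((fibPt π η).map P.s) x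
    rw [e] at e1
    exact e1.symm.trans e2
  have ht' : ∀ x, resL F.obj P'.t (bcMap F.obj cζ x) = bcMap F.obj cρ (resL F.obj P.t x) := by
    intro x
    have e : (fibPt π η').map P'.t ≫ (fibPt π η).map cζ = (fibPt π η).map cρ ≫ (fibPt π η).map P.t :=
      congrArg FObj.Hom.hom ht
    have e1 := F.obj.mapTop_comp ((fibPt π η').map P'.t) ((fibPt π η).map cζ) x
    have e2 := F.obj.mapTop_comp ((fibPt π η).map cρ) ((fibPt π η).map P.t) x
    rw [e] at e1
    exact e1.symm.trans e2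
  have hd : ∀ x, difL P' F (bcMap F.obj cζ x) = bcMap F.obj cρ (difL P F x) := by
    intro x
    rw [difL, difL, LinearMap.sub_apply, LinearMap.sub_apply, map_sub, hs', ht']
  let k : secMod P F →+ secMod P' F :=
    { toFun := fun x => ⟨bcMap F.obj cζ x.1, by
        rw [LinearMap.mem_ker, hd, LinearMap.mem_ker.1 x.2, map_zero]⟩
      map_zero' := Subtype.ext (map_zero _)
      map_add' := fun x y => Subtype.ext (map_add _ _ _) }
  refine ⟨secMod P F, secMod P' F, inferInstance, inferInstance, inferInstance, inferInstance,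
    secEquiv h𝒳 P F, secEquiv h𝒳 P' F, k, ?_, ?_⟩
  · intro x
    apply relSect_ext_pres h𝒳 P' F
    have h1 : evL F.obj P'.ζ (secEquiv h𝒳 P' F (k x)) = bcMap F.obj cζ x.1 := evL_secEquiv h𝒳 P' F (k x)
    refine h1.trans ?_
    have h2 : evL F.obj P.ζ (secEquiv h𝒳 P F x) = x.1 := evL_secEquiv h𝒳 P F x
    rw [← h2]
    change F.obj.mapTop ((fibPt π η).map cζ) ((secEquiv h𝒳 P F x).1 _ _) = (secEquiv h𝒳 P F x).1 _ (_ ≫ g)
    rw [(secEquiv h𝒳 P F x).2]
    exact congrArg ((secEquiv h𝒳 P F x).1 _) (FObj.Hom.comm cζ)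
  · exact SectAlg.isBC_ker hgf (isBC_bc F hη hη' P.affζ cζ hζ) (isBC_bc F hη hη' P.affρ cρ hρ)
      (secMod P F).subtype (difL P F) (secMod P' F).subtype (difL P' F) k (fun x => rfl) hd
      (Submodule.subtype_injective _) (LinearMap.exact_subtype_ker_map _)
      (Submodule.subtype_injective _) (LinearMap.exact_subtype_ker_map _)

end K906.FBC
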