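import Groth.Agent.StMod.K784.ExtQ
import Groth.Agent.StMod.K907.L1

/-!
# Pushforward of a quasi-coherent module along a functor with flat base change

For `p : 𝒴 ⥤ᵇ 𝒳` with flat base change (`K908.Push.RelBC` along flat arrows of affine objects) and an atlas of `𝒳`:

* `relPM p F` : the presheaf `z ↦ RelSect p F z` on the affine objects of `𝒳`, `isBC_relPM`;
* `exists_pushEv` : a quasi-coherent `E` on `𝒳` with natural maps `Γ(E_z) → RelSect p F z`, bijective on the atlas and on all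
  objects flat over it.
-/

set_option autoImplicit false
set_option linter.unusedVariables false
set_option linter.style.haveILetI false
set_option backward.isDefEq.respectTransparency false
set_option backward.isDefEq.respectTransparency.types false

universe t w' v' w v u

open CategoryTheory CategoryTheory.Limits AlgebraicGeometry Opposite StMod

namespace K906.PushFl

open K908.Push K784.PM K784.Geo K784.Tr K908.QSec

variable {S : Scheme.{u}} {𝒳 : BasedCategory.{v, w} (Over S)} {𝒴 : BasedCategory.{v', w'} (Over S)}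

/-- Base change in a small form gives base change in the large form. -/
theorem isBC_of_relBC {p : 𝒴 ⥤ᵇ 𝒳} {F : Mod 𝒴} {ξ' ξ : 𝒳.obj} {φ : ξ' ⟶ ξ} (h : RelBC p F φ) :
    K784.BC.IsBC (bmap 𝒳 φ).appTop.hom (relRes p F φ) := by
  obtain ⟨M, N, _, _, _, _, e, e', f, hf, hbc⟩ := h
  have h1 := (K784.Geo.isBC_iff _ _).1 hbc
  have h2 : K784.BC.IsBC (RingHom.id Γ(sch 𝒳 ξ, ⊤)) e.symm.toAddEquiv.toAddMonoidHom :=
    K784.BC.isBC_of_bijective Function.bijective_id (fun a m => e.symm.map_smul a m) e.symm.bijective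
  have h3 := h2.comp h1
  rw [RingHom.comp_id] at h3
  refine h3.of_equiv e' fun m => ?_
  change e' (f (e.symm m)) = _
  rw [hf, LinearEquiv.apply_symm_apply]

theorem small_of_relBC {p : 𝒴 ⥤ᵇ 𝒳} {F : Mod 𝒴} {ξ' ξ : 𝒳.obj} {φ : ξ' ⟶ ξ} (h : RelBC p F φ) :
    Small.{u} (Mod.RelSect p F ξ) := by
  obtain ⟨M, N, _, _, _, _, e, e', f, hf, hbc⟩ := h
  exact small_of_injective.{u} e.symm.injective

variable (p : 𝒴 ⥤ᵇ 𝒳)

/-- The presheaf of sections of the pushforward on the affine objects. -/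
noncomputable def relPM (F : Mod 𝒴) : PM.{max w' v u} (fa 𝒳) where
  obj z := Mod.RelSect p F z.obj
  grp z := inferInstance
  mod z := inferInstanceAs (Module Γ(sch 𝒳 z.obj, ⊤) (Mod.RelSect p F z.obj))
  map {_ _} φ := relRes p F φ.hom
  map_smul {_ _} φ r m := relRes_smul p F φ.hom r m
  map_id z m := relRes_id p F z.obj m
  map_comp {_ _ _} ψ φ m := relRes_comp p F ψ.hom φ.hom m

/-- Existence of the pushforward for functors with flat base change. -/
theorem exists_pushEv (h𝒳 : FibCat.IsFibGrpd 𝒳.p) (P : FAtlas.{t} 𝒳) (F : QCoh 𝒴)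
    (hBC : ∀ {z' z : 𝒳.obj} (g : z' ⟶ z), IsAffine (sch 𝒳 z') → IsAffine (sch 𝒳 z) → Flat (bmap 𝒳 g) →
      RelBC p F.obj g) :
    ∃ (A : QCoh 𝒳) (E : K907.L1.PushEv p F.obj A.obj), ∀ (z : 𝒳.obj) (hz : IsAffine (sch 𝒳 z)) (j : P.J)
      (b : z ⟶ (P.Z j).obj), Flat (bmap 𝒳 b) → Function.Bijective (E.ev z hz) := by
  have hid : ∀ z : 𝒳.obj, Flat (bmap 𝒳 (𝟙 z)) := fun z => by rw [bmap_id]; infer_instance
  have hs : ∀ j, Small.{u} ((relPM p F.obj).obj (P.Z j)) := fun j =>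
    small_of_relBC (hBC (𝟙 (P.Z j).obj) (P.Z j).property (P.Z j).property (hid _))
  have hH : FC (fun _ => True) (relPM p F.obj) := FC.of_flatCart fun x z φ hφ =>
    isBC_of_relBC (hBC φ.hom x.property z.property ((fl_iff φ).1 hφ))
  obtain ⟨G, ev, h1, h2⟩ := exists_qcoh h𝒳 P (relPM p F.obj) hH (fun _ => trivial)
  refine ⟨G, ⟨fun ξ hξ => (show Γ(G.obj.obj ξ, ⊤) →ₗ[Γ(sch 𝒳 ξ, ⊤)] Mod.RelSect p F.obj ξ from ev ⟨ξ, hξ⟩ trivial),
    fun {ξ' ξ} φ h' h x => ?_⟩, fun z hz j b hb => ?_⟩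
  · exact h1 (x := ⟨ξ', h'⟩) (z := ⟨ξ, h⟩) (ObjectProperty.homMk φ) trivial trivial x
  · exact h2 ⟨z, hz⟩ trivial j (ObjectProperty.homMk b) ((fl_iff _).2 hb)

end K906.PushFl
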