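import Groth.Agent.AlgSt.K743.BC
import Groth.Agent.AlgSt.K735.Prod
import Groth.Agent.AlgSp.K597.Proper
import Groth.Agent.AlgSt.K738.RespIso

/-!
# The diagonal of a morphism to an algebraic space

For `π : 𝒳 ⥤ᵇ 𝒴` with `𝒴` fibred in setoids (arrows of `𝒴` are determined by their images in the base), the diagonal of `π`
is the base change of the diagonal of `𝒳` along the monomorphism `𝒳 ×_𝒴 𝒳 ⟶ 𝒳 × 𝒳`.

* `repByAlgSpWith_diag_of` : `RepByAlgSpWith P (diag 𝒳) ⟹ RepByAlgSpWith P (diag π)`;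
* `repByAlgSpWith_diag` : the form with an affine, locally quasi-finite and quasi-compact diagonal;
* `isSeparatedMor_of_finite` : a morphism with finite diagonal is separated.
-/

set_option autoImplicit false
set_option linter.unusedVariables false
set_option backward.isDefEq.respectTransparency false
set_option backward.isDefEq.respectTransparency.types false

universe w' v' w v u

open CategoryTheory CategoryTheory.Limits AlgebraicGeometry Opposite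

namespace K906.DiagPi

open K743.BC K735.Fib K735.Fp

section Cart

variable {C : Type u} [Category.{v} C] {𝒳 : BasedCategory.{v', w'} C} {𝒴 : BasedCategory.{v, w} C} (π : 𝒳 ⥤ᵇ 𝒴)

/-- `𝒳 ×_𝒴 𝒳 ⟶ 𝒳 × 𝒳`. -/
def toProd : FibCat.fp π π ⥤ᵇ FibCat.fp (FibCat.toSelf 𝒳) (FibCat.toSelf 𝒳) :=
  FibCat.fpLift (FibCat.fpFst π π) (FibCat.fpSnd π π) (K735.Prod.selfIso _ _)

/-- The 2-isomorphism of the square. -/
def diagE : BasedFunctor.comp (FibCat.diag π) (toProd π) ≅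
    BasedFunctor.comp (BasedFunctor.id 𝒳) (FibCat.diag (FibCat.toSelf 𝒳)) :=
  K735.Prod.prodExt (Iso.refl _) (Iso.refl _)

theorem diagE_fst (x : 𝒳.obj) : ((diagE π).hom.toNatTrans.app x).hom.fst = 𝟙 x := rfl

theorem diagE_snd (x : 𝒳.obj) : ((diagE π).hom.toNatTrans.app x).hom.snd = 𝟙 x := rfl

/-- The diagonal of a morphism to a category fibred in setoids is a base change of the diagonal of its source. -/
theorem diag_isCart (hthin : ∀ {a b : 𝒴.obj} (φ ψ : a ⟶ b), 𝒴.p.map φ = 𝒴.p.map ψ → φ = ψ) :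
    IsCart (FibCat.diag π) (FibCat.diag (FibCat.toSelf 𝒳)) (BasedFunctor.id 𝒳) (toProd π) (diagE π) where
  full := ⟨by
    intro x x' φ
    let α : x ⟶ x' := φ.hom.fst.hom.fst
    let β : x ⟶ x' := φ.hom.fst.hom.snd
    let γ : x ⟶ x' := φ.hom.snd
    have w := φ.hom.w
    have w1 : α ≫ 𝟙 x' = 𝟙 x ≫ γ := congrArg (fun t => t.hom.fst) w
    have w2 : β ≫ 𝟙 x' = 𝟙 x ≫ γ := congrArg (fun t => t.hom.snd) w
    rw [Category.comp_id, Category.id_comp] at w1 w2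
    refine ⟨γ, ?_⟩
    apply ObjectProperty.hom_ext
    apply CategoricalPullback.hom_ext
    · apply ObjectProperty.hom_ext
      exact CategoricalPullback.hom_ext w1.symm w2.symm
    · rfl⟩
  faithful := ⟨by
    intro x x' φ ψ h
    exact congrArg (fun t => t.hom.snd) h⟩
  surj := by
    intro ζ
    have hζ := ζ.property
    let x₁ : 𝒳.obj := ζ.obj.fst.obj.fst
    let x₂ : 𝒳.obj := ζ.obj.fst.obj.snd
    let μ₁ : x₁ ≅ ζ.obj.snd := (FibCat.fpFst (FibCat.toSelf 𝒳) (FibCat.toSelf 𝒳)).mapIso ζ.obj.iso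
    let μ₂ : x₂ ≅ ζ.obj.snd := (FibCat.fpSnd (FibCat.toSelf 𝒳) (FibCat.toSelf 𝒳)).mapIso ζ.obj.iso
    have hμ₁ : 𝒳.p.IsHomLift (𝟙 (𝒳.p.obj x₁)) μ₁.hom :=
      @BasedFunctor.preserves_isHomLift _ _ _ _ (FibCat.fpFst (FibCat.toSelf 𝒳) (FibCat.toSelf 𝒳)) _ _ _ _ _ ζ.obj.iso.hom hζ
    have hμ₂ : 𝒳.p.IsHomLift (𝟙 (𝒳.p.obj x₁)) μ₂.hom :=
      @BasedFunctor.preserves_isHomLift _ _ _ _ (FibCat.fpSnd (FibCat.toSelf 𝒳) (FibCat.toSelf 𝒳)) _ _ _ _ _ ζ.obj.iso.hom hζ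
    have v₁ : Vert 𝒳.p μ₁.hom := vert_of_isHomLift hμ₁
    have v₂ : Vert 𝒳.p μ₂.hom := vert_of_isHomLift hμ₂
    have vθ : Vert 𝒴.p ζ.obj.fst.obj.iso.hom := fp_vert ζ.obj.fst
    have key : π.map (𝟙 x₁) ≫ ζ.obj.fst.obj.iso.hom = 𝟙 (π.obj x₁) ≫ π.map (μ₁.hom ≫ μ₂.inv) := by
      rw [CategoryTheory.Functor.map_id, Category.id_comp, Category.id_comp]
      apply hthin
      have v₃ : Vert 𝒴.p (π.map (μ₁.hom ≫ μ₂.inv)) := (v₁.comp v₂.iso_inv).map π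
      rw [vθ.map_eq, v₃.map_eq]
    let i₁ : (FibCat.diag π).obj x₁ ≅ ζ.obj.fst :=
      ObjectProperty.isoMk _ (CategoricalPullback.mkIso (Iso.refl x₁) (μ₁ ≪≫ μ₂.symm) key)
    refine ⟨x₁, ObjectProperty.isoMk _ (CategoricalPullback.mkIso i₁ μ₁ ?_), ?_⟩
    · apply ObjectProperty.hom_ext
      apply CategoricalPullback.hom_ext
      · change 𝟙 _ ≫ μ₁.hom = 𝟙 _ ≫ μ₁.hom
        rfl
      · change (μ₁.hom ≫ μ₂.inv) ≫ μ₂.hom = 𝟙 _ ≫ μ₁.hom
        simp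
    · rw [← BasedFunctor.isHomLift_iff (FibCat.fpFst (toProd π) (FibCat.diag (FibCat.toSelf 𝒳)))]
      rw [← BasedFunctor.isHomLift_iff (FibCat.fpFst π π)]
      change 𝒳.p.IsHomLift (𝟙 (𝒳.p.obj x₁)) (𝟙 x₁)
      exact IsHomLift.id rfl

end Cart

section Sp

open K735.Rep

variable {S : Scheme.{u}} {𝒳 : BasedCategory.{v, w} (Over S)} {M : AlgSp.Sp S} (π : 𝒳 ⥤ᵇ AlgSt.ofSp M)

/-- The diagonal of a morphism to a sheaf is a base change of the diagonal of its source. -/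
theorem repByAlgSpWith_diag_of {P : MorphismProperty (AlgSp.Sp S)}
    (h : AlgSt.RepByAlgSpWith P (FibCat.diag (FibCat.toSelf 𝒳))) : AlgSt.RepByAlgSpWith P (FibCat.diag π) :=
  (diag_isCart π (fun _ _ h => ofSp_hom_ext h)).repByAlgSpWith h

theorem repByAlgSp1_diag_of (h : AlgSt.RepByAlgSp1 (FibCat.diag (FibCat.toSelf 𝒳))) :
    AlgSt.RepByAlgSp1 (FibCat.diag π) :=
  (diag_isCart π (fun _ _ h => ofSp_hom_ext h)).repByAlgSp1 h

end Sp

/-- the diagonal of `π` is a base change of the diagonal over `S`. -/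
theorem repByAlgSpWith_diag {S : Scheme.{u}} {𝒳 : AlgSt.Cat S}
    (h𝒳 : AlgSt.IsAlgStack Scheme.fppfPrecoverage 𝒳) (M : AlgSp.Space S) (π : 𝒳 ⥤ᵇ AlgSt.ofSp M.obj)
    (hd : AlgSt.RepByAlgSpWith AlgSp.IsAffineMor (FibCat.diag (FibCat.toSelf 𝒳)))
    (hΔ : AlgSt.RepByAlgSpWith
      (AlgSp.LocP (@LocallyQuasiFinite ⊓ @LocallyOfFiniteType) ⊓ AlgSp.IsQuasiCompactMor)
      (FibCat.diag (FibCat.toSelf 𝒳))) :
    AlgSt.RepByAlgSpWith
      (AlgSp.LocP (@LocallyQuasiFinite ⊓ @LocallyOfFiniteType) ⊓ AlgSp.IsQuasiCompactMor ⊓ AlgSp.IsSeparatedMor)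
      (FibCat.diag π) := by
  refine repByAlgSpWith_diag_of π (K735.Top.repByAlgSpWith_inf hΔ ?_)
  exact K735.Rep.AlgSt_RepByAlgSpWith_mono (fun _ _ _ h => K597.Proper.isSeparatedMor_of_isAffineMor h) hd

/-- a finite diagonal is proper. -/
theorem isSeparatedMor_of_finite {S : Scheme.{u}} {𝒳 : AlgSt.Cat S}
    (h𝒳 : AlgSt.IsAlgStack Scheme.fppfPrecoverage 𝒳) (M : AlgSp.Space S) (π : 𝒳 ⥤ᵇ AlgSt.ofSp M.obj)
    (h : AlgSt.RepByAlgSpWith AlgSp.IsFiniteMor (FibCat.diag π)) : AlgSt.IsSeparatedMor π := by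
  intro U y
  obtain ⟨F, e, he, hP⟩ := h U y
  exact ⟨F, e, he, ((K597.Proper.isFiniteMor_iff_affine_proper (AlgSp.IsAlgSpace.yon_obj U)).1 hP).2⟩

end K906.DiagPi
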