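import Groth.Agent.StMod.K906.Comap
import Groth.Agent.StMod.K906.ExactE
import Groth.Agent.StMod.K908.AffPush

/-!
# Exactness of global sections along affine functors, and the fibres of `𝒳 ×_𝒴 𝒴' ⟶ 𝒴'`

* `exact_of_isAff` : if `p : 𝒵' ⥤ᵇ 𝒵` is affine (`K908.Aff.IsAff`) and global sections are exact on `𝒵` then they are exact
  on `𝒵'`;
* `toFib π g η' : fibCat (fpFst g π) η' ⥤ᵇ fibCat π (g η')`;
* `isAff_toFib` : for `k : g η' ⟶ η` with `η'`, `η` affine, the functor `fibCat (fpFst g π) η' ⥤ᵇ fibCat π η` is affine;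
* `exact_fibCat_fpFst` and `surjective_relSectMap_of_exact`.
-/

set_option autoImplicit false
set_option linter.unusedVariables false
set_option backward.isDefEq.respectTransparency false
set_option backward.isDefEq.respectTransparency.types false

universe w'' v'' w' v' w v u

open CategoryTheory CategoryTheory.Limits AlgebraicGeometry Opposite TopologicalSpace StMod

namespace K906.AffFp

section Base

variable {S : Scheme.{u}} {𝒵 : BasedCategory.{v, w} (Over S)} {𝒵' : BasedCategory.{v', w'} (Over S)}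

/-- The base as a category over itself. -/
abbrev baseCat (S : Scheme.{u}) : BasedCategory.{u, u + 1} (Over S) where
  obj := Over S
  p := 𝟭 _

variable (𝒵) in
/-- The functor to the base. -/
def toBaseCat : 𝒵 ⥤ᵇ baseCat S where
  toFunctor := 𝒵.p
  w := Functor.comp_id _

theorem surjective_baseCat_iff (q : 𝒵 ⥤ᵇ baseCat S) {F G : Mod 𝒵} (u : F ⟶ G) :
    Function.Surjective (Mod.relSectMap q u (Over.mk (𝟙 S) : Over S)) ↔ Function.Surjective (Mod.globSectMap u) := by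
  have uniq : ∀ {a : Over S} (f g : a ⟶ Over.mk (𝟙 S)), f = g := fun f g => Over.mkIdTerminal.hom_ext f g
  constructor
  · intro h s
    obtain ⟨t, ht⟩ := h ⟨fun ξ _ => s.1 ξ, fun ξ' ξ φ _ => s.2 φ⟩
    refine ⟨⟨fun ξ => t.1 ξ (Over.mkIdTerminal.from _), fun ξ' ξ φ => ?_⟩, ?_⟩
    · refine (t.2 φ (Over.mkIdTerminal.from _)).trans ?_
      exact congrArg (t.1 ξ') (uniq _ _)
    · apply Mod.GlobSect.ext
      intro ξ
      exact congrArg (fun k => k.1 ξ (Over.mkIdTerminal.from _)) ht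
  · intro h s
    obtain ⟨t, ht⟩ := h ⟨fun ξ => s.1 ξ (Over.mkIdTerminal.from _), fun ξ' ξ φ => by
      refine (s.2 φ (Over.mkIdTerminal.from _)).trans ?_
      exact congrArg (s.1 ξ') (uniq _ _)⟩
    refine ⟨⟨fun ξ _ => t.1 ξ, fun ξ' ξ φ _ => t.2 φ⟩, ?_⟩
    apply Mod.RelSect.ext
    intro ξ α
    refine (congrArg (fun k => k.1 ξ) ht).trans ?_
    exact congrArg (s.1 ξ) (uniq _ _)

/-- Exactness of global sections passes to affine functors. -/
theorem exact_of_isAff (hZ : FibCat.IsFibGrpd 𝒵.p) (hZ' : FibCat.IsFibGrpd 𝒵'.p) {p : 𝒵' ⥤ᵇ 𝒵}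
    (hp : K908.Aff.IsAff p) (h : Exact 𝒵) : Exact 𝒵' := by
  intro F G u hu
  have := hZ
  have := hZ'
  obtain ⟨E₁, ⟨h1⟩⟩ := K908.AffPush.exists_isPush_of_isAff p hp F
  obtain ⟨E₂, ⟨h2⟩⟩ := K908.AffPush.exists_isPush_of_isAff p hp G
  have h3 : Function.Surjective (Mod.globSectMap (K908.Leray.pushMap h1 h2 u.hom)) :=
    h (F := E₁) (G := E₂) (ObjectProperty.homMk (K908.Leray.pushMap h1 h2 u.hom))
      (K908.Leray.isSurj_pushMap h1 h2 u.hom (K908.AffPush.surjective_relSectMap_of_isAff p hp u.hom hu))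
  exact (surjective_baseCat_iff (BasedFunctor.comp p (toBaseCat 𝒵)) u.hom).1
    (K908.Leray.surjective_comp h1 h2 u.hom (toBaseCat 𝒵) (Over.mk (𝟙 S))
      ((surjective_baseCat_iff (toBaseCat 𝒵) _).2 h3))

/-- Exactness on `fibCat π η` gives surjectivity on sections of pushforwards over `η`. -/
theorem surjective_relSectMap_of_exact {π : 𝒵 ⥤ᵇ 𝒵'} {η : 𝒵'.obj} (h : Exact (fibCat π η)) {F G : QCoh 𝒵}
    (u : F ⟶ G) (hu : Mod.IsSurj u.hom) : Function.Surjective (Mod.relSectMap π u.hom η) := by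
  intro s
  obtain ⟨t, ht⟩ := h (F := K907.ResPt.resQ π η F) (G := K907.ResPt.resQ π η G)
    (ObjectProperty.homMk (K907.ResPt.resHom π η u.hom)) (K907.ResPt.isSurj_resHom π η u.hom hu)
    (K907.ResPt.toGlob s)
  refine ⟨K907.ResPt.ofGlob t, ?_⟩
  apply Mod.RelSect.ext
  intro ξ α
  exact congrArg (fun k : (K907.ResPt.resMod π η G.obj).GlobSect => k.1 (⟨ξ, α⟩ : FObj π η)) ht

end Base

section Fp

open K735.Fib K735.Fp K906.Comap

variable {S : Scheme.{u}} {𝒳 : BasedCategory.{v, w} (Over S)} {𝒴 : BasedCategory.{v', w'} (Over S)}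
  {𝒴' : BasedCategory.{v'', w''} (Over S)} (π : 𝒳 ⥤ᵇ 𝒴) (g : 𝒴' ⥤ᵇ 𝒴)

/-- The fibre of `fpFst g π` over `η'` and the fibre of `π` over `g η'`. -/
def toFib (η' : 𝒴'.obj) : fibCat (FibCat.fpFst g π) η' ⥤ᵇ fibCat π (g.obj η') where
  toFunctor :=
    { obj := fun a => ⟨(FObj.pt a).obj.snd, arrF π g (FObj.pt a) (FObj.arr a)⟩
      map := fun {a b} f => FObj.mkHom (FObj.Hom.hom f).hom.snd (by
        refine (arrF_comp π g (FObj.Hom.hom f) (FObj.arr b)).trans ?_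
        exact congrArg (arrF π g (FObj.pt a)) (FObj.Hom.comm f))
      map_id := fun a => FObj.hom_ext rfl
      map_comp := fun f h => FObj.hom_ext rfl }
  w := by
    have h := (FibCat.fpSnd g π).w
    change (FObj.forgetPt (FibCat.fpFst g π) η' ⋙ (FibCat.fpSnd g π).toFunctor ⋙ 𝒳.p) =
      FObj.forgetPt (FibCat.fpFst g π) η' ⋙ (FibCat.fp g π).p
    rw [h]

theorem hom_ext_fst (h𝒴' : FibCat.IsFibGrpd 𝒴'.p) {η' : 𝒴'.obj} {x' x : (FibCat.fp g π).obj} {χ₁ χ₂ : x' ⟶ x}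
    (α : x.obj.fst ⟶ η') (h1 : χ₁.hom.snd = χ₂.hom.snd) (h2 : χ₁.hom.fst ≫ α = χ₂.hom.fst ≫ α) : χ₁ = χ₂ := by
  have e1 : g.map χ₁.hom.fst = g.map χ₂.hom.fst := by
    have w1 := fp_w χ₁
    have w2 := fp_w χ₂
    rw [h1] at w1
    exact (cancel_mono x.obj.iso.hom).1 (w1.trans w2.symm)
  have e2 : χ₁.hom.fst = χ₂.hom.fst := by
    refine Grpd.hom_ext h𝒴' α ?_ h2
    have e3 := congrArg (fun t => 𝒴.p.map t) e1
    rw [K735.Fib.map_map, K735.Fib.map_map, cancel_epi, cancel_mono] at e3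
    exact e3
  apply ObjectProperty.hom_ext
  exact CategoricalPullback.Hom.ext e2 h1

variable (h𝒳 : FibCat.IsFibGrpd 𝒳.p) (h𝒴 : FibCat.IsFibGrpd 𝒴.p) (h𝒴' : FibCat.IsFibGrpd 𝒴'.p)

include h𝒳 h𝒴 h𝒴' in
/-- The fibres of the base change map affinely to the fibres of `π`. -/
theorem isAff_toFib {η' : 𝒴'.obj} {η : 𝒴.obj} (k : g.obj η' ⟶ η) (hη' : IsAffine (sch 𝒴' η'))
    (hη : IsAffine (sch 𝒴 η)) : K908.Aff.IsAff (BasedFunctor.comp (toFib π g η') (fibMap π k)) := by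
  intro a ha
  obtain ⟨⟨bp, ba⟩, c, hp⟩ := exists_bc h𝒳 h𝒴 k a
  obtain ⟨y, ι, hι, α, hα⟩ := exists_arrF π g h𝒴 h𝒴' bp ba
  subst hα
  let x₀ : (FibCat.fp g π).obj := mkFp g π y bp ι hι
  let w₀ : FObj (FibCat.fpFst g π) η' := ⟨x₀, α⟩
  have hsq := isPullback_left (b := (⟨bp, arrF π g x₀ α⟩ : FObj π (g.obj η'))) (a := a) (c := FObj.Hom.hom c) k hp
  have haff : IsAffine (sch 𝒳 bp) := by
    have h1 : IsAffine (sch 𝒳 (FObj.pt a)) := ha
    have h2 : IsAffine (sch 𝒴 (g.obj η')) := by rw [sch_obj_eq g η']; exact hη'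
    have h3 : IsAffine (𝒳.p.obj (FObj.pt a)).left := ha
    have h4 : IsAffine (𝒴.p.obj (g.obj η')).left := h2
    have h5 : IsAffine (𝒴.p.obj η).left := hη
    exact K907.Sec.isAffine_of_isPullback hsq
  refine ⟨w₀, c, ?_, ?_⟩
  · change IsAffine (sch (FibCat.fp g π) x₀)
    have h6 : sch 𝒳 bp = sch (FibCat.fp g π) x₀ := sch_obj_eq (FibCat.fpSnd g π) x₀
    rw [← h6]
    exact haff
  · intro θ β
    obtain ⟨e, he, hu⟩ := existsUnique_bc_hom h𝒳 h𝒴 k hp (z := (toFib π g η').obj θ) β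
    obtain ⟨χ, hχ1, hχ2⟩ := exists_hom_arrF π g h𝒴 h𝒴' (x' := FObj.pt θ) (x := x₀) (FObj.arr θ) α e.hom e.comm
    refine ⟨FObj.mkHom χ hχ2, ?_, fun χ' hχ' => ?_⟩
    · refine Eq.trans ?_ he
      refine congrArg (fun t => (fibMap π k).map t ≫ c) ?_
      exact FObj.hom_ext hχ1
    · have h7 : (toFib π g η').map χ' = e := hu _ hχ'
      have h8 : (FObj.Hom.hom χ').hom.snd = e.hom := congrArg FObj.Hom.hom h7
      refine FObj.hom_ext ?_
      refine hom_ext_fst π g h𝒴' α (h8.trans hχ1.symm) ?_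
      exact (FObj.Hom.comm χ').trans hχ2.symm

include h𝒳 h𝒴 h𝒴' in
/-- Exactness on the fibres of the base change. -/
theorem exact_fibCat_fpFst {η' : 𝒴'.obj} {η : 𝒴.obj} (k : g.obj η' ⟶ η) (hη' : IsAffine (sch 𝒴' η'))
    (hη : IsAffine (sch 𝒴 η)) (h : Exact (fibCat π η)) : Exact (fibCat (FibCat.fpFst g π) η') :=
  exact_of_isAff (isFibGrpd_fibCat h𝒳) (isFibGrpd_fibCat (K735.Fp.isFibGrpd_fp h𝒴' h𝒳 h𝒴 g π))
    (isAff_toFib π g h𝒳 h𝒴 h𝒴' k hη' hη) h

end Fp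

end K906.AffFp
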