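import Groth.Agent.StMod.K906.FibRep

/-!
# Spans in `fibCat π η` are represented by base changes of the diagonal of `π`

`exists_spanRep_diag` : for `RepByAlgSpWith P (FibCat.diag π)` and two pairs `ζ₁ ζ₂ : FObj π η` there is an algebraic space
`F` with `q : F ⟶ h_T` having `P`, `T ≅ ζ₁ ×_η ζ₂`, representing the spans `ζ₁ ⟵ χ ⟶ ζ₂` in `fibCat π η`.
-/

set_option autoImplicit false
set_option backward.isDefEq.respectTransparency false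
set_option backward.isDefEq.respectTransparency.types false

universe w' v' w v u

open CategoryTheory CategoryTheory.Limits AlgebraicGeometry StMod MorphismProperty Opposite AlgSp

namespace K906

open K906.Grpd K906.Span K735.Fib K735.Fp K735.Rep

variable {S : Scheme.{u}} {𝒳 : BasedCategory.{v, w} (Over S)} {𝒴 : BasedCategory.{v', w'} (Over S)}
  {π : 𝒳 ⥤ᵇ 𝒴} {η : 𝒴.obj}

/-- The data of the base change to `ζ₁ ×_η ζ₂` of two pairs. -/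
structure PairData (ζ₁ ζ₂ : FObj π η) where
  /-- pullback of `ζ₁` -/
  a : 𝒳.obj
  /-- pullback of `ζ₂` -/
  b : 𝒳.obj
  s : a ⟶ ζ₁.pt
  t : b ⟶ ζ₂.pt
  e : 𝒳.p.obj b = 𝒳.p.obj a
  γ : π.obj a ≅ π.obj b
  hγ : Vert 𝒴.p γ.hom
  comm : γ.hom ≫ π.map t ≫ ζ₂.arr = π.map s ≫ ζ₁.arr
  sq : IsPullback (𝒳.p.map s) (eqToHom e.symm ≫ 𝒳.p.map t) (fbase ζ₁) (fbase ζ₂)

theorem nonempty_pairData (h : FibCat.IsFibGrpd 𝒳.p) (h' : FibCat.IsFibGrpd 𝒴.p) (ζ₁ ζ₂ : FObj π η) :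
    Nonempty (PairData ζ₁ ζ₂) := by
  obtain ⟨a, s, i, hs⟩ := Grpd.exists_lift_iso h ζ₁.pt (pullback.fst (fbase ζ₁) (fbase ζ₂))
  obtain ⟨b, t, e, ht⟩ := Grpd.exists_lift h ζ₂.pt (i.hom ≫ pullback.snd (fbase ζ₁) (fbase ζ₂))
  have hb1 : 𝒴.p.map (π.map s ≫ ζ₁.arr) = eqToHom (π.w_obj a) ≫ 𝒳.p.map s ≫ fbase ζ₁ := by
    have h1 := map_comp_baseOver π s ζ₁.arr
    change 𝒳.p.map s ≫ fbase ζ₁ = eqToHom (π.w_obj a).symm ≫ 𝒴.p.map (π.map s ≫ ζ₁.arr) at h1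
    rw [h1]; simp
  have hb2 : 𝒴.p.map (π.map t ≫ ζ₂.arr) = eqToHom (π.w_obj b) ≫ 𝒳.p.map t ≫ fbase ζ₂ := by
    have h1 := map_comp_baseOver π t ζ₂.arr
    change 𝒳.p.map t ≫ fbase ζ₂ = eqToHom (π.w_obj b).symm ≫ 𝒴.p.map (π.map t ≫ ζ₂.arr) at h1
    rw [h1]; simp
  obtain ⟨γ, ⟨h1, h2⟩, -⟩ := Grpd.existsUnique_hom h' (π.map t ≫ ζ₂.arr) (π.map s ≫ ζ₁.arr)
    (eqToHom ((π.w_obj a).trans (e.symm.trans (π.w_obj b).symm))) (by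
      rw [hb1, hb2, ht, hs]
      simp only [Category.assoc, eqToHom_trans_assoc]
      rw [pullback.condition])
  have hv : Vert 𝒴.p γ := vert_of_map_eq _ h1
  have := hv.isIso h'
  refine ⟨⟨a, b, s, t, e, asIso γ, hv, h2, ?_⟩⟩
  rw [ht, hs, eqToHom_trans_assoc, eqToHom_refl, Category.id_comp]
  exact (IsPullback.of_hasPullback (fbase ζ₁) (fbase ζ₂)).of_iso i.symm (Iso.refl _) (Iso.refl _) (Iso.refl _)
    (by simp) (by simp) (by simp) (by simp)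

namespace PairData

variable {ζ₁ ζ₂ : FObj π η} (D : PairData ζ₁ ζ₂)

/-- The object of `𝒳 ×_𝒴 𝒳`. -/
def τ : (FibCat.fp π π).obj := mkFp π π D.a D.b D.γ D.hγ

variable {D}

/-- The arrow of `𝒳 ×_𝒴 𝒳` attached to a span. -/
theorem exists_hom (h : FibCat.IsFibGrpd 𝒳.p) (h' : FibCat.IsFibGrpd 𝒴.p) {χ : FObj π η} (x : χ ⟶ ζ₁)
    (y : χ ⟶ ζ₂) : ∃ m : (FibCat.diag π).obj χ.pt ⟶ D.τ, m.hom.fst ≫ D.s = x.hom ∧ m.hom.snd ≫ D.t = y.hom := by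
  have w : 𝒳.p.map x.hom ≫ fbase ζ₁ = 𝒳.p.map y.hom ≫ fbase ζ₂ := by rw [map_fbase, map_fbase]
  obtain ⟨m₁, ⟨h1, h2⟩, -⟩ := Grpd.existsUnique_hom h D.s x.hom (D.sq.lift _ _ w) (D.sq.lift_fst _ _ w)
  obtain ⟨m₂, ⟨h3, h4⟩, -⟩ := Grpd.existsUnique_hom h D.t y.hom (D.sq.lift _ _ w ≫ eqToHom D.e.symm) (by
    rw [Category.assoc, D.sq.lift_snd])
  refine ⟨homFp (x := (FibCat.diag π).obj χ.pt) (y := D.τ) m₁ m₂ ?_, h2, h4⟩
  change π.map m₁ ≫ D.γ.hom = 𝟙 _ ≫ π.map m₂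
  rw [Category.id_comp]
  refine Grpd.hom_ext h' (π.map D.t ≫ ζ₂.arr) ?_ ?_
  · rw [Functor.map_comp, K735.Fib.map_map, K735.Fib.map_map, D.hγ.map_eq, h1, h3]
    simp
  · have e1 : π.map x.hom ≫ ζ₁.arr = χ.arr := x.comm
    have e2 : π.map y.hom ≫ ζ₂.arr = χ.arr := y.comm
    rw [Category.assoc, D.comm, ← Category.assoc, ← Category.assoc, ← Functor.map_comp, ← Functor.map_comp, h2, h4,
      e1, e2]

/-- An arrow of `𝒳 ×_𝒴 𝒳` to `τ` is determined by the span. -/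
theorem hom_ext (h : FibCat.IsFibGrpd 𝒳.p) {ξ : 𝒳.obj} {m m' : (FibCat.diag π).obj ξ ⟶ D.τ}
    (h1 : m.hom.fst ≫ D.s = m'.hom.fst ≫ D.s) (h2 : m.hom.snd ≫ D.t = m'.hom.snd ≫ D.t) : m = m' := by
  have e1 : 𝒳.p.map m.hom.fst = 𝒳.p.map m'.hom.fst := by
    refine D.sq.hom_ext ?_ ?_
    · rw [← Functor.map_comp, ← Functor.map_comp, h1]
    · have f1 := fp_map_snd m
      have f2 := fp_map_snd m'
      have f3 : 𝒳.p.map m.hom.snd = 𝒳.p.map m.hom.fst ≫ eqToHom D.e.symm := by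
        rw [f1]; simp
      have f4 : 𝒳.p.map m'.hom.snd = 𝒳.p.map m'.hom.fst ≫ eqToHom D.e.symm := by
        rw [f2]; simp
      rw [← Category.assoc, ← Category.assoc, ← f3, ← f4, ← Functor.map_comp, ← Functor.map_comp, h2]
  have e2 : 𝒳.p.map m.hom.snd = 𝒳.p.map m'.hom.snd := by
    rw [fp_map_snd m, fp_map_snd m', e1]
  exact fp_hom_ext (Grpd.hom_ext h D.s e1 h1) (Grpd.hom_ext h D.t e2 h2)

/-- The span attached to an arrow of `𝒳 ×_𝒴 𝒳` to `τ`. -/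
theorem exists_span {ξ : 𝒳.obj} (m : (FibCat.diag π).obj ξ ⟶ D.τ) :
    ∃ (β : π.obj ξ ⟶ η) (x : (⟨ξ, β⟩ : FObj π η) ⟶ ζ₁) (y : (⟨ξ, β⟩ : FObj π η) ⟶ ζ₂),
      x.hom = m.hom.fst ≫ D.s ∧ y.hom = m.hom.snd ≫ D.t := by
  have hw : π.map m.hom.fst ≫ D.γ.hom = 𝟙 _ ≫ π.map m.hom.snd := fp_w m
  rw [Category.id_comp] at hw
  refine ⟨π.map m.hom.fst ≫ π.map D.s ≫ ζ₁.arr, FObj.mkHom (m.hom.fst ≫ D.s) ?_, FObj.mkHom (m.hom.snd ≫ D.t) ?_,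
    rfl, rfl⟩
  · change π.map (m.hom.fst ≫ D.s) ≫ ζ₁.arr = π.map m.hom.fst ≫ π.map D.s ≫ ζ₁.arr
    rw [Functor.map_comp, Category.assoc]
  · change π.map (m.hom.snd ≫ D.t) ≫ ζ₂.arr = π.map m.hom.fst ≫ π.map D.s ≫ ζ₁.arr
    rw [Functor.map_comp, Category.assoc, ← hw, Category.assoc, D.comm]

end PairData

/-- Spans in `fibCat π η` are represented by a base change of the diagonal of `π`. -/
theorem exists_spanRep_diag (h : FibCat.IsFibGrpd 𝒳.p) (h' : FibCat.IsFibGrpd 𝒴.p) {P : MorphismProperty (Sp S)}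
    (hd : AlgSt.RepByAlgSpWith P (FibCat.diag π)) (ζ₁ ζ₂ : FObj π η) :
    ∃ (F : Space S) (T : Over S) (q : F.obj ⟶ (yon S).obj T) (f : T ⟶ 𝒳.p.obj ζ₁.pt) (g : T ⟶ 𝒳.p.obj ζ₂.pt),
      P q ∧ IsPullback f g (fbase ζ₁) (fbase ζ₂) ∧
      Nonempty (SpanRep (𝒳 := fibCat π η) ζ₁ ζ₂ F.obj) := by
  obtain ⟨D⟩ := nonempty_pairData h h' ζ₁ ζ₂
  have hfp : FibCat.IsFibGrpd (FibCat.fp π π).p := isFibGrpd_fp h h h' π π
  obtain ⟨F, q, hq, ⟨R⟩⟩ := exists_secRep_fibCat hfp hd D.τ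
  choose m hm₁ hm₂ using fun (χ : FObj π η) (x : χ ⟶ ζ₁) (y : χ ⟶ ζ₂) => D.exists_hom h h' x y
  refine ⟨F, _, q, _, _, hq, D.sq, ⟨{
    sec := fun {χ} x y => R.sec (⟨FObj.pt χ, m χ x y⟩ : FObj (FibCat.diag π) D.τ)
    map := ?_
    full := ?_
    surj := ?_ }⟩⟩
  · intro χ χ' c x y
    let c₀ : FObj.pt χ' ⟶ FObj.pt χ := (fibPt π η).map c
    have hc : (FibCat.diag π).map c₀ ≫ m χ x y = m χ' (c ≫ x) (c ≫ y) := by
      refine D.hom_ext h ?_ ?_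
      · change (c₀ ≫ (m χ x y).hom.fst) ≫ D.s = (m χ' (c ≫ x) (c ≫ y)).hom.fst ≫ D.s
        rw [Category.assoc, hm₁, hm₁]
        rfl
      · change (c₀ ≫ (m χ x y).hom.snd) ≫ D.t = (m χ' (c ≫ x) (c ≫ y)).hom.snd ≫ D.t
        rw [Category.assoc, hm₂, hm₂]
        rfl
    let c' : (⟨FObj.pt χ', m χ' (c ≫ x) (c ≫ y)⟩ : FObj (FibCat.diag π) D.τ) ⟶
        (⟨FObj.pt χ, m χ x y⟩ : FObj (FibCat.diag π) D.τ) := FObj.mkHom c₀ hc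
    exact R.map c'
  · intro χ χ' x y x' y' g hg
    obtain ⟨n, hn⟩ := R.full (z := (⟨FObj.pt χ', m χ' x' y'⟩ : FObj (FibCat.diag π) D.τ))
      (z' := (⟨FObj.pt χ, m χ x y⟩ : FObj (FibCat.diag π) D.τ)) g hg
    let n₀ : FObj.pt χ' ⟶ FObj.pt χ := (fibPt (FibCat.diag π) D.τ).map n
    have hc : (FibCat.diag π).map n₀ ≫ m χ x y = m χ' x' y' := n.comm
    have hc1 : n₀ ≫ (m χ x y).hom.fst = (m χ' x' y').hom.fst :=
      congrArg (fun t => t.hom.fst) hc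
    have hc2 : n₀ ≫ (m χ x y).hom.snd = (m χ' x' y').hom.snd :=
      congrArg (fun t => t.hom.snd) hc
    have hx : n₀ ≫ (fibPt π η).map x = (fibPt π η).map x' := by
      change n₀ ≫ FObj.Hom.hom x = FObj.Hom.hom x'
      rw [← hm₁ χ x y, ← hm₁ χ' x' y', ← Category.assoc, hc1]
    have hy : n₀ ≫ (fibPt π η).map y = (fibPt π η).map y' := by
      change n₀ ≫ FObj.Hom.hom y = FObj.Hom.hom y'
      rw [← hm₂ χ x y, ← hm₂ χ' x' y', ← Category.assoc, hc2]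
    refine ⟨FObj.mkHom n₀ ?_, hn, FObj.hom_ext hx, FObj.hom_ext hy⟩
    have e1 : π.map ((fibPt π η).map x) ≫ ζ₁.arr = FObj.arr χ := FObj.Hom.comm x
    have e2 : π.map ((fibPt π η).map x') ≫ ζ₁.arr = FObj.arr χ' := FObj.Hom.comm x'
    rw [← e1, ← e2, ← Category.assoc, ← Functor.map_comp, hx]
  · intro V s
    obtain ⟨z, e, he⟩ := R.surj s
    obtain ⟨β, x, y, hx, hy⟩ := D.exists_span z.arr
    refine ⟨(⟨z.pt, β⟩ : FObj π η), x, y, e, ?_⟩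
    have hz : (⟨z.pt, m ⟨z.pt, β⟩ x y⟩ : FObj (FibCat.diag π) D.τ) = z := by
      have : m ⟨z.pt, β⟩ x y = z.arr := D.hom_ext h (by rw [hm₁, hx]) (by rw [hm₂, hy])
      rw [this]
    change F.obj.obj.map (eqToHom e).op (R.sec (⟨z.pt, m ⟨z.pt, β⟩ x y⟩ : FObj (FibCat.diag π) D.τ)) = s
    have hgen : ∀ (z' : FObj (FibCat.diag π) D.τ) (hz' : z' = z) (e' : V = (fibCat (FibCat.diag π) D.τ).p.obj z'),
        F.obj.obj.map (eqToHom e').op (R.sec z') = s := by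
      rintro z' rfl e'
      exact he
    exact hgen _ hz _

end K906
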