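import Groth.Agent.S14768
import Groth.Agent.S14770
import Groth.Agent.S17518

/-!
# Pure ring maps are universally subtrusive and universally submersive

* `Pure A B` : `N → B ⊗[A] N` is injective for every `A`-module `N`;
* `exists_pair_lift` : pairs of primes lift along cyclically pure ring homomorphisms;
* `univSSubtrusive_of_pure`, `univSubmersive_of_pure` (noetherian target);
* `locallyOfFiniteType_of_pure` : if `A → B` is pure, `A`, `B` noetherian and `Spec B → Y` is locally of finite type then so is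
  `Spec A → Y` (`Y` noetherian).
-/

set_option autoImplicit false

universe u

open CategoryTheory CategoryTheory.Limits AlgebraicGeometry TensorProduct

namespace K906.PureSub

section Algebra

/-- Pairs of primes lift along cyclically pure ring homomorphisms. -/
theorem exists_pair_lift {C D : Type*} [CommRing C] [CommRing D] (φ : C →+* D)
    (h : ∀ (I : Ideal C) (c : C), φ c ∈ I.map φ → c ∈ I) {p₁ p₂ : Ideal C} [hp₁ : p₁.IsPrime] [hp₂ : p₂.IsPrime]
    (hle : p₁ ≤ p₂) : ∃ q₁ q₂ : Ideal D, q₁.IsPrime ∧ q₂.IsPrime ∧ q₁ ≤ q₂ ∧ q₁.comap φ = p₁ ∧ q₂.comap φ = p₂ := by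
  -- the torsion of `D / p₁ D`
  let T : Ideal D :=
    { carrier := {d | ∃ c, c ∉ p₁ ∧ φ c * d ∈ p₁.map φ}
      zero_mem' := ⟨1, (Ideal.ne_top_iff_one p₁).1 hp₁.ne_top, by rw [mul_zero]; exact zero_mem _⟩
      add_mem' := by
        rintro a b ⟨c, hc, ha⟩ ⟨c', hc', hb⟩
        refine ⟨c * c', fun hcc => (hp₁.mem_or_mem hcc).elim hc hc', ?_⟩
        have e : φ (c * c') * (a + b) = φ c' * (φ c * a) + φ c * (φ c' * b) := by
          rw [map_mul]; ring
        rw [e]
        exact add_mem (Ideal.mul_mem_left _ _ ha) (Ideal.mul_mem_left _ _ hb)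
      smul_mem' := by
        rintro r a ⟨c, hc, ha⟩
        refine ⟨c, hc, ?_⟩
        have e : φ c * (r • a) = r * (φ c * a) := by
          rw [smul_eq_mul]; ring
        rw [e]
        exact Ideal.mul_mem_left _ _ ha }
  have hdisj : Disjoint ((p₂.map φ ⊔ T : Ideal D) : Set D) ((p₂.primeCompl.map φ : Submonoid D) : Set D) := by
    rw [Set.disjoint_left]
    rintro _ hx ⟨s, hs, rfl⟩
    obtain ⟨x, hx, τ, ⟨c, hc, hcτ⟩, hxτ⟩ := Submodule.mem_sup.1 hx
    have h1 : φ (c * s) ∈ (Ideal.span {c} * p₂ ⊔ p₁ : Ideal C).map φ := by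
      rw [map_mul]
      change φ c * φ s ∈ _
      rw [← hxτ, mul_add, Ideal.map_sup, Ideal.map_mul]
      refine Submodule.add_mem_sup ?_ hcτ
      exact Ideal.mul_mem_mul (Ideal.mem_map_of_mem φ (Ideal.mem_span_singleton_self c)) hx
    have h2 := h _ _ h1
    obtain ⟨u, hu, b, hb, hub⟩ := Submodule.mem_sup.1 h2
    obtain ⟨a, ha, rfl⟩ := Ideal.mem_span_singleton_mul.1 hu
    have h3 : c * (s - a) ∈ p₁ := by
      have : c * (s - a) = b := by linear_combination -hub
      rw [this]
      exact hb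
    have h4 : s - a ∈ p₁ := (hp₁.mem_or_mem h3).resolve_left hc
    apply hs
    have : s = (s - a) + a := by ring
    rw [this]
    exact add_mem (hle h4) ha
  obtain ⟨q₂, hq₂, hJ, hd₂⟩ := Ideal.exists_le_prime_disjoint _ _ hdisj
  have hc₂ : q₂.comap φ = p₂ := by
    apply le_antisymm
    · intro c hc
      by_contra hcp
      exact Set.disjoint_left.1 hd₂ hc ⟨c, hcp, rfl⟩
    · exact Ideal.map_le_iff_le_comap.1 (le_sup_left.trans hJ)
  let M : Submonoid D := p₁.primeCompl.map φ ⊔ q₂.primeCompl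
  have hdisj' : Disjoint ((p₁.map φ : Ideal D) : Set D) (M : Set D) := by
    rw [Set.disjoint_left]
    intro x hx hxM
    obtain ⟨_, ⟨c, hc, rfl⟩, d, hd, rfl⟩ := Submonoid.mem_sup.1 hxM
    exact hd (hJ (Submodule.mem_sup_right ⟨c, hc, hx⟩))
  obtain ⟨q₁, hq₁, hJ₁, hd₁⟩ := Ideal.exists_le_prime_disjoint _ _ hdisj'
  refine ⟨q₁, q₂, hq₁, hq₂, ?_, ?_, hc₂⟩
  · intro d hd
    by_contra hdq
    exact Set.disjoint_left.1 hd₁ hd (Submonoid.mem_sup_right (show d ∈ q₂.primeCompl from hdq))
  · apply le_antisymm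
    · intro c hc
      by_contra hcp
      exact Set.disjoint_left.1 hd₁ hc (Submonoid.mem_sup_left ⟨c, hcp, rfl⟩)
    · exact Ideal.map_le_iff_le_comap.1 hJ₁

/-- `A → B` is pure (universally injective). -/
def Pure (A B : Type u) [CommRing A] [CommRing B] [Algebra A B] : Prop :=
  ∀ (N : Type u) [AddCommGroup N] [Module A N] (n : N), (1 : B) ⊗ₜ[A] n = 0 → n = 0

variable {A B : Type u} [CommRing A] [CommRing B] [Algebra A B]

/-- Base changes of pure maps are cyclically pure. -/
theorem Pure.baseChange (h : Pure A B) (C : Type u) [CommRing C] [Algebra A C] (I : Ideal C) (c : C)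
    (hc : (Algebra.TensorProduct.includeRight : C →ₐ[A] B ⊗[A] C).toRingHom c ∈
      I.map (Algebra.TensorProduct.includeRight : C →ₐ[A] B ⊗[A] C).toRingHom) : c ∈ I := by
  rw [← Ideal.Quotient.eq_zero_iff_mem]
  apply h (C ⧸ I)
  have key : I.map (Algebra.TensorProduct.includeRight : C →ₐ[A] B ⊗[A] C).toRingHom ≤
      RingHom.ker (Algebra.TensorProduct.map (AlgHom.id A B) (Ideal.Quotient.mkₐ A I)).toRingHom := by
    rw [Ideal.map_le_iff_le_comap]
    intro i hi
    change Algebra.TensorProduct.map (AlgHom.id A B) (Ideal.Quotient.mkₐ A I) ((1 : B) ⊗ₜ[A] i) = 0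
    rw [Algebra.TensorProduct.map_tmul]
    change (1 : B) ⊗ₜ[A] (Ideal.Quotient.mk I i) = 0
    rw [Ideal.Quotient.eq_zero_iff_mem.2 hi, TensorProduct.tmul_zero]
  have h2 := key hc
  change Algebra.TensorProduct.map (AlgHom.id A B) (Ideal.Quotient.mkₐ A I) ((1 : B) ⊗ₜ[A] c) = 0 at h2
  rw [Algebra.TensorProduct.map_tmul] at h2
  exact h2

end Algebra

section Scheme

variable {A B : Type u} [CommRing A] [CommRing B] [Algebra A B]

/-- The morphism of spectra under a pure map is universally subtrusive. -/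
theorem univSSubtrusive_of_pure (h : Pure A B) :
    Subtr.UnivSSubtrusive (Spec.map (CommRingCat.ofHom (algebraMap A B))) := by
  rw [Groth.Agent.S14768.result]
  intro V _ _ _ g y y' hyy
  obtain ⟨φ, rfl⟩ := Spec.map_surjective g
  letI : Algebra A V := φ.hom.toAlgebra
  let i : V →+* B ⊗[A] V := (Algebra.TensorProduct.includeRight : V →ₐ[A] B ⊗[A] V).toRingHom
  let p₁ : PrimeSpectrum V := y'
  let p₂ : PrimeSpectrum V := y
  have hle : p₁.asIdeal ≤ p₂.asIdeal := (PrimeSpectrum.le_iff_specializes p₁ p₂).2 hyy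
  obtain ⟨q₁, q₂, h1, h2, h3, h4, h5⟩ := exists_pair_lift i (fun I c hc => h.baseChange V I c hc) hle
  let x₁ : ↥(Spec (CommRingCat.of (B ⊗[A] V))) := (⟨q₁, h1⟩ : PrimeSpectrum (B ⊗[A] V))
  let x₂ : ↥(Spec (CommRingCat.of (B ⊗[A] V))) := (⟨q₂, h2⟩ : PrimeSpectrum (B ⊗[A] V))
  have hs : x₁ ⤳ x₂ := (PrimeSpectrum.le_iff_specializes (⟨q₁, h1⟩ : PrimeSpectrum (B ⊗[A] V)) ⟨q₂, h2⟩).1 h3
  have e : (pullbackSpecIso A B V).inv ≫ pullback.snd (Spec.map (CommRingCat.ofHom (algebraMap A B))) (Spec.map φ) =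
      Spec.map (CommRingCat.ofHom i) := pullbackSpecIso_inv_snd A B V
  refine ⟨(pullbackSpecIso A B V).inv x₂, (pullbackSpecIso A B V).inv x₁,
    hs.map (pullbackSpecIso A B V).inv.continuous, ?_, ?_⟩
  · rw [← Scheme.Hom.comp_apply]
    refine (congrArg (fun k => k x₂) e).trans ?_
    exact PrimeSpectrum.ext h5
  · rw [← Scheme.Hom.comp_apply]
    refine (congrArg (fun k => k x₁) e).trans ?_
    exact PrimeSpectrum.ext h4

/-- The morphism of spectra under a pure map to a noetherian ring is universally submersive. -/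
theorem univSubmersive_of_pure [IsNoetherianRing A] (h : Pure A B) :
    SGA1.UnivSubmersive (Spec.map (CommRingCat.ofHom (algebraMap A B))) :=
  (Groth.Agent.S14770.result _).2 (univSSubtrusive_of_pure h)

/-- Locally of finite type descends along pure maps of noetherian rings. -/
theorem locallyOfFiniteType_of_pure [IsNoetherianRing A] [IsNoetherianRing B] (h : Pure A B) {Y : Scheme.{u}}
    [IsNoetherian Y] (g : Spec (CommRingCat.of A) ⟶ Y)
    (hg : LocallyOfFiniteType (Spec.map (CommRingCat.ofHom (algebraMap A B)) ≫ g)) : LocallyOfFiniteType g := by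
  haveI : IsNoetherian (Spec (CommRingCat.of A)) := inferInstance
  haveI : IsNoetherian (Spec (CommRingCat.of B)) := inferInstance
  exact Groth.Agent.S17518.result _ (univSubmersive_of_pure h) g

end Scheme

end K906.PureSub
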