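import Groth.Agent.StMod.K906.SectAlg
import Groth.Agent.StMod.K906.Pres
import Groth.Agent.StMod.K907.Sec
import Groth.Agent.StMod.K908.QHom

/-!
# Sections of the pushforward of a quasi-coherent module in terms of a covering family

For `π : 𝒳 ⥤ᵇ 𝒴`, `η : 𝒴.obj`, `F : QCoh 𝒳` (namespace `K906.Sect`):

* `Covers Z` : the family `Z : J → FObj π η` covers every affine pair after a flat surjective affine cover;
* `relSect_ext_of_covers`, `exists_relSect_of_covers` : a section of `π_* F` over `η` is the same as a family of sections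
  over the `Z j` which agree on every affine pair with arrows to two members;
* `Pres.relSect_ext`, `Pres.exists_relSect` : for a presentation `P : Pres (fibCat π η)` it is an `x ∈ Γ(F_ζ)` with
  `s^* x = t^* x`;
* `secMod P F` : the `Γ(η)`-module of such `x` and `secEquiv P F : secMod P F ≃ₗ RelSect π F η`.
-/

set_option autoImplicit false
set_option linter.unusedVariables false
set_option linter.style.haveILetI false
set_option backward.isDefEq.respectTransparency false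
set_option backward.isDefEq.respectTransparency.types false

universe t w' v' w v u

open CategoryTheory CategoryTheory.Limits AlgebraicGeometry Opposite StMod
open Groth.Agent.CohqA.BaseChangeMod

namespace K906.Sect

open K906.Grpd K907.Sec

variable {S : Scheme.{u}} {𝒳 : BasedCategory.{v, w} (Over S)} {𝒴 : BasedCategory.{v', w'} (Over S)}
  {π : 𝒳 ⥤ᵇ 𝒴} {η : 𝒴.obj}

/-- The family `Z` covers every affine pair after a flat surjective affine cover. -/
def Covers {J : Type t} (Z : J → FObj π η) : Prop :=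
  ∀ z : FObj π η, IsAffine (sch 𝒳 z.pt) → ∃ (z' : FObj π η) (f : z' ⟶ z) (j : J) (_ : z' ⟶ Z j),
    IsAffine (sch 𝒳 z'.pt) ∧ IsFCov f.hom

section Descent

variable (F : QCoh 𝒳)

/-- Restriction along a faithfully flat arrow of affine objects is injective. -/
theorem mapTop_injective {z' z : 𝒳.obj} (f : z' ⟶ z) (h' : IsAffine (sch 𝒳 z')) (h : IsAffine (sch 𝒳 z))
    (hf : IsFCov f) : Function.Injective (F.obj.mapTop f) := by
  have h1 := K908.BC.injective_of_faithfullyFlat (ringMap_faithfullyFlat f hf) (isBC_resTop F f)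
  exact h1

/-- Descent of a section along a faithfully flat arrow of affine objects. -/
theorem exists_descent (h𝒳 : FibCat.IsFibGrpd 𝒳.p) {z' z : 𝒳.obj} (f : z' ⟶ z) (h' : IsAffine (sch 𝒳 z'))
    (h : IsAffine (sch 𝒳 z)) (hf : IsFCov f) (y : Γ(F.obj.obj z', ⊤))
    (hy : ∀ (z'' : 𝒳.obj) (p q : z'' ⟶ z'), IsAffine (sch 𝒳 z'') → p ≫ f = q ≫ f →
      F.obj.mapTop p y = F.obj.mapTop q y) : ∃ x, F.obj.mapTop f x = y := by
  obtain ⟨z'', p, q, hpq, hp⟩ := exists_fib h𝒳 f f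
  haveI : IsAffine (sch 𝒳 z'') := K907.Sec.isAffine_of_isPullback hp
  have hpo := isPushout_appTop_of_isPullback hp
  obtain ⟨x, hx⟩ := SectAlg.exists_of_amitsur (ringMap_faithfullyFlat f hf)
    (i₁ := ringMap p) (i₂ := ringMap q) (B₂ := Γ(sch 𝒳 z'', ⊤)) hpo (isBC_resTop F f) (p₁ := resTop F.obj p)
    (p₂ := resTop F.obj q) (resTop_smul F.obj p) (isBC_resTop F q) (fun m => by
      change F.obj.mapTop p (F.obj.mapTop f m) = F.obj.mapTop q (F.obj.mapTop f m)
      rw [← F.obj.mapTop_comp, ← F.obj.mapTop_comp, hpq]) y (hy z'' p q inferInstance hpq)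
  exact ⟨x, hx⟩

end Descent

section Glue

variable (h𝒳 : FibCat.IsFibGrpd 𝒳.p)

/-- The fibre product of pairs. -/
theorem exists_fib_pair (h𝒳 : FibCat.IsFibGrpd 𝒳.p) {y z x : FObj π η} (f : y ⟶ x) (g : z ⟶ x) :
    ∃ (t : FObj π η) (p : t ⟶ y) (q : t ⟶ z), p ≫ f = q ≫ g ∧
      IsPullback (bmap 𝒳 p.hom) (bmap 𝒳 q.hom) (bmap 𝒳 f.hom) (bmap 𝒳 g.hom) :=
  exists_fib (𝒳 := fibCat π η) (isFibGrpd_fibCat h𝒳) f g

variable {J : Type t} {Z : J → FObj π η}

include h𝒳 in
/-- A section of `π_* F` over `η` is determined by its values on a covering family. -/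
theorem relSect_ext_of_covers (F : QCoh 𝒳) (hZ : Covers Z) {s t : Mod.RelSect π F.obj η}
    (h : ∀ j, s.1 (Z j).pt (Z j).arr = t.1 (Z j).pt (Z j).arr) : s = t := by
  haveI := h𝒳
  refine K908.QHom.relSect_ext (C := K908.AMod.ASieve.all 𝒳) K908.Fam.zloc_all π F η fun ζ α => ?_
  have hζ : IsAffine (sch 𝒳 ζ.obj) := ζ.property
  obtain ⟨z', f, j, d, h1, h2⟩ := hZ ⟨ζ.obj, α⟩ hζ
  apply mapTop_injective F f.hom h1 hζ h2
  have e1 : ∀ r : Mod.RelSect π F.obj η, F.obj.mapTop f.hom (r.1 ζ.obj α) = F.obj.mapTop d.hom (r.1 (Z j).pt (Z j).arr) := by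
    intro r
    rw [r.2, r.2]
    have h3 : π.map f.hom ≫ α = z'.arr := f.comm
    rw [h3, d.comm]
  rw [e1, e1, h]

include h𝒳 in
/-- A section of `π_* F` over `η` is the same as a family of sections over the members of a covering family agreeing on
every affine pair with arrows to two members. -/
theorem exists_relSect_of_covers (F : QCoh 𝒳) (hZ : Covers Z) (hA : ∀ j, IsAffine (sch 𝒳 (Z j).pt))
    (x : ∀ j, Γ(F.obj.obj (Z j).pt, ⊤))
    (hx : ∀ (z : FObj π η) (i j : J) (a : z ⟶ Z i) (b : z ⟶ Z j), IsAffine (sch 𝒳 z.pt) →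
      F.obj.mapTop a.hom (x i) = F.obj.mapTop b.hom (x j)) :
    ∃ s : Mod.RelSect π F.obj η, ∀ j, s.1 (Z j).pt (Z j).arr = x j := by
  haveI := h𝒳
  have key : ∀ z : FObj π η, IsAffine (sch 𝒳 z.pt) → ∃ y : Γ(F.obj.obj z.pt, ⊤),
      ∀ (w : FObj π η) (c : w ⟶ z) (j : J) (e : w ⟶ Z j), IsAffine (sch 𝒳 w.pt) →
        F.obj.mapTop c.hom y = F.obj.mapTop e.hom (x j) := by
    intro z hz
    obtain ⟨z', f, j, d, h1, h2⟩ := hZ z hz
    obtain ⟨y, hy⟩ := exists_descent F h𝒳 f.hom h1 hz h2 (F.obj.mapTop d.hom (x j)) (by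
      intro z'' p q hz'' hpq
      -- the pair structure on `z''`
      let u : FObj π η := ⟨z'', π.map p ≫ z'.arr⟩
      let p' : u ⟶ z' := FObj.mkHom p rfl
      let q' : u ⟶ z' := FObj.mkHom q (by
        change π.map q ≫ z'.arr = π.map p ≫ z'.arr
        rw [← f.comm, ← Category.assoc, ← Category.assoc, ← Functor.map_comp, ← Functor.map_comp, hpq])
      have h3 := hx u j j (p' ≫ d) (q' ≫ d) hz''
      rw [FObj.comp_hom, FObj.comp_hom, F.obj.mapTop_comp, F.obj.mapTop_comp] at h3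
      exact h3)
    refine ⟨y, fun w c i e hw => ?_⟩
    obtain ⟨t, p, q, hpq, hp⟩ := exists_fib_pair h𝒳 f c
    haveI := hz
    haveI := h1
    haveI := hw
    have ht : IsAffine (sch 𝒳 t.pt) := K907.Sec.isAffine_of_isPullback hp
    have hq : IsFCov q.hom := h2.of_isPullback hp
    apply mapTop_injective F q.hom ht hw hq
    have h4 : F.obj.mapTop q.hom (F.obj.mapTop c.hom y) = F.obj.mapTop p.hom (F.obj.mapTop f.hom y) := by
      rw [← F.obj.mapTop_comp, ← F.obj.mapTop_comp]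
      have : p.hom ≫ f.hom = q.hom ≫ c.hom := congrArg FObj.Hom.hom hpq
      rw [this]
    rw [h4, hy, ← F.obj.mapTop_comp, ← F.obj.mapTop_comp]
    exact hx t j i (p ≫ d) (q ≫ e) ht
  choose y hy using key
  obtain ⟨s, hs⟩ := K908.QHom.exists_relSect (C := K908.AMod.ASieve.all 𝒳) K908.Fam.zloc_all π F η
    (fun ζ α => y ⟨ζ.obj, α⟩ ζ.property) (by
      intro ζ' ζ φ α
      let z : FObj π η := ⟨ζ.obj, α⟩
      let z₁ : FObj π η := ⟨ζ'.obj, π.map φ.hom ≫ α⟩
      let c : z₁ ⟶ z := FObj.mkHom φ.hom rfl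
      have hz : IsAffine (sch 𝒳 z.pt) := ζ.property
      have hz₁ : IsAffine (sch 𝒳 z₁.pt) := ζ'.property
      obtain ⟨z', f, j, d, h1, h2⟩ := hZ z₁ hz₁
      apply mapTop_injective F f.hom h1 hz₁ h2
      change F.obj.mapTop f.hom (F.obj.mapTop φ.hom (y z hz)) = F.obj.mapTop f.hom (y z₁ hz₁)
      rw [hy z₁ hz₁ z' f j d h1, ← F.obj.mapTop_comp]
      exact hy z hz z' (f ≫ c) j d h1)
  refine ⟨s, fun j => ?_⟩
  have h1 := hs ⟨(Z j).pt, hA j⟩ (Z j).arr
  have h2 := hy (Z j) (hA j) (Z j) (𝟙 _) j (𝟙 _) (hA j)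
  rw [FObj.id_hom, F.obj.mapTop_id, F.obj.mapTop_id] at h2
  exact h1.trans h2

end Glue

section Presentation

variable (h𝒳 : FibCat.IsFibGrpd 𝒳.p) (P : Pres (fibCat π η)) (F : QCoh 𝒳)

theorem covers_pres : Covers (π := π) (η := η) (fun _ : PUnit.{1} => (P.ζ : FObj π η)) := by
  intro z hz
  obtain ⟨z', f, d, h1, h2, h3⟩ := P.cov z hz
  have h2' : Smooth (bmap 𝒳 (FObj.Hom.hom f)) := h2
  have h3' : Surjective (bmap 𝒳 (FObj.Hom.hom f)) := h3
  exact ⟨z', f, PUnit.unit, d, h1, ⟨inferInstance, h3'⟩⟩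

include h𝒳 in
/-- A section of `π_* F` over `η` is determined by its value on the atlas. -/
theorem relSect_ext_pres {s t : Mod.RelSect π F.obj η}
    (h : s.1 (FObj.pt P.ζ) (FObj.arr P.ζ) = t.1 (FObj.pt P.ζ) (FObj.arr P.ζ)) : s = t :=
  relSect_ext_of_covers h𝒳 F (covers_pres P) fun _ => h

/-- The two restrictions to the chart of the fibre product of the atlas with itself. -/
noncomputable def resS : Γ(F.obj.obj (FObj.pt P.ζ), ⊤) →+ Γ(F.obj.obj (FObj.pt P.ρ), ⊤) :=
  resTop F.obj ((fibPt π η).map P.s)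

@[inherit_doc resS]
noncomputable def resT : Γ(F.obj.obj (FObj.pt P.ζ), ⊤) →+ Γ(F.obj.obj (FObj.pt P.ρ), ⊤) :=
  resTop F.obj ((fibPt π η).map P.t)

include h𝒳 in
/-- Construction of a section of `π_* F` over `η` from its value on the atlas. -/
theorem exists_relSect_pres (x : Γ(F.obj.obj (FObj.pt P.ζ), ⊤)) (hx : resS P F x = resT P F x) :
    ∃ s : Mod.RelSect π F.obj η, s.1 (FObj.pt P.ζ) (FObj.arr P.ζ) = x := by
  obtain ⟨s, hs⟩ := exists_relSect_of_covers h𝒳 F (covers_pres P) (fun _ => P.affζ) (fun _ => x) (by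
    intro z _ _ a b hz
    obtain ⟨z', f, e, h1, h2, h3, h4, h5⟩ := P.lift z a b hz
    have h2' : Etale (bmap 𝒳 (FObj.Hom.hom f)) := h2
    have h3' : Surjective (bmap 𝒳 (FObj.Hom.hom f)) := h3
    have hf : IsFCov (FObj.Hom.hom f) := ⟨inferInstance, h3'⟩
    apply mapTop_injective F (FObj.Hom.hom f) h1 hz hf
    have h4' : FObj.Hom.hom f ≫ a.hom = FObj.Hom.hom e ≫ (fibPt π η).map P.s := (congrArg FObj.Hom.hom h4).symm
    have h5' : FObj.Hom.hom f ≫ b.hom = FObj.Hom.hom e ≫ (fibPt π η).map P.t := (congrArg FObj.Hom.hom h5).symm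
    rw [← F.obj.mapTop_comp, ← F.obj.mapTop_comp, h4', h5', F.obj.mapTop_comp, F.obj.mapTop_comp]
    exact congrArg _ hx)
  exact ⟨s, hs PUnit.unit⟩

end Presentation

end K906.Sect
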