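import Groth.Agent.StMod.K908.BC
import Groth.Agent.StMod.K907.Alg
import Mathlib.RingTheory.Flat.IsBaseChange
import Mathlib.RingTheory.RingHom.FaithfullyFlat

/-!
# Commutative algebra for sections: kernels under flat base change, descent of elements, Amitsur in degree zero

All statements in the unbundled language `IsBC φ f` of `Groth.Agent.CohqA.BaseChangeMod`.

* `isBC_ker` : kernels commute with flat base change;
* `exists_of_amitsur` : an element `x` of `N = B ⊗_A M` with `p₁ x = p₂ x` in `(B ⊗_A B) ⊗_A M` comes from `M`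
  (`A → B` faithfully flat);
* `isBC_of_cancel` : `IsBC` of a composite, one factor.
-/

set_option autoImplicit false
set_option linter.style.haveILetI false
set_option linter.unusedVariables false

universe u

open CategoryTheory TensorProduct

namespace K906.SectAlg

open Groth.Agent.CohqA.BaseChangeMod

section

variable {A B : Type u} [CommRing A] [CommRing B]

/-- Kernels commute with flat base change. -/
theorem isBC_ker {φ : A →+* B} (hφ : φ.Flat)
    {M N K M' N' K' : Type u} [AddCommGroup M] [Module A M] [AddCommGroup N] [Module A N]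
    [AddCommGroup K] [Module A K] [AddCommGroup M'] [Module B M'] [AddCommGroup N'] [Module B N']
    [AddCommGroup K'] [Module B K'] {f : M →+ M'} {g : N →+ N'} (hf : IsBC φ f) (hg : IsBC φ g)
    (i : K →ₗ[A] M) (d : M →ₗ[A] N) (i' : K' →ₗ[B] M') (d' : M' →ₗ[B] N') (k : K →+ K')
    (hk : ∀ x, i' (k x) = f (i x)) (hd : ∀ m, d' (f m) = g (d m))
    (hi : Function.Injective i) (hex : Function.Exact i d) (hi' : Function.Injective i')
    (hex' : Function.Exact i' d') : IsBC φ k := by
  letI : Algebra A B := φ.toAlgebra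
  haveI : Module.Flat A B := hφ
  letI : Module A M' := Module.compHom M' φ
  letI : Module A N' := Module.compHom N' φ
  letI : Module A K' := Module.compHom K' φ
  haveI : IsScalarTower A B M' := ⟨fun a b m => by
    change (φ a * b) • m = φ a • b • m
    rw [mul_smul]⟩
  haveI : IsScalarTower A B N' := ⟨fun a b m => by
    change (φ a * b) • m = φ a • b • m
    rw [mul_smul]⟩
  haveI : IsScalarTower A B K' := ⟨fun a b m => by
    change (φ a * b) • m = φ a • b • m
    rw [mul_smul]⟩
  have hks : ∀ (a : A) (x : K), k (a • x) = φ a • k x := by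
    intro a x
    apply hi'
    rw [hk, map_smul, hf.map_smul, map_smul, hk]
  let f' : M →ₗ[A] M' := { toFun := f, map_add' := f.map_add, map_smul' := hf.map_smul }
  let g' : N →ₗ[A] N' := { toFun := g, map_add' := g.map_add, map_smul' := hg.map_smul }
  let k' : K →ₗ[A] K' := { toFun := k, map_add' := k.map_add, map_smul' := hks }
  have hf' : IsBaseChange B f' := (isBC_iff_isBaseChange f').1 hf
  have hg' : IsBaseChange B g' := (isBC_iff_isBaseChange g').1 hg
  have hk' : IsBaseChange B k' := by
    refine IsBaseChange.of_left_exact B k' f' g' (f := i) (g := d) (f' := i') (g' := d') ?_ ?_ hf' hg' hex hi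
      hex' hi'
    · ext x
      exact (hk x).symm
    · ext x
      exact (hd x).symm
  exact (isBC_iff_isBaseChange k').2 hk'

/-- Amitsur exactness in degree zero for modules: `x` in `N = B ⊗_A M` equalized by the two maps to
`P = (B ⊗_A B) ⊗_A M` comes from `M`. -/
theorem exists_of_amitsur {B₂ : Type u} [CommRing B₂] {φ : A →+* B} (hφ : φ.FaithfullyFlat) {i₁ i₂ : B →+* B₂}
    (hpush : IsPushout (CommRingCat.ofHom φ) (CommRingCat.ofHom φ) (CommRingCat.ofHom i₁) (CommRingCat.ofHom i₂))
    {M N P : Type u} [AddCommGroup M] [Module A M] [AddCommGroup N] [Module B N] [AddCommGroup P] [Module B₂ P]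
    {f : M →+ N} (hf : IsBC φ f) {p₁ p₂ : N →+ P} (h₁ : ∀ (b : B) (x : N), p₁ (b • x) = i₁ b • p₁ x)
    (h₂ : IsBC i₂ p₂) (comm : ∀ m, p₁ (f m) = p₂ (f m)) (x : N) (hx : p₁ x = p₂ x) : ∃ m, f m = x := by
  letI : Module A N := Module.compHom N φ
  letI : Module B P := Module.compHom P i₁
  -- `p₂` as a base change of the `A`-module `N` along `φ`
  have hg : IsBC φ p₂ :=
    K908.BC.isBC_of_isPushout (A := A) (B := B) (A' := B) (B' := B₂) φ φ i₂ i₁ hpush (ψ := p₂)
      (fun a m => rfl) (fun b m => rfl) h₂
  let d : M →ₗ[A] N := { toFun := f, map_add' := f.map_add, map_smul' := hf.map_smul }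
  let d' : N →ₗ[B] P := { toFun := p₁, map_add' := p₁.map_add, map_smul' := h₁ }
  obtain ⟨m, hm⟩ := Groth.Agent.Etbase.FFExact.IsBC.exact φ hφ (M := M) (N := N) (M' := N) (N' := P) d d' f p₂
    (K907.Alg.ffIsBC hf) (K907.Alg.ffIsBC hg) (fun m => (comm m).symm) x ⟨x, hx⟩
  exact ⟨m, hm⟩

end

end K906.SectAlg
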