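import Groth.Agent.StMod.K906.Grpd

/-!
# Spans `ζ ⟵ θ ⟶ ζ'` in a category fibred in groupoids and their relative fibre products

For `𝒳 : BasedCategory (Over S)` with `h : FibCat.IsFibGrpd 𝒳.p` (namespace `K906.Span`):

* `IsFib a b x y k l` : `π = θ ×_{ζ ×_𝒳 ζ'} χ` for the spans `(a, b) : θ ⟶ ζ, ζ'` and `(x, y) : χ ⟶ ζ, ζ'`;
* `SpanWith Q a b` : the morphism `θ ⟶ ζ ×_𝒳 ζ'` is representable by schemes (tested on all spans) and has `Q`;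
* `symm_fib`, `flip_fib`, `mono`, `comp_left` (étale cover of the vertex), `comp` (composition of spans along a leg),
  `exists_dom` (two lifts to flat spans are dominated), `exists_affine_factor`.
-/

set_option autoImplicit false
set_option backward.isDefEq.respectTransparency false
set_option backward.isDefEq.respectTransparency.types false

universe w v u

open CategoryTheory CategoryTheory.Limits AlgebraicGeometry StMod MorphismProperty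

namespace K906.Span

open K906.Grpd

variable {S : Scheme.{u}} {𝒳 : BasedCategory.{v, w} (Over S)}

/-- `π = θ ×_{ζ ×_𝒳 ζ'} χ`, a universal property in the category `𝒳.obj`. -/
structure IsFib {θ ζ ζ' χ π : 𝒳.obj} (a : θ ⟶ ζ) (b : θ ⟶ ζ') (x : χ ⟶ ζ) (y : χ ⟶ ζ') (k : π ⟶ θ) (l : π ⟶ χ) :
    Prop where
  wl : k ≫ a = l ≫ x
  wr : k ≫ b = l ≫ y
  univ : ∀ {ρ : 𝒳.obj} (k' : ρ ⟶ θ) (l' : ρ ⟶ χ), k' ≫ a = l' ≫ x → k' ≫ b = l' ≫ y →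
    ∃! u : ρ ⟶ π, u ≫ k = k' ∧ u ≫ l = l'

/-- The morphism `θ ⟶ ζ ×_𝒳 ζ'` is representable by schemes and has the property `Q`. -/
def SpanWith (Q : MorphismProperty Scheme.{u}) {θ ζ ζ' : 𝒳.obj} (a : θ ⟶ ζ) (b : θ ⟶ ζ') : Prop :=
  ∀ ⦃χ : 𝒳.obj⦄ (x : χ ⟶ ζ) (y : χ ⟶ ζ'), ∃ (π : 𝒳.obj) (k : π ⟶ θ) (l : π ⟶ χ),
    IsFib a b x y k l ∧ Q (bmap 𝒳 l)

namespace IsFib

variable {θ ζ ζ' χ π : 𝒳.obj} {a : θ ⟶ ζ} {b : θ ⟶ ζ'} {x : χ ⟶ ζ} {y : χ ⟶ ζ'} {k : π ⟶ θ} {l : π ⟶ χ}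

/-- Exchanging the two legs. -/
theorem swap (H : IsFib a b x y k l) : IsFib b a y x k l :=
  ⟨H.wr, H.wl, fun k' l' h1 h2 => H.univ k' l' h2 h1⟩

/-- Exchanging the two spans. -/
theorem symm (H : IsFib a b x y k l) : IsFib x y a b l k := by
  refine ⟨H.wl.symm, H.wr.symm, fun k' l' h1 h2 => ?_⟩
  obtain ⟨u, hu, huu⟩ := H.univ l' k' h1.symm h2.symm
  exact ⟨u, hu.symm, fun v hv => huu v hv.symm⟩

noncomputable def lift (H : IsFib a b x y k l) {ρ : 𝒳.obj} (k' : ρ ⟶ θ) (l' : ρ ⟶ χ) (h1 : k' ≫ a = l' ≫ x)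
    (h2 : k' ≫ b = l' ≫ y) : ρ ⟶ π :=
  (H.univ k' l' h1 h2).exists.choose

@[reassoc (attr := simp)]
theorem lift_fst (H : IsFib a b x y k l) {ρ : 𝒳.obj} (k' : ρ ⟶ θ) (l' : ρ ⟶ χ) (h1 : k' ≫ a = l' ≫ x)
    (h2 : k' ≫ b = l' ≫ y) : H.lift k' l' h1 h2 ≫ k = k' :=
  (H.univ k' l' h1 h2).exists.choose_spec.1

@[reassoc (attr := simp)]
theorem lift_snd (H : IsFib a b x y k l) {ρ : 𝒳.obj} (k' : ρ ⟶ θ) (l' : ρ ⟶ χ) (h1 : k' ≫ a = l' ≫ x)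
    (h2 : k' ≫ b = l' ≫ y) : H.lift k' l' h1 h2 ≫ l = l' :=
  (H.univ k' l' h1 h2).exists.choose_spec.2

theorem hom_ext (H : IsFib a b x y k l) {ρ : 𝒳.obj} {u v : ρ ⟶ π} (h1 : u ≫ k = v ≫ k) (h2 : u ≫ l = v ≫ l) :
    u = v :=
  (H.univ (v ≫ k) (v ≫ l) (by rw [Category.assoc, H.wl, Category.assoc])
    (by rw [Category.assoc, H.wr, Category.assoc])).unique ⟨h1, h2⟩ ⟨rfl, rfl⟩

/-- Two relative fibre products are isomorphic. -/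
theorem exists_iso {π' : 𝒳.obj} {k' : π' ⟶ θ} {l' : π' ⟶ χ} (H : IsFib a b x y k l) (H' : IsFib a b x y k' l') :
    ∃ e : π ≅ π', e.hom ≫ k' = k ∧ e.hom ≫ l' = l :=
  ⟨⟨H'.lift k l H.wl H.wr, H.lift k' l' H'.wl H'.wr, H.hom_ext (by simp) (by simp), H'.hom_ext (by simp) (by simp)⟩,
    by simp, by simp⟩

/-- Change of the vertex `χ` of the testing span: pulling back along `c : χ' ⟶ χ`. -/
theorem paste {χ' π' : 𝒳.obj} {c : χ' ⟶ χ} {m : π' ⟶ π} {l' : π' ⟶ χ'} (H : IsFib a b x y k l)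
    (hp : IsPullback m l' l c) : IsFib a b (c ≫ x) (c ≫ y) (m ≫ k) l' := by
  refine ⟨?_, ?_, fun k'' l'' h1 h2 => ?_⟩
  · rw [Category.assoc, H.wl, ← Category.assoc, hp.w, Category.assoc]
  · rw [Category.assoc, H.wr, ← Category.assoc, hp.w, Category.assoc]
  · refine ⟨hp.lift (H.lift k'' (l'' ≫ c) (by rw [h1, Category.assoc]) (by rw [h2, Category.assoc])) l''
      (by rw [H.lift_snd]), ⟨?_, ?_⟩, ?_⟩
    · simp
    · simp
    · rintro v ⟨hv1, hv2⟩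
      refine hp.hom_ext ?_ ?_
      · rw [hp.lift_fst]
        refine H.hom_ext ?_ ?_
        · rw [H.lift_fst, ← hv1, Category.assoc]
        · rw [H.lift_snd, Category.assoc, hp.w, ← hv2, Category.assoc]
      · rw [hp.lift_snd, hv2]

/-- Change of the vertex `θ`. -/
theorem paste' {θ' π' : 𝒳.obj} {c : θ' ⟶ θ} {m : π' ⟶ π} {k' : π' ⟶ θ'} (H : IsFib a b x y k l)
    (hp : IsPullback m k' k c) : IsFib (c ≫ a) (c ≫ b) x y k' (m ≫ l) :=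
  (H.symm.paste hp).symm

end IsFib

namespace SpanWith

variable {Q Q' : MorphismProperty Scheme.{u}} {θ ζ ζ' : 𝒳.obj} {a : θ ⟶ ζ} {b : θ ⟶ ζ'}

theorem mono (H : SpanWith Q a b) (hQ : Q ≤ Q') : SpanWith Q' a b := fun _ x y =>
  let ⟨π, k, l, h1, h2⟩ := H x y
  ⟨π, k, l, h1, hQ _ h2⟩

theorem swap (H : SpanWith Q a b) : SpanWith Q b a := fun _ x y =>
  let ⟨π, k, l, h1, h2⟩ := H y x
  ⟨π, k, l, h1.swap, h2⟩

/-- Any relative fibre product will do. -/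
theorem prop_of_isFib [Q.RespectsIso] (H : SpanWith Q a b) {χ π : 𝒳.obj} {x : χ ⟶ ζ} {y : χ ⟶ ζ'}
    {k : π ⟶ θ} {l : π ⟶ χ} (hf : IsFib a b x y k l) : Q (bmap 𝒳 l) := by
  obtain ⟨π', k', l', h1, h2⟩ := H x y
  obtain ⟨e, he1, he2⟩ := hf.exists_iso h1
  rw [← he2, bmap_comp]
  have : IsIso (bmap 𝒳 e.hom) := by
    have : IsIso ((Over.forget S).map (𝒳.p.map e.hom)) := inferInstance
    exact this
  exact (cancel_left_of_respectsIso Q (bmap 𝒳 e.hom) (bmap 𝒳 l')).2 h2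

/-- Precomposing the vertex with a morphism having `Q`. -/
theorem comp_left [Q.IsStableUnderBaseChange] [Q.IsStableUnderComposition] (h : FibCat.IsFibGrpd 𝒳.p)
    (H : SpanWith Q a b) {θ' : 𝒳.obj} (c : θ' ⟶ θ) (hc : Q (bmap 𝒳 c)) : SpanWith Q (c ≫ a) (c ≫ b) := by
  intro χ x y
  obtain ⟨π, k, l, h1, h2⟩ := H x y
  obtain ⟨w, m, n, hp⟩ := exists_isPullback h k c
  refine ⟨w, n, m ≫ l, h1.paste' hp, ?_⟩
  rw [bmap_comp]
  exact Q.comp_mem _ _ (Q.of_isPullback (isPullback_bmap h hp).flip hc) h2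

/-- Composition of spans: `θ₁ ⟶ ζ ×_𝒳 η` any span whose leg `θ₁ ⟶ ζ` has `Q`, and `θ₂ ⟶ η ×_𝒳 ζ'` with `Q`; then
`θ₁ ×_η θ₂ ⟶ ζ ×_𝒳 ζ'` has `Q`. -/
theorem comp [Q.IsStableUnderBaseChange] [Q.IsStableUnderComposition] (h : FibCat.IsFibGrpd 𝒳.p)
    {θ₁ θ₂ η π : 𝒳.obj} {a : θ₁ ⟶ ζ} {b : θ₁ ⟶ η} {c : θ₂ ⟶ η} {d : θ₂ ⟶ ζ'} {k : π ⟶ θ₁} {l : π ⟶ θ₂}
    (hp : IsPullback k l b c) (ha : Q (bmap 𝒳 a)) (H : SpanWith Q c d) : SpanWith Q (k ≫ a) (l ≫ d) := by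
  intro χ x y
  obtain ⟨α, s, t, hα⟩ := exists_isPullback h a x
  obtain ⟨ω, m, n, hf, hn⟩ := H (s ≫ b) (t ≫ y)
  refine ⟨ω, hp.lift (n ≫ s) m (by rw [hf.wl, Category.assoc]), n ≫ t, ⟨?_, ?_, ?_⟩, ?_⟩
  · rw [hp.lift_fst_assoc, Category.assoc, hα.w, Category.assoc]
  · rw [hp.lift_snd_assoc, hf.wr, Category.assoc]
  · intro ρ k' l' h1 h2
    refine ⟨hf.lift (k' ≫ l) (hα.lift (k' ≫ k) l' (by rw [Category.assoc, h1])) ?_ ?_, ⟨?_, ?_⟩, ?_⟩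
    · rw [hα.lift_fst_assoc, Category.assoc, Category.assoc, hp.w]
    · rw [hα.lift_snd_assoc, Category.assoc, h2]
    · refine hp.hom_ext ?_ ?_
      · simp
      · simp
    · simp
    · rintro v ⟨hv1, hv2⟩
      refine hf.hom_ext ?_ ?_
      · rw [hf.lift_fst, ← hv1, Category.assoc, hp.lift_snd]
      · rw [hf.lift_snd]
        refine hα.hom_ext ?_ ?_
        · rw [hα.lift_fst, ← hv1, Category.assoc, Category.assoc, hp.lift_fst]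
        · rw [hα.lift_snd, ← hv2, Category.assoc]
  · rw [bmap_comp]
    exact Q.comp_mem _ _ hn (Q.of_isPullback (isPullback_bmap h hα) ha)

/-- For spans between objects `ζ ⟵ θ ⟶ ζ'`, composing a leg `b : θ ⟶ ζ'` with `c : ζ' ⟶ ζ''` having `Q`. -/
theorem comp_right [Q.IsStableUnderBaseChange] [Q.IsStableUnderComposition] (h : FibCat.IsFibGrpd 𝒳.p)
    (H : SpanWith Q a b) {ζ'' : 𝒳.obj} (c : ζ' ⟶ ζ'') (hc : Q (bmap 𝒳 c)) : SpanWith Q a (b ≫ c) := by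
  intro χ x y
  obtain ⟨α, s, t, hα⟩ := exists_isPullback h c y
  obtain ⟨ω, m, n, hf, hn⟩ := H (t ≫ x) s
  refine ⟨ω, m, n ≫ t, ⟨?_, ?_, ?_⟩, ?_⟩
  · rw [hf.wl, Category.assoc]
  · rw [← Category.assoc, hf.wr, Category.assoc, hα.w, Category.assoc]
  · intro ρ k' l' h1 h2
    refine ⟨hf.lift k' (hα.lift (k' ≫ b) l' (by rw [Category.assoc, h2])) ?_ ?_, ⟨?_, ?_⟩, ?_⟩
    · rw [hα.lift_snd_assoc, h1]
    · rw [hα.lift_fst]
    · simp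
    · simp
    · rintro v ⟨hv1, hv2⟩
      refine hf.hom_ext ?_ ?_
      · rw [hf.lift_fst, hv1]
      · rw [hf.lift_snd]
        refine hα.hom_ext ?_ ?_
        · rw [hα.lift_fst, Category.assoc, ← hf.wr, ← Category.assoc, hv1]
        · rw [hα.lift_snd, Category.assoc, hv2]
  · rw [bmap_comp]
    exact Q.comp_mem _ _ hn (Q.of_isPullback (isPullback_bmap h hα) hc)

/-- The identity span of a morphism: `ζ ⟵ ζ ⟶ ζ'`, i.e. the graph, is what one gets from `ζ ×_{ζ'} ζ'`; here: a span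
`(a, b)` tested against a span `(x, y)` restricted along `c`. -/
theorem exists_fib (h : FibCat.IsFibGrpd 𝒳.p) (H : SpanWith Q a b) [Q.IsStableUnderBaseChange]
    {χ χ' π : 𝒳.obj} {x : χ ⟶ ζ} {y : χ ⟶ ζ'} {k : π ⟶ θ} {l : π ⟶ χ} (hf : IsFib a b x y k l) (c : χ' ⟶ χ) :
    ∃ (π' : 𝒳.obj) (m : π' ⟶ π) (l' : π' ⟶ χ'), IsPullback m l' l c ∧ IsFib a b (c ≫ x) (c ≫ y) (m ≫ k) l' ∧
      Q (bmap 𝒳 l') := by
  obtain ⟨w, m, n, hp⟩ := exists_isPullback h l c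
  exact ⟨w, m, n, hp, hf.paste hp, Q.of_isPullback (isPullback_bmap h hp) (H.prop_of_isFib hf)⟩

end SpanWith

end K906.Span
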